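import Groth.Agent.Lib.NumPoly18.NefApps

/-!
# Nef and big invertible modules: the numerical criterion
-/

set_option autoImplicit false
set_option linter.style.haveILetI false
set_option maxHeartbeats 1600000
set_option backward.isDefEq.respectTransparency false

universe u

open CategoryTheory CategoryTheory.Limits AlgebraicGeometry TopologicalSpace Opposite Filter

namespace Groth.Agent.NumPoly18

open Groth.Agent Groth.Agent.Snapper
open Groth.Agent.CurveCoh17 (hequiv)

variable {X : Scheme.{u}} {k : Type u} [Field k] [X.Over (Spec (CommRingCat.of k))]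

theorem md_perm {r : ℕ} (σ : Equiv.Perm (Fin r)) (L : Fin r → X.Modules) (F : X.Modules) :
    md k (fun i => L (σ i)) F = md k L F := by
  simp only [md, mixedDiff]
  refine Fintype.sum_equiv σ.finsetCongr _ _ fun I => ?_
  rw [Equiv.finsetCongr_apply, Finset.card_map, chi, chi]
  congr 1
  refine congrArg (fun z : ℤ => (z : ℚ)) (CurveCoh17.euler_iso (M2.tensorIso (Iso.refl F) (Classical.choice ?_)))
  have h : ((List.finRange r).map fun i => CohB1.tensorPow (L (σ i)) (ind I i)) =
      (((List.finRange r).map σ).map fun i => CohB1.tensorPow (L i) (ind (I.map σ.toEmbedding) i)) := by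
    rw [List.map_map]
    refine List.map_congr_left fun i _ => ?_
    simp [ind]
  simp only [FGA.multiTwist]
  rw [h]
  exact nonempty_tensorList_perm ((List.Perm.map _ (Equiv.Perm.map_finRange_perm σ)))

/-- Changing `C` into `D` slot by slot. -/
theorem md_hybrid {P : X.Modules → Prop} {C D : X.Modules} (hC : P C) (hD : P D) {r : ℕ} (F : X.Modules)
    (R : ℕ → ℚ → Prop) (h0 : R 0 (md k (fun _ : Fin (r + 1) => C) F))
    (hstep : ∀ (i : ℕ) (M : Fin r → X.Modules), (∀ j, P (M j)) →
      R i (md k (Fin.cons C M : Fin (r + 1) → X.Modules) F) →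
        R (i + 1) (md k (Fin.cons D M : Fin (r + 1) → X.Modules) F)) :
    R (r + 1) (md k (fun _ : Fin (r + 1) => D) F) := by
  classical
  let mix : ℕ → Fin (r + 1) → X.Modules := fun i j => if (j : ℕ) < i then D else C
  have key : ∀ i, i ≤ r + 1 → R i (md k (mix i) F) := by
    intro i
    induction i with
    | zero => intro _; simpa [mix] using h0
    | succ i ih =>
      intro hi
      let σ := Equiv.swap (0 : Fin (r + 1)) ⟨i, hi⟩
      let M : Fin r → X.Modules := fun j => mix i (σ j.succ)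
      have hne : ∀ j : Fin r, (σ j.succ : ℕ) ≠ i := fun j h => by
        have h' : σ j.succ = ⟨i, hi⟩ := Fin.ext h
        rw [← Equiv.swap_apply_left (0 : Fin (r + 1)) ⟨i, hi⟩] at h'
        exact Fin.succ_ne_zero j (σ.injective h')
      have e1 : (fun j => mix i (σ j)) = (Fin.cons C M : Fin (r + 1) → X.Modules) := funext fun j => by
        refine Fin.cases ?_ (fun j => ?_) j
        · simp [σ, mix]
        · simp [M]
      have e2 : (fun j => mix (i + 1) (σ j)) = (Fin.cons D M : Fin (r + 1) → X.Modules) := funext fun j => by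
        refine Fin.cases ?_ (fun j => ?_) j
        · simp [σ, mix]
        · have := hne j
          simp only [Fin.cons_succ, M, mix]
          by_cases h : (σ j.succ : ℕ) < i
          · rw [if_pos h, if_pos (h.trans (Nat.lt_succ_self i))]
          · rw [if_neg h, if_neg (fun h' => h (lt_of_le_of_ne (Nat.le_of_lt_succ h') this))]
      have h1 := hstep i M (fun j => by
        simp only [M, mix]
        split_ifs
        · exact hD
        · exact hC) (by rw [← e1, md_perm σ (mix i)]; exact ih (Nat.le_of_succ_le hi))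
      rw [← e2, md_perm σ (mix (i + 1))] at h1
      exact h1
  have h := key (r + 1) le_rfl
  rwa [show mix (r + 1) = fun _ => D from funext fun j => if_pos j.isLt] at h

variable [IsProper (X ↘ Spec (CommRingCat.of k))]

theorem md_const_inverse {L L' : X.Modules} (hL : PicF.IsInvertible L) (hL' : PicF.IsInvertible L')
    (e : CohB1.tensorMod L L' ≅ Coh.structureModule X) {F : X.Modules} (hF : Coh.IsCoh F) {r : ℕ}
    (hr : topologicalKrullDim (CohB1.support F) ≤ (r : WithBot ℕ∞)) :
    md k (fun _ : Fin r => L') F = (-1 : ℚ) ^ r * md k (fun _ : Fin r => L) F := by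
  rcases r with _ | r
  · rw [pow_zero, one_mul, md_zero_vars, md_zero_vars]
  refine md_hybrid (P := PicF.IsInvertible) (C := L) (D := L') hL hL' F
    (fun i x => x = (-1 : ℚ) ^ i * md k (fun _ : Fin (r + 1) => L) F) (by simp) fun i M hM h => ?_
  rw [md_cons_inverse hL hL' e hM hF hr, h, pow_succ]
  ring

theorem md_const_pow {L : X.Modules} (hL : PicF.IsInvertible L) {F : X.Modules} (hF : Coh.IsCoh F) {r : ℕ}
    (hr : topologicalKrullDim (CohB1.support F) ≤ (r : WithBot ℕ∞)) (m : ℕ) :
    md k (fun _ : Fin r => CohB1.tensorPow L m) F = (m : ℚ) ^ r * md k (fun _ : Fin r => L) F := by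
  rcases r with _ | r
  · rw [pow_zero, one_mul, md_zero_vars, md_zero_vars]
  refine md_hybrid (P := PicF.IsInvertible) (C := L) (D := CohB1.tensorPow L m) hL
    (M2.isInvertible_tensorPow hL m) F
    (fun i x => x = (m : ℚ) ^ i * md k (fun _ : Fin (r + 1) => L) F) (by simp) fun i M hM h => ?_
  rw [md_cons_pow hL hM hF hr, h, pow_succ]
  ring

/-- Monotonicity of intersection numbers in all slots. -/
theorem md_const_le {C D G : X.Modules} (hC : PicF.IsInvertible C) (hCn : Nef k C) (hD : PicF.IsInvertible D)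
    (hDn : Nef k D) (hG : PicF.IsInvertible G) (e : CohB1.tensorMod C G ≅ D) {F : X.Modules} (hF : Coh.IsCoh F)
    {r : ℕ} (hr : topologicalKrullDim (CohB1.support F) ≤ (r : WithBot ℕ∞))
    (hpos : ∀ (s : ℕ) (M : Fin s → X.Modules), s + 1 = r → (∀ i, PicF.IsInvertible (M i)) → (∀ i, Nef k (M i)) →
      0 ≤ md k (Fin.cons G M : Fin (s + 1) → X.Modules) F) :
    md k (fun _ : Fin r => C) F ≤ md k (fun _ : Fin r => D) F := by
  rcases r with _ | r
  · rw [md_zero_vars, md_zero_vars]
  refine md_hybrid (P := fun N => PicF.IsInvertible N ∧ Nef k N) (C := C) (D := D) ⟨hC, hCn⟩ ⟨hD, hDn⟩ F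
    (fun _ x => md k (fun _ : Fin (r + 1) => C) F ≤ x) le_rfl fun i M hM h => h.trans ?_
  rw [← md_congr (L := (Fin.cons (CohB1.tensorMod C G) M : Fin (r + 1) → X.Modules))
    (L' := Fin.cons D M) (Fin.cases ⟨by simpa using e⟩ fun j => ⟨Iso.refl _⟩),
    md_cons_tensor hC hG (fun j => (hM j).1) hF hr]
  exact le_add_of_nonneg_right (hpos r M rfl (fun j => (hM j).1) fun j => (hM j).2)

/-- An effective module is nonnegative against nef modules. -/
theorem md_cons_nonneg_of_hasMonoSec [IsIntegral X] {A : X.Modules} (hA : CohB1.IsAmple A) {G : X.Modules}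
    (hG : PicF.IsInvertible G) (h : HasMonoSec G) {r : ℕ} (hd : topologicalKrullDim X ≤ ((r + 1 : ℕ) : WithBot ℕ∞))
    {M : Fin r → X.Modules} (hM : ∀ i, PicF.IsInvertible (M i)) (hn : ∀ i, Nef k (M i)) :
    0 ≤ md k (Fin.cons G M : Fin (r + 1) → X.Modules) (Coh.structureModule X) := by
  haveI : IsNoetherian X := CohFound.isNoetherian_of_isProper (X ↘ (Spec (CommRingCat.of k)))
  obtain ⟨s, hs⟩ := h
  haveI := hs
  have hO := M1.isCoh_structureModule X
  have hQ : Coh.IsCoh (cokernel s) := M1.isCoh_cokernel hO.1 (isCoh_of_isInvertible hG) s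
  have hr1 := (M2.isInvertible_iff_isFinLocFreeOfRank_one _).1 hG
  have hη : genericPoint X ∉ CohB1.support (cokernel s) := (M1.notMem_support_iff _ _).2
    (CurveCoh17.eq_zero_stalk_cokernel _ _ (CurveCoh17.surjective_stalkLin_genericPoint
      (CurveCoh17.nonempty_stalk_equiv_structureModule _) (CurveCoh17.nonempty_stalk_equiv hr1 _) _
      ((M1.mono_iff_stalk s).1 hs _)))
  rw [md_cons_of_section hG s hM]
  exact md_nonneg_of_nef hA hM hn hQ (dim_le_of_notMem (M1.isClosed_support hQ.2)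
    ((genericPoint_closure X).symm ▸ Set.subset_univ _) hη
    ((Topology.IsInducing.subtypeVal.topologicalKrullDim_le).trans hd))

omit [IsProper (X ↘ Spec (CommRingCat.of k))] in
theorem dim_support_le {d : ℕ} (hd : topologicalKrullDim X ≤ (d : WithBot ℕ∞)) (F : X.Modules) :
    topologicalKrullDim (CohB1.support F) ≤ (d : WithBot ℕ∞) :=
  Topology.IsInducing.subtypeVal.topologicalKrullDim_le.trans hd

/-- A big nef module has positive self intersection. -/
theorem md_pos_of_mono [IsIntegral X] {d : ℕ} (hd : topologicalKrullDim X = (d : WithBot ℕ∞)) {A : X.Modules}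
    (hA : CohB1.IsAmple A) {L : X.Modules} (hL : PicF.IsInvertible L) (hn : Nef k L) {m : ℕ}
    (φ : A ⟶ CohB1.tensorPow L m) [Mono φ] :
    0 < md k (fun _ : Fin d => L) (Coh.structureModule X) := by
  haveI : IsNoetherian X := CohFound.isNoetherian_of_isProper (X ↘ (Spec (CommRingCat.of k)))
  obtain ⟨A', hA', ⟨e⟩⟩ := M2.exists_inverse hA.1
  have hP := M2.isInvertible_tensorPow hL m
  have hO := M1.isCoh_structureModule X
  have hdim := dim_support_le hd.le (Coh.structureModule X)
  have h1 : md k (fun _ : Fin d => A) (Coh.structureModule X) ≤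
      md k (fun _ : Fin d => CohB1.tensorPow L m) (Coh.structureModule X) := by
    refine md_const_le hA.1 (nef_of_isAmple hA) hP (hn.pow hL m)
      (M2.isInvertible_tensor hP hA') ?_ hO hdim fun s M hs hM hMn => ?_
    · exact M2.tensorIso (Iso.refl _) (M2.tensorComm _ _) ≪≫ (M2.tensorAssoc _ _ _).symm ≪≫
        M2.tensorIso e (Iso.refl _) ≪≫ M2.tensorLUnit _
    · subst hs
      exact md_cons_nonneg_of_hasMonoSec hA (M2.isInvertible_tensor hP hA') (hasMonoSec_of_mono φ hA' e) hd.le hM hMn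
  rw [md_const_pow hL hO hdim] at h1
  exact pos_of_mul_pos_right (lt_of_lt_of_le (asymptotic_rr k hd hA).1 h1) (by positivity)

/-- The leading coefficient of a Hilbert polynomial. -/
theorem md_const_eq_coeff {L F : X.Modules} {r : ℕ} {Q : Polynomial ℚ} (hQ : Q.natDegree ≤ r)
    (h : ShStab.IsHilbPoly k X L F Q) : md k (fun _ : Fin r => L) F = (r.factorial : ℚ) * Q.coeff r := by
  refine mixedDiff_of_eval_sum _ Q hQ fun I => ?_
  obtain ⟨e⟩ := nonempty_multiTwist_const L (ind I)
  rw [show (∑ i, ind I i) = I.card from by simp [ind, Finset.filter_mem_eq_inter]] at e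
  rw [← h I.card, chi, ShStab.twist, CurveCoh17.euler_iso (M2.tensorIso (Iso.refl F) e)]

theorem eventually_h0_eq_eval {A F : X.Modules} (hA : CohB1.IsAmple A) (hF : Coh.IsCoh F) {Q : Polynomial ℚ}
    (h : ShStab.IsHilbPoly k X A F Q) :
    ∀ᶠ n : ℕ in atTop,
      (Module.finrank k (Coh.HH X (CohB1.tensorMod F (CohB1.tensorPow A n)) 0) : ℚ) = Q.eval (n : ℚ) := by
  haveI : IsNoetherian X := CohFound.isNoetherian_of_isProper (X ↘ (Spec (CommRingCat.of k)))
  obtain ⟨n₀, hn₀⟩ := CohFound.exists_vanishing_all (X ↘ Spec (CommRingCat.of k)) hA hF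
  refine eventually_atTop.2 ⟨n₀, fun n hn => ?_⟩
  rw [← h n, ShStab.twist, Curv2.euler, finsum_eq_single _ 0 fun p hp => by
    haveI : Subsingleton (Coh.HH X (CohB1.tensorMod F (CohB1.tensorPow A n)) p) := (CohFound.subsingleton_HH_iff _ p).2
      (hn₀ n hn p (Nat.pos_of_ne_zero hp))
    simp [Module.finrank_zero_of_subsingleton]]
  simp

theorem finrank_h0_eq {M N : X.Modules} (e : M ≅ N) :
    Module.finrank k (Coh.HH X M 0) = Module.finrank k (Coh.HH X N 0) := (hequiv k e 0).finrank_eq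

/-- If `A ^ d > d · H · A ^ (d - 1)` then `A ⊗ H'` has maximal growth of sections. -/
theorem exists_tensor_growth [IsIntegral X] {r : ℕ} (hd : topologicalKrullDim X = ((r + 1 : ℕ) : WithBot ℕ∞))
    {H H' A : X.Modules} (hH : CohB1.IsAmple H) (hH' : PicF.IsInvertible H')
    (e : CohB1.tensorMod H H' ≅ Coh.structureModule X) (hA : CohB1.IsAmple A) (hs : HasMonoSec H)
    (hpos : ((r : ℚ) + 1) * md k (Fin.cons H (fun _ : Fin r => A) : Fin (r + 1) → X.Modules) (Coh.structureModule X) <
      md k (fun _ : Fin (r + 1) => A) (Coh.structureModule X)) :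
    ∃ C : ℚ, 0 < C ∧ ∃ n₁ : ℕ, ∀ n, n₁ ≤ n → C * (n : ℚ) ^ (r + 1) ≤
      (Module.finrank k (Coh.HH X (CohB1.tensorPow (CohB1.tensorMod A H') n) 0) : ℚ) := by
  haveI : IsNoetherian X := CohFound.isNoetherian_of_isProper (X ↘ (Spec (CommRingCat.of k)))
  obtain ⟨s, hsm⟩ := hs
  haveI := hsm
  have hO := M1.isCoh_structureModule X
  let Q := cokernel s
  have hQ : Coh.IsCoh Q := M1.isCoh_cokernel hO.1 (isCoh_of_isInvertible hH.1) s
  have hr1 := (M2.isInvertible_iff_isFinLocFreeOfRank_one _).1 hH.1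
  have hη : genericPoint X ∉ CohB1.support Q := (M1.notMem_support_iff _ _).2
    (CurveCoh17.eq_zero_stalk_cokernel _ _ (CurveCoh17.surjective_stalkLin_genericPoint
      (CurveCoh17.nonempty_stalk_equiv_structureModule _) (CurveCoh17.nonempty_stalk_equiv hr1 _) _
      ((M1.mono_iff_stalk s).1 hsm _)))
  have hQd : topologicalKrullDim (CohB1.support Q) ≤ (r : WithBot ℕ∞) := dim_le_of_notMem (M1.isClosed_support hQ.2)
    ((genericPoint_closure X).symm ▸ Set.subset_univ _) hη ((Topology.IsInducing.subtypeVal.topologicalKrullDim_le).trans hd.le)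
  -- regular sections of large powers of `H` on `Q`
  have hfin : {x : X | Curv2.IsWeakAssPoint Q x}.Finite :=
    (WA.finite_weakAss hQ.1 hQ.2 (U := ⊤) isCompact_univ).subset fun x hx => ⟨trivial, hx⟩
  obtain ⟨W, a₀, hWZ, hW⟩ := RA.exists_gen_nhd_finite hH (PicLoc.isInvertible_structureModule X) hfin
  have hreg : ∀ N, a₀ ≤ N → ∀ {T : X.Modules}, PicF.IsInvertible T →
      ∀ (P : X.Modules) (_ : CohB1.tensorMod T (CohB1.tensorPow H N) ≅ P),
        Module.finrank k (Coh.HH X (CohB1.tensorMod Q T) 0) ≤ Module.finrank k (Coh.HH X (CohB1.tensorMod Q P) 0) := by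
    intro N hN T hT P eP
    obtain ⟨t, ht⟩ := hW N hN
    have hHN := M2.isInvertible_tensorPow hH.1 N
    have hON := M2.isInvertible_tensor (PicLoc.isInvertible_structureModule X) hHN
    have hP : PicF.IsInvertible P := M2.isInvertible_of_iso eP (M2.isInvertible_tensor hT hHN)
    obtain ⟨D, hD, ⟨eD⟩⟩ := M2.exists_inverse hON
    have hF : Coh.IsCoh (CohB1.tensorMod Q P) := CurveCoh17.isCoh_tensor hQ (isCoh_of_isInvertible hP)
    haveI : Mono (mulMap (secMap t eD) (CohB1.tensorMod Q P)) := mono_mulMap hD _ hF.1 fun y hy =>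
      (surjective_secMap_iff hON hD t eD y).2 (ht (hWZ ((WA.isAssPoint_iff y).1
        (NegTwist18.isAssPoint_of_tensor hP ((WA.isAssPoint_iff y).2 hy)))))
    rw [finrank_h0_eq (k := k) (show CohB1.tensorMod Q T ≅ CohB1.tensorMod D (CohB1.tensorMod Q P) from
      M2.tensorIso (Iso.refl Q) ((M2.tensorLUnit T).symm ≪≫
        M2.tensorIso (eD.symm ≪≫ M2.tensorComm _ _ ≪≫ M2.tensorIso (Iso.refl D) (M2.tensorLUnit _)) (Iso.refl T) ≪≫
        M2.tensorAssoc _ _ _ ≪≫ M2.tensorIso (Iso.refl D) (M2.tensorComm _ _ ≪≫ eP)) ≪≫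
      (M2.tensorAssoc Q D P).symm ≪≫ M2.tensorIso (M2.tensorComm Q D) (Iso.refl P) ≪≫ M2.tensorAssoc D Q P)]
    exact finrank_h0_le_of_mono k (mulMap (secMap t eD) _) hF
  have hHa := M2.isInvertible_tensorPow hH.1 a₀
  let Q' := CohB1.tensorMod Q (CohB1.tensorPow H a₀)
  have hQ' : Coh.IsCoh Q' := CurveCoh17.isCoh_tensor hQ (isCoh_of_isInvertible hHa)
  have hQ'd : topologicalKrullDim (CohB1.support Q') ≤ (r : WithBot ℕ∞) :=
    dim_le_of_subset (support_tensor_subset _ _) hQd
  have hAr : ∀ _ : Fin r, PicF.IsInvertible A := fun _ => hA.1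
  have hmdQ : md k (fun _ : Fin r => A) Q' =
      md k (Fin.cons H (fun _ : Fin r => A) : Fin (r + 1) → X.Modules) (Coh.structureModule X) := by
    rw [md_cons_of_section hH.1 s hAr]
    have h0 := md_eq_zero (k := k) (isInvertible_cons hHa hAr) hQ hQd (Nat.lt_succ_self r)
    rw [md_cons, sub_eq_zero] at h0
    exact h0
  obtain ⟨P₁, hP₁, hP₁d, -⟩ := exists_isHilbPoly_dim k hA.1 hO (dim_support_le hd.le _)
  obtain ⟨P₂, hP₂, hP₂d, -⟩ := exists_isHilbPoly_dim k hA.1 hQ' hQ'd
  let R := P₁ - Polynomial.X * P₂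
  have hRd : R.natDegree ≤ r + 1 := (Polynomial.natDegree_sub_le _ _).trans
    (max_le hP₁d ((Polynomial.natDegree_mul_le).trans (by simp only [Polynomial.natDegree_X]; omega)))
  have hRc : 0 < R.coeff (r + 1) := by
    rw [Polynomial.coeff_sub, Polynomial.coeff_X_mul]
    rw [← hmdQ, md_const_eq_coeff hP₁d hP₁, md_const_eq_coeff hP₂d hP₂, Nat.factorial_succ] at hpos
    push_cast at hpos
    have hf : (0 : ℚ) < ((r : ℚ) + 1) * (r.factorial : ℚ) := by positivity
    by_contra hle
    push Not at hle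
    nlinarith
  obtain ⟨n₁, hn₁⟩ := eventually_atTop.1
    (((AVDegree22.tendsto_coeff_of_natDegree_le R hRd).eventually (eventually_ge_nhds (half_lt_self hRc))).and
      ((eventually_h0_eq_eval hA hO hP₁).and ((eventually_h0_eq_eval hA hQ' hP₂).and (eventually_ge_atTop 1))))
  refine ⟨R.coeff (r + 1) / 2, by linarith, n₁, fun n hn => ?_⟩
  obtain ⟨h1, h2, h3, h4⟩ := hn₁ n hn
  have hn0 : (0 : ℚ) < (n : ℚ) ^ (r + 1) := pow_pos (Nat.cast_pos.2 (by omega)) _
  refine ((le_div_iff₀ hn0).1 h1).trans ?_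
  simp only [R, Polynomial.eval_sub, Polynomial.eval_mul, Polynomial.eval_X]
  rw [← h2, ← h3]
  -- telescoping
  let E : ℕ → X.Modules := fun i => CohB1.tensorMod (CohB1.tensorPow A n) (CohB1.tensorPow H' i)
  have hE : ∀ i, PicF.IsInvertible (E i) := fun i =>
    M2.isInvertible_tensor (M2.isInvertible_tensorPow hA.1 n) (M2.isInvertible_tensorPow hH' i)
  let S : ShortComplex X.Modules := ShortComplex.mk s (cokernel.π s) (cokernel.condition _)
  have hS : S.ShortExact := { exact := ShortComplex.exact_cokernel s }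
  have step : ∀ i, Module.finrank k (Coh.HH X (E i) 0) ≤ Module.finrank k (Coh.HH X (E (i + 1)) 0) +
      Module.finrank k (Coh.HH X (CohB1.tensorMod Q' (CohB1.tensorPow A n)) 0) := by
    intro i
    have hc := isCoh_of_isInvertible (hE (i + 1))
    have h := finrank_h0_le_of_shortExact k (CurveCoh17.shortExact_tensorR hS (E (i + 1)) (flat_stalk (hE (i + 1))))
      (CurveCoh17.isCoh_tensor hO hc) (CurveCoh17.isCoh_tensor (isCoh_of_isInvertible hH.1) hc)
      (CurveCoh17.isCoh_tensor hQ hc)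
    rw [show Module.finrank k (Coh.HH X (S.map (M2.tensorR (E (i + 1)))).X₁ 0) =
        Module.finrank k (Coh.HH X (E (i + 1)) 0) from finrank_h0_eq (M2.tensorLUnit _),
      show Module.finrank k (Coh.HH X (S.map (M2.tensorR (E (i + 1)))).X₂ 0) =
        Module.finrank k (Coh.HH X (E i) 0) from finrank_h0_eq
          (show CohB1.tensorMod H (E (i + 1)) ≅ E i from (M2.tensorAssoc _ _ _).symm ≪≫
            M2.tensorIso (M2.tensorComm _ _) (Iso.refl _) ≪≫ M2.tensorAssoc _ _ _ ≪≫
            M2.tensorIso (Iso.refl _) (M2.tensorIso (Iso.refl H) (M2.tensorComm _ _) ≪≫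
              (M2.tensorAssoc H H' _).symm ≪≫ M2.tensorIso e (Iso.refl _) ≪≫ M2.tensorLUnit _))] at h
    refine h.trans (Nat.add_le_add_left ?_ _)
    obtain ⟨u⟩ := Snapper.nonempty_tensorPow_unit (X := X) (i + 1)
    refine (hreg ((i + 1) + a₀) (Nat.le_add_left _ _) (hE (i + 1))
      (CohB1.tensorMod (CohB1.tensorPow H a₀) (CohB1.tensorPow A n)) (M2.tensorAssoc _ _ _ ≪≫
        M2.tensorIso (Iso.refl _) (M2.tensorIso (Iso.refl _) (M2.tensorPowAdd H (i + 1) a₀) ≪≫
          (M2.tensorAssoc _ _ _).symm ≪≫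
          M2.tensorIso ((M2.tensorPowMul H' H (i + 1)).symm ≪≫
            M2.tensorPowIso (M2.tensorComm H' H ≪≫ e) (i + 1) ≪≫ u) (Iso.refl _) ≪≫ M2.tensorLUnit _) ≪≫
        M2.tensorComm _ _)).trans_eq ?_
    exact finrank_h0_eq (M2.tensorAssoc _ _ _).symm
  have total : ∀ i, Module.finrank k (Coh.HH X (E 0) 0) ≤ Module.finrank k (Coh.HH X (E i) 0) +
      i * Module.finrank k (Coh.HH X (CohB1.tensorMod Q' (CohB1.tensorPow A n)) 0) := by
    intro i
    induction i with
    | zero => simp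
    | succ i ih =>
      have := step i
      rw [Nat.succ_mul]
      omega
  have ht := total n
  rw [show Module.finrank k (Coh.HH X (E 0) 0) =
      Module.finrank k (Coh.HH X (CohB1.tensorMod (Coh.structureModule X) (CohB1.tensorPow A n)) 0) from
      finrank_h0_eq (M2.tensorRUnit _ ≪≫ (M2.tensorLUnit _).symm),
    show Module.finrank k (Coh.HH X (E n) 0) =
      Module.finrank k (Coh.HH X (CohB1.tensorPow (CohB1.tensorMod A H') n) 0) from
      finrank_h0_eq (M2.tensorPowMul A H' n).symm] at ht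
  have ht' := (Nat.cast_le (α := ℚ)).2 ht
  push_cast at ht'
  linarith

/-- A nef module with positive self intersection has maximal growth of sections. -/
theorem exists_mono_of_md_pos [IsIntegral X] {d : ℕ} (hd : topologicalKrullDim X = (d : WithBot ℕ∞))
    {A₀ : X.Modules} (hA₀ : CohB1.IsAmple A₀) {L : X.Modules} (hL : PicF.IsInvertible L) (hn : Nef k L)
    (hpos : 0 < md k (fun _ : Fin d => L) (Coh.structureModule X)) :
    ∃ (m : ℕ) (φ : A₀ ⟶ CohB1.tensorPow L m), 0 < m ∧ Mono φ := by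
  haveI : IsNoetherian X := CohFound.isNoetherian_of_isProper (X ↘ (Spec (CommRingCat.of k)))
  rcases d with _ | r
  · haveI : IsAffine X := AmpleFin18.isAffine_of_dim_le_zero (by simpa using hd.le)
    obtain ⟨c, hc, n₀, hn₀⟩ := exists_h0_lower k hd (AmpleFin18.isAmple_of_isAffine hL : CohB1.IsAmple L)
    exact mono_of_growth k hd hA₀ hL hc hn₀
  have hO := M1.isCoh_structureModule X
  have hdim := dim_support_le hd.le (Coh.structureModule X)
  obtain ⟨q, hq⟩ := eventually_hasMonoSec k hA₀ (PicLoc.isInvertible_structureModule X)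
  let H := CohB1.tensorPow A₀ (q + 1)
  have hH : CohB1.IsAmple H := (Amp.isAmple_tensorPow_iff hA₀.1 q.succ_pos).2 hA₀
  have hHs : HasMonoSec H := (hq (q + 1) (Nat.le_succ _)).of_iso (M2.tensorLUnit _)
  obtain ⟨H', hH', ⟨e⟩⟩ := M2.exists_inverse hH.1
  have hLH : CohB1.IsAmple (CohB1.tensorMod H L) := isAmple_tensor_of_nef hH hL hn
  set c := md k (Fin.cons H (fun _ : Fin r => CohB1.tensorMod H L) : Fin (r + 1) → X.Modules) (Coh.structureModule X)
    with hc
  obtain ⟨m, hm⟩ := exists_nat_gt (((r : ℚ) + 1) * c / md k (fun _ : Fin (r + 1) => L) (Coh.structureModule X))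
  rw [div_lt_iff₀ hpos] at hm
  let A := CohB1.tensorMod H (CohB1.tensorPow L (m + 1))
  have hLm := M2.isInvertible_tensorPow hL (m + 1)
  have hA : CohB1.IsAmple A := isAmple_tensor_of_nef hH hLm (hn.pow hL _)
  have h1 : ((m : ℚ) + 1) ^ (r + 1) * md k (fun _ : Fin (r + 1) => L) (Coh.structureModule X) ≤
      md k (fun _ : Fin (r + 1) => A) (Coh.structureModule X) := by
    have := md_const_le (k := k) hLm (hn.pow hL _) hA.1 (nef_of_isAmple hA) hH.1 (M2.tensorComm _ _) hO hdim
      fun s M _ hM hMn => by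
        refine md_nonneg_of_nef hA₀ (isInvertible_cons hH.1 hM)
          (fun i => Fin.cases (by simpa using nef_of_isAmple hH) (fun j => by simpa using hMn j) i) hO
          (dim_support_le ?_ _)
        rename_i hs
        rw [hs]
        exact hd.le
    rw [md_const_pow hL hO hdim] at this
    exact_mod_cast this
  have h2 : md k (Fin.cons H (fun _ : Fin r => A) : Fin (r + 1) → X.Modules) (Coh.structureModule X) ≤
      ((m : ℚ) + 1) ^ r * c := by
    obtain ⟨N, Q, hN, hQ, hQd, hcut⟩ := exists_cut (k := k) hd.le hH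
    refine le_of_mul_le_mul_left ?_ (Nat.cast_pos.2 hN : (0 : ℚ) < N)
    rw [hc, mul_left_comm, hcut _ (fun _ => hA.1), hcut _ (fun _ => hLH.1),
      show ((m : ℚ) + 1) = ((m + 1 : ℕ) : ℚ) from by push_cast; rfl, ← md_const_pow hLH.1 hQ hQd]
    refine md_const_le hA.1 (nef_of_isAmple hA) (M2.isInvertible_tensorPow hLH.1 _)
      ((nef_of_isAmple hLH).pow hLH.1 _) (M2.isInvertible_tensorPow hH.1 m) ?_ hQ hQd fun s M hs hM hMn => ?_
    · exact M2.tensorComm _ _ ≪≫ (M2.tensorAssoc _ _ _).symm ≪≫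
        M2.tensorIso ((M2.tensorPowAdd H m 1 ≪≫ M2.tensorIso (Iso.refl _) (M2.tensorPowOne H)).symm) (Iso.refl _) ≪≫
        (M2.tensorPowMul H L (m + 1)).symm
    · subst hs
      exact md_nonneg_of_nef hA₀ (isInvertible_cons (M2.isInvertible_tensorPow hH.1 m) hM)
        (fun i => Fin.cases (by simpa using (nef_of_isAmple hH).pow hH.1 m) (fun j => by simpa using hMn j) i) hQ hQd
  obtain ⟨C, hC, n₁, hgrow⟩ := exists_tensor_growth hd hH hH' e hA hHs (by
    refine lt_of_le_of_lt (mul_le_mul_of_nonneg_left h2 (by positivity)) (lt_of_lt_of_le ?_ h1)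
    have hp : (0 : ℚ) < ((m : ℚ) + 1) ^ r := by positivity
    rw [pow_succ]
    nlinarith)
  have eA : CohB1.tensorMod A H' ≅ CohB1.tensorPow L (m + 1) :=
    M2.tensorIso (M2.tensorComm _ _) (Iso.refl _) ≪≫ M2.tensorAssoc _ _ _ ≪≫ M2.tensorIso (Iso.refl _) e ≪≫
      M2.tensorRUnit _
  obtain ⟨j, φ, hj, hφ⟩ := mono_of_growth k hd hA₀ hLm hC (n₁ := n₁) fun n hn => (hgrow n hn).trans_eq
    (by rw [finrank_h0_eq (k := k) (M2.tensorPowIso eA n)])
  exact ⟨(m + 1) * j, φ ≫ (M2.tensorPowPow L (m + 1) j).hom, Nat.mul_pos m.succ_pos hj,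
    mono_comp' hφ inferInstance⟩

end Groth.Agent.NumPoly18
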