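import Groth.Agent.Lib.CBC10.FieldBC
import Groth.Agent.Lib.DGen9.FibEuler
import Groth.Agent.Lib.LimH13.ArrowModel
import Groth.Agent.Lib.Residual14.OnePoint
import Groth.Agent.Lib.FlatTwist13.Main
import Groth.Agent.Lib.Snapper.Vanish
import Groth.Agent.Lib.NumPoly18.BigNef
import Groth.Prelude.Def_Pic13

/-!
# Euler characteristics in algebraic families of invertible modules
-/

set_option autoImplicit false
set_option linter.style.haveILetI false
set_option maxHeartbeats 1600000
set_option backward.isDefEq.respectTransparency false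

universe u

open CategoryTheory CategoryTheory.Limits AlgebraicGeometry TopologicalSpace Opposite

namespace Groth.Agent.NumPoly18

open Groth.Agent

variable {k : Type u} [Field k]

/-- Every module over a field is flat. -/
theorem isFlatOver_field {X : Scheme.{u}} (f : X ⟶ Spec (CommRingCat.of k)) (F : X.Modules) :
    FlatMod.IsFlatOver f F := fun x => by
  letI := (Residual14.isField_stalk_of_etale_field (𝟙 (Spec (CommRingCat.of k))) (f.base x)).toField
  letI := FlatMod.moduleStalkOver f F x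
  exact (inferInstance : Module.Flat ((Spec (CommRingCat.of k)).presheaf.stalk (f.base x)) (F.presheaf.stalk x))

/-- The rank of the fibre at a rational point. -/
theorem fiberRank_eq_finrank {X Y X' : Scheme.{u}} (f : X ⟶ Y) [IsProper f] [IsLocallyNoetherian Y] {F : X.Modules}
    (hF : Coh.IsCoh F) (hfl : FlatMod.IsFlatOver f F) [X'.Over (Spec (CommRingCat.of k))] (g : X' ⟶ X)
    (σ : Spec (CommRingCat.of k) ⟶ Y) (h : IsPullback g (X' ↘ Spec (CommRingCat.of k)) f σ) (p : ℕ) :
    CohIII.fiberRank f F p (σ.base ⟨⊥, Ideal.isPrime_bot⟩) =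
      Module.finrank k (Coh.HH X' ((Scheme.Modules.pullback g).obj F) p) := by
  let z : Spec (CommRingCat.of k) := ⟨⊥, Ideal.isPrime_bot⟩
  obtain ⟨U, hU, hyU, -⟩ := exists_isAffineOpen_mem_and_subset (X := Y) (x := σ.base z) (U := ⊤) trivial
  obtain ⟨P, -, -, -, -, hP⟩ := CBC10.exists_complexOn (f := f) hF hfl hU
  have hr : Set.range σ ⊆ Set.range U.ι := by
    rintro _ ⟨w, rfl⟩
    obtain rfl : w = z := Subsingleton.elim (α := PrimeSpectrum k) _ _
    rw [Scheme.Opens.range_ι]
    exact hyU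
  let φ := Spec.preimage (IsOpenImmersion.lift U.ι σ hr ≫ hU.isoSpec.hom)
  have hσ : Spec.map φ ≫ hU.fromSpec = σ := by
    rw [Spec.map_preimage, Category.assoc, IsAffineOpen.fromSpec, Iso.hom_inv_id_assoc, IsOpenImmersion.lift_fac]
  letI : Algebra Γ(Y, U) k := φ.hom.toAlgebra
  have h' : IsPullback g (X' ↘ Spec (CommRingCat.of k)) f
      (Spec.map (CommRingCat.ofHom (algebraMap Γ(Y, U) k)) ≫ hU.fromSpec) := by
    rw [show Spec.map (CommRingCat.ofHom (algebraMap Γ(Y, U) k)) ≫ hU.fromSpec = σ from hσ]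
    exact h
  rw [hP.finrank_bc_field hF.1 h' p, hP.fiberRank_eq hyU hF.1 p]
  congr 1
  apply hU.fromSpec.isOpenEmbedding.injective
  rw [hU.fromSpec_primeIdealOf]
  show σ.base z = (Spec.map φ ≫ hU.fromSpec).base z
  rw [hσ]

theorem eulerChar_eq_euler {X Y X' : Scheme.{u}} (f : X ⟶ Y) [IsProper f] [IsLocallyNoetherian Y] {F : X.Modules}
    (hF : Coh.IsCoh F) (hfl : FlatMod.IsFlatOver f F) [X'.Over (Spec (CommRingCat.of k))] (g : X' ⟶ X)
    (σ : Spec (CommRingCat.of k) ⟶ Y) (h : IsPullback g (X' ↘ Spec (CommRingCat.of k)) f σ) :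
    PerfAux.eulerChar f F (σ.base ⟨⊥, Ideal.isPrime_bot⟩) =
      Curv2.euler k X' ((Scheme.Modules.pullback g).obj F) := by
  rw [Curv2.euler]
  refine finsum_congr fun i => ?_
  rw [FibEuler9.betti_eq, fiberRank_eq_finrank f hF hfl g σ h i]

variable {X : Scheme.{u}} [X.Over (Spec (CommRingCat.of k))] [IsProper (X ↘ Spec (CommRingCat.of k))]

theorem isPullback_sliceAt {T : Scheme.{u}} (q : T ⟶ Spec (CommRingCat.of k)) (t : Spec (CommRingCat.of k) ⟶ T)
    (ht : t ≫ q = 𝟙 _) :
    IsPullback (Pic13.sliceAt k X q t ht) (X ↘ Spec (CommRingCat.of k))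
      (pullback.snd (X ↘ Spec (CommRingCat.of k)) q) t := by
  refine IsPullback.of_right ?_ (by simp [Pic13.sliceAt]) (IsPullback.of_hasPullback _ q)
  rw [Pic13.sliceAt, pullback.lift_fst, ht]
  exact IsPullback.of_horiz_isIso ⟨by simp⟩

/-- Twisting by a member of a connected family through the trivial class preserves Euler characteristics. -/
theorem euler_tensor_eq_of_isAlgEquivZero {L : X.Modules} (h : Pic13.IsAlgEquivZero k X L) {F : X.Modules}
    (hF : Coh.IsCoh F) : Curv2.euler k X (CohB1.tensorMod F L) = Curv2.euler k X F := by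
  obtain ⟨T, q, hT, hqf, hqc, M, hM, t, t₀, ht, ht₀, ⟨e⟩, ⟨e₀⟩⟩ := h
  haveI := hqf
  haveI := hqc
  haveI : IsNoetherian X := CohFound.isNoetherian_of_isProper (X ↘ (Spec (CommRingCat.of k)))
  haveI : IsLocallyNoetherian T := LocallyOfFiniteType.isLocallyNoetherian q
  let P := Pic13.prodK k X q
  let f : P ⟶ T := pullback.snd (X ↘ Spec (CommRingCat.of k)) q
  let π : P ⟶ X := pullback.fst (X ↘ Spec (CommRingCat.of k)) q
  haveI : IsProper f := inferInstanceAs (IsProper (pullback.snd (X ↘ Spec (CommRingCat.of k)) q))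
  haveI : IsLocallyNoetherian P := LocallyOfFiniteType.isLocallyNoetherian f
  haveI : LocallyOfFinitePresentation f := LimH13.locallyOfFinitePresentation_of_noetherian f
  let F' := (Scheme.Modules.pullback π).obj F
  have hF' : Coh.IsCoh F' := M1.isCoh_pullback π hF
  haveI := hF.1
  have hfl' : FlatMod.IsFlatOver f F' := fun x =>
    FlatH4.isFlatOverAt_baseChange (IsPullback.of_hasPullback (X ↘ Spec (CommRingCat.of k)) q) F x
      (isFlatOver_field _ _ _)
  let G := CohB1.tensorMod F' M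
  have hG : Coh.IsCoh G := CurveCoh17.isCoh_tensor hF' (Snapper.isCoh_of_isInvertible hM)
  haveI := hF'.1
  have hGfl : FlatMod.IsFlatOver f G := FlatTwist13.isFlatOver_tensor f hfl' hM
  have key : ∀ (s : Spec (CommRingCat.of k) ⟶ T) (hs : s ≫ q = 𝟙 _) (N : X.Modules),
      (Pic13.fibreMod k X q s hs M ≅ N) →
      PerfAux.eulerChar f G (s.base ⟨⊥, Ideal.isPrime_bot⟩) = Curv2.euler k X (CohB1.tensorMod F N) := by
    intro s hs N eN
    rw [eulerChar_eq_euler f hG hGfl _ s (isPullback_sliceAt q s hs)]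
    refine CurveCoh17.euler_iso (M2.pullTensorIso _ F' M ≪≫ M2.tensorIso ?_ eN)
    exact (Scheme.Modules.pullbackComp (Pic13.sliceAt k X q s hs) π).app F ≪≫
      (Scheme.Modules.pullbackCongr (show Pic13.sliceAt k X q s hs ≫ π = 𝟙 X from pullback.lift_fst _ _ _)).app F ≪≫
      (Scheme.Modules.pullbackId X).app F
  haveI : ConnectedSpace T := hT
  have hc := (FibEuler9.isLocallyConstant_eulerChar f G (M1.isFP_of_isCoh hG) hGfl).apply_eq_of_preconnectedSpace
    (t.base ⟨⊥, Ideal.isPrime_bot⟩) (t₀.base ⟨⊥, Ideal.isPrime_bot⟩)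
  rw [key t ht L e, key t₀ ht₀ _ e₀] at hc
  exact hc.trans (CurveCoh17.euler_iso (M2.tensorRUnit F))

end Groth.Agent.NumPoly18
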