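import Groth.Agent.Lib.NumPoly18.Apps
import Groth.Agent.Lib.CurveCoh17.Twist
import Groth.Agent.Lib.CurveAmple18.Cartier

/-!
# Intersection numbers with an effective Cartier divisor
-/

set_option autoImplicit false
set_option linter.style.haveILetI false
set_option maxHeartbeats 800000
set_option backward.isDefEq.respectTransparency false

universe u

open CategoryTheory CategoryTheory.Limits AlgebraicGeometry TopologicalSpace Opposite

namespace Groth.Agent.NumPoly18

open Groth.Agent Groth.Agent.Snapper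

variable {X : Scheme.{u}}

/-- An effective Cartier divisor has smaller dimension. -/
theorem dim_support_effCartier {D : X.IdealSheafData} (hD : BlowUp.IsEffCartierIdeal D) {e : ℕ}
    (hd : topologicalKrullDim X ≤ ((e + 1 : ℕ) : WithBot ℕ∞)) :
    topologicalKrullDim (D.support : Set X) ≤ (e : WithBot ℕ∞) := by
  rw [VarDim.topologicalKrullDim_isClosed_eq_iSup_height D.support.isClosed]
  refine iSup_le fun z => ?_
  obtain ⟨x, hx⟩ := z
  obtain ⟨y, hy, hyx⟩ := EffCartier.exists_specializes_cmpl hD x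
  have hxy : x ≠ y := fun h => hy (h ▸ hx)
  have h2 := Order.height_add_one_le (VarDim.lt_of_specializes_ne hyx hxy)
  have h3 : (Order.height y : WithBot ℕ∞) ≤ (((e + 1 : ℕ) : ℕ∞) : WithBot ℕ∞) :=
    (ProjDeg17.height_le_dim_of_mem isClosed_univ (Set.mem_univ y)).trans
      ((Topology.IsInducing.subtypeVal.topologicalKrullDim_le).trans hd)
  have h4 : Order.height x + 1 ≤ ((e : ℕ∞) + 1) := by
    have h5 := h2.trans (WithBot.coe_le_coe.1 h3)
    simpa using h5
  exact WithBot.coe_le_coe.2 ((ENat.add_le_add_iff_right (ENat.one_ne_top)).1 h4)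

/-- Multiplying by one more factor of the first module. -/
theorem nonempty_multiTwist_cons {e : ℕ} (L : Fin (e + 1) → X.Modules) (m : Fin e → ℕ) :
    Nonempty (FGA.multiTwist L (Fin.cons 0 m) ≅ FGA.multiTwist (fun j => L j.succ) m) := by
  refine ⟨eqToIso ?_ ≪≫ M2.tensorLUnit _⟩
  simp [FGA.multiTwist, List.finRange_succ, FGA.tensorList, Function.comp_def, CohB1.tensorPow]

theorem ind_cons {e : ℕ} (I : Finset (Fin (e + 1))) :
    ind I = Fin.cons (if (0 : Fin (e + 1)) ∈ I then 1 else 0) (ind (Finset.univ.filter fun j : Fin e => j.succ ∈ I)) := by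
  funext i
  refine Fin.cases ?_ (fun j => ?_) i
  · simp [ind]
  · simp [ind]

/-- Splitting a mixed difference along the first variable. -/
theorem mixedDiff_succ {e : ℕ} (f : (Fin (e + 1) → ℕ) → ℚ) :
    mixedDiff f = mixedDiff (fun m : Fin e → ℕ => f (Fin.cons 1 m) - f (Fin.cons 0 m)) := by
  classical
  let E : Bool × Finset (Fin e) → Finset (Fin (e + 1)) := fun p =>
    bif p.1 then insert 0 (p.2.map (Fin.succEmb e)) else p.2.map (Fin.succEmb e)
  have hmem : ∀ (p : Bool × Finset (Fin e)) (j : Fin e), j.succ ∈ E p ↔ j ∈ p.2 := fun p j => by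
    rcases p with ⟨b, J⟩
    cases b <;> simp [E, Fin.succ_ne_zero]
  have hmem0 : ∀ p : Bool × Finset (Fin e), (0 : Fin (e + 1)) ∈ E p ↔ p.1 = true := fun p => by
    rcases p with ⟨b, J⟩
    cases b <;> simp [E, Fin.succ_ne_zero]
  have hb : Function.Bijective E := by
    refine ⟨fun p q h => ?_, fun I => ⟨(decide ((0 : Fin (e + 1)) ∈ I), Finset.univ.filter fun j : Fin e => j.succ ∈ I), ?_⟩⟩
    · refine Prod.ext ?_ (Finset.ext fun j => by rw [← hmem, h, hmem])
      exact Bool.eq_iff_iff.2 (by rw [← hmem0, h, hmem0])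
    · refine Finset.ext fun i => ?_
      refine Fin.cases ?_ (fun j => ?_) i
      · rw [hmem0]; simp
      · rw [hmem]; simp
  have hind : ∀ p, ind (E p) = Fin.cons (bif p.1 then 1 else 0) (ind p.2) := fun p => by
    funext i
    refine Fin.cases ?_ (fun j => ?_) i
    · rcases hp : p.1 with _ | _ <;> simp [ind, hmem0, hp]
    · simp [ind, hmem]
  have hcard : ∀ p, (E p).card = (bif p.1 then 1 else 0) + p.2.card := fun p => by
    rcases p with ⟨b, J⟩
    cases b <;> simp [E, Fin.succ_ne_zero, Nat.add_comm]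
  rw [mixedDiff, ← Equiv.sum_comp (Equiv.ofBijective E hb), Fintype.sum_prod_type, Fintype.sum_bool, mixedDiff,
    ← Finset.sum_add_distrib]
  refine Finset.sum_congr rfl fun J _ => ?_
  have hJ : J.card ≤ e := (Finset.card_le_univ J).trans_eq (Fintype.card_fin e)
  simp only [Equiv.ofBijective_apply, hind, hcard, cond_true, cond_false]
  rw [show e + 1 - (1 + J.card) = e - J.card by omega, show e + 1 - (0 + J.card) = (e - J.card) + 1 by omega, pow_succ]
  ring

variable {k : Type u} [Field k] [X.Over (Spec (CommRingCat.of k))] [IsProper (X ↘ Spec (CommRingCat.of k))]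

/-- `(L₀ ⋯ L_e · X) = (L₁ ⋯ L_e · D)` for `L₀ = O(D)`. -/
theorem mixedDiff_effCartier {e : ℕ} (hd : topologicalKrullDim X ≤ ((e + 1 : ℕ) : WithBot ℕ∞))
    {D : X.IdealSheafData} (hD : BlowUp.IsEffCartierIdeal D) {L : Fin (e + 1) → X.Modules}
    (hL : ∀ j, PicF.IsInvertible (L j)) (hLD : ClSub.IsInverseOf (L 0) (ClSub.idealMod D)) :
    mixedDiff (chi k L (Coh.structureModule X)) = mixedDiff (chi k (fun j => L j.succ) (ClSub.quotMod D)) := by
  haveI : IsNoetherian X := CohFound.isNoetherian_of_isProper (X ↘ (Spec (CommRingCat.of k)))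
  obtain ⟨α⟩ := hLD
  have hsupp : topologicalKrullDim (CohB1.support (ClSub.quotMod D)) ≤ (e : WithBot ℕ∞) :=
    dim_le_of_subset (support_quotMod_subset D) (dim_support_effCartier hD hd)
  have hI : Coh.IsCoh (ClSub.idealMod D) := CurveCoh17.isCoh_idealMod D
  have hQ : Coh.IsCoh (ClSub.quotMod D) := CurveCoh17.isCoh_quotMod D
  let f : (Fin (e + 1) → ℕ) → ℚ := chi k L (ClSub.quotMod D)
  have hf : PolyLT (e + 1) f :=
    PolyLT.of_polyLE (snapper X k e _ hQ hsupp (e + 1) L hL) (Nat.lt_succ_self e)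
  have h0 := mixedDiff_of_polyLT hf
  rw [mixedDiff_succ] at h0 ⊢
  have e0 : ∀ m : Fin e → ℕ, f (Fin.cons 0 m) = chi k (fun j => L j.succ) (ClSub.quotMod D) m := fun m => by
    obtain ⟨a⟩ := nonempty_multiTwist_cons L m
    simp only [f, chi]
    rw [CurveCoh17.euler_iso (M2.tensorIso (Iso.refl (ClSub.quotMod D)) a)]
  have e1 : ∀ m : Fin e → ℕ,
      chi k L (Coh.structureModule X) (Fin.cons 1 m) - chi k L (Coh.structureModule X) (Fin.cons 0 m) =
        f (Fin.cons 1 m) := fun m => by
    obtain ⟨a⟩ := nonempty_multiTwist_update L (Fin.cons 0 m) 0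
    rw [Fin.update_cons_zero] at a
    simp only [Fin.cons_zero, zero_add] at a
    have hT := isInvertible_multiTwist hL (Fin.cons 1 m)
    have hadd := euler_tensor_add (k := k) (M2.shortExact_idealMod D) hI (M1.isCoh_structureModule X) hQ hT
    have hid : Curv2.euler k X (CohB1.tensorMod (ClSub.idealMod D) (FGA.multiTwist L (Fin.cons 1 m))) =
        Curv2.euler k X (CohB1.tensorMod (Coh.structureModule X) (FGA.multiTwist L (Fin.cons 0 m))) :=
      CurveCoh17.euler_iso (M2.tensorIso (Iso.refl _) a ≪≫ (M2.tensorAssoc _ _ _).symm ≪≫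
        M2.tensorIso (M2.tensorComm _ _ ≪≫ α) (Iso.refl _))
    simp only [f, chi]
    rw [show Curv2.euler k X (CohB1.tensorMod (Coh.structureModule X) (FGA.multiTwist L (Fin.cons 1 m))) =
      Curv2.euler k X (CohB1.tensorMod (ClSub.idealMod D) (FGA.multiTwist L (Fin.cons 1 m))) +
        Curv2.euler k X (CohB1.tensorMod (ClSub.quotMod D) (FGA.multiTwist L (Fin.cons 1 m))) from hadd, hid]
    push_cast
    ring
  simp only [e1]
  simp only [e0] at h0
  have hsub : ∀ g h : (Fin e → ℕ) → ℚ, mixedDiff (fun m => g m - h m) = mixedDiff g - mixedDiff h := fun g h => by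
    simp only [mixedDiff, mul_sub, Finset.sum_sub_distrib]
  rw [hsub] at h0
  exact sub_eq_zero.1 h0

end Groth.Agent.NumPoly18
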