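import Groth.Agent.Lib.NumPoly18.Nakai
import Groth.Agent.Lib.NumPoly18.Divisor
import Groth.Prelude.Def_Pic13

/-!
# Multilinearity and numerical invariance of intersection numbers
-/

set_option autoImplicit false
set_option linter.style.haveILetI false
set_option maxHeartbeats 800000
set_option backward.isDefEq.respectTransparency false

universe u

open CategoryTheory CategoryTheory.Limits AlgebraicGeometry TopologicalSpace Opposite

namespace Groth.Agent.NumPoly18

open Groth.Agent Groth.Agent.Snapper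

variable {X : Scheme.{u}} {r : ℕ}

theorem mixedDiff_sub (f g : (Fin r → ℕ) → ℚ) : mixedDiff (fun n => f n - g n) = mixedDiff f - mixedDiff g := by
  simp only [mixedDiff, mul_sub, Finset.sum_sub_distrib]

theorem mixedDiff_zero_vars (f : (Fin 0 → ℕ) → ℚ) : mixedDiff f = f ![] := by
  rw [mixedDiff, Fintype.sum_unique]
  simp only [Finset.card_eq_zero.2 (Subsingleton.elim (default : Finset (Fin 0)) ∅), le_refl, tsub_self, pow_zero,
    one_mul]
  exact congrArg f (Subsingleton.elim _ _)

variable (k : Type u) [Field k] [X.Over (Spec (CommRingCat.of k))]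

/-- The intersection number as a mixed difference. -/
noncomputable def md {r : ℕ} (L : Fin r → X.Modules) (F : X.Modules) : ℚ := mixedDiff (chi k L F)

/-- The degree of `L` on `F`. -/
noncomputable def cdeg (L F : X.Modules) : ℚ := md k (fun _ : Fin 1 => L) F

variable {k}

theorem md_iso (L : Fin r → X.Modules) {F G : X.Modules} (e : F ≅ G) : md k L F = md k L G :=
  congrArg mixedDiff (funext fun n => chi_iso L e n)

theorem isInvertible_cons {A : X.Modules} (hA : PicF.IsInvertible A) {M : Fin r → X.Modules}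
    (hM : ∀ i, PicF.IsInvertible (M i)) : ∀ i, PicF.IsInvertible ((Fin.cons A M : Fin (r + 1) → X.Modules) i) :=
  fun i => Fin.cases (by simpa using hA) (fun j => by simpa using hM j) i

/-- Splitting off the first module. -/
theorem md_cons (A : X.Modules) (M : Fin r → X.Modules) (F : X.Modules) :
    md k (Fin.cons A M : Fin (r + 1) → X.Modules) F = md k M (CohB1.tensorMod F A) - md k M F := by
  rw [md, mixedDiff_succ, mixedDiff_sub]
  congr 1
  · refine congrArg mixedDiff (funext fun m => ?_)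
    obtain ⟨e⟩ := Snapper.nonempty_multiTwist_cons A M 1 m
    simp only [chi]
    rw [CurveCoh17.euler_iso (M2.tensorIso (Iso.refl F) (e ≪≫ M2.tensorIso (M2.tensorPowOne A) (Iso.refl _)) ≪≫
      (M2.tensorAssoc _ _ _).symm)]
  · refine congrArg mixedDiff (funext fun m => ?_)
    obtain ⟨e⟩ := Snapper.nonempty_multiTwist_cons A M 0 m
    simp only [chi]
    rw [CurveCoh17.euler_iso (M2.tensorIso (Iso.refl F) (e ≪≫ M2.tensorLUnit _))]

theorem md_zero_vars (L : Fin 0 → X.Modules) (F : X.Modules) : md k L F = (Curv2.euler k X F : ℚ) := by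
  rw [md, mixedDiff_zero_vars, chi, CurveCoh17.euler_iso (M2.tensorIso (Iso.refl F)
    (eqToIso (by simp [FGA.multiTwist, FGA.tensorList])) ≪≫ M2.tensorRUnit F)]

theorem const_eq_cons (L : X.Modules) :
    (fun _ : Fin (r + 1) => L) = (Fin.cons L (fun _ : Fin r => L) : Fin (r + 1) → X.Modules) :=
  funext fun i => Fin.cases (by simp) (fun j => by simp) i

theorem cdeg_eq (L F : X.Modules) :
    cdeg k L F = (Curv2.euler k X (CohB1.tensorMod F L) : ℚ) - (Curv2.euler k X F : ℚ) := by
  rw [cdeg, const_eq_cons, md_cons, md_zero_vars, md_zero_vars]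

variable [IsProper (X ↘ Spec (CommRingCat.of k))]

theorem md_shortExact {L : Fin r → X.Modules} (hL : ∀ i, PicF.IsInvertible (L i)) {S : ShortComplex X.Modules}
    (hS : S.ShortExact) (h₁ : Coh.IsCoh S.X₁) (h₂ : Coh.IsCoh S.X₂) (h₃ : Coh.IsCoh S.X₃) :
    md k L S.X₂ = md k L S.X₁ + md k L S.X₃ := by
  rw [md, md, md, ← mixedDiff_add]
  exact congrArg mixedDiff (funext fun n => chi_shortExact hL hS h₁ h₂ h₃ n)

theorem md_hom {L : Fin r → X.Modules} (hL : ∀ i, PicF.IsInvertible (L i)) {W N : X.Modules} (φ : W ⟶ N)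
    (hW : Coh.IsCoh W) (hN : Coh.IsCoh N) :
    md k L N = md k L W + md k L (cokernel φ) - md k L (kernel φ) := by
  simp only [md, ← mixedDiff_add, ← mixedDiff_sub]
  refine congrArg mixedDiff (funext fun n => ?_)
  simp only [chi]
  rw [euler_tensor_hom φ hW hN (isInvertible_multiTwist hL n)]
  push_cast
  rfl

/-- Intersection numbers vanish above the dimension of the support. -/
theorem md_eq_zero {L : Fin r → X.Modules} (hL : ∀ i, PicF.IsInvertible (L i)) {F : X.Modules} (hF : Coh.IsCoh F)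
    {e : ℕ} (he : topologicalKrullDim (CohB1.support F) ≤ (e : WithBot ℕ∞)) (her : e < r) : md k L F = 0 :=
  mixedDiff_of_polyLT (PolyLT.of_polyLE (snapper X k e F hF he r L hL) her)

theorem md_eq_sum {L : Fin r → X.Modules} (hL : ∀ i, PicF.IsInvertible (L i)) {Z : Set X} (hZ : IsClosed Z)
    (hd : topologicalKrullDim Z ≤ (r : WithBot ℕ∞)) (T : Finset X)
    (hT : ∀ ξ, ξ ∈ T ↔ ξ ∈ Z ∧ topologicalKrullDim (closure ({ξ} : Set X)) = (r : WithBot ℕ∞))
    {F : X.Modules} (hF : Coh.IsCoh F) (hFZ : CohB1.support F ⊆ Z) :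
    md k L F = ∑ ξ ∈ T, lenAt F ξ * md k L (ptMod ξ) :=
  mixedDiff_eq_sum hL hZ hd T hT hF hFZ

theorem lenAt_nonneg (F : X.Modules) (ξ : X) : 0 ≤ lenAt F ξ := Nat.cast_nonneg _

variable (k) in
/-- Reduction of a relation between intersection numbers to integral closed subschemes. -/
theorem md_rel_of_integral (R : ℚ → ℚ → Prop) (h0 : R 0 0)
    (hadd : ∀ a a' b b', R a b → R a' b' → R (a + a') (b + b'))
    (hsmul : ∀ c a b : ℚ, 0 ≤ c → R a b → R (c * a) (c * b))
    {L L' : Fin r → X.Modules} (hL : ∀ i, PicF.IsInvertible (L i)) (hL' : ∀ i, PicF.IsInvertible (L' i))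
    (h : ∀ ξ : X, topologicalKrullDim (closure ({ξ} : Set X)) = (r : WithBot ℕ∞) →
      R (md k L (ptMod ξ)) (md k L' (ptMod ξ)))
    {F : X.Modules} (hF : Coh.IsCoh F) (hd : topologicalKrullDim (CohB1.support F) ≤ (r : WithBot ℕ∞)) :
    R (md k L F) (md k L' F) := by
  haveI : IsNoetherian X := CohFound.isNoetherian_of_isProper (X ↘ (Spec (CommRingCat.of k)))
  classical
  obtain ⟨T, hT⟩ := exists_finset_top (M1.isClosed_support hF.2) hd
  rw [md_eq_sum hL (M1.isClosed_support hF.2) hd T hT hF subset_rfl,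
    md_eq_sum hL' (M1.isClosed_support hF.2) hd T hT hF subset_rfl]
  have key : ∀ S : Finset X, S ⊆ T →
      R (∑ ξ ∈ S, lenAt F ξ * md k L (ptMod ξ)) (∑ ξ ∈ S, lenAt F ξ * md k L' (ptMod ξ)) := by
    intro S
    induction S using Finset.induction_on with
    | empty => intro _; simpa using h0
    | insert a S ha ih =>
      intro hS
      rw [Finset.sum_insert ha, Finset.sum_insert ha]
      exact hadd _ _ _ _ (hsmul _ _ _ (lenAt_nonneg F a) (h a ((hT a).1 (hS (Finset.mem_insert_self a S))).2))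
        (ih fun x hx => hS (Finset.mem_insert_of_mem hx))
  exact key T subset_rfl

/-- Twisting a cyclic module by an invertible module changes it by modules with smaller support. -/
theorem exists_small_diff {A : X.Modules} (hA : PicF.IsInvertible A) (ξ : X) :
    ∃ Ks : List (ℤ × X.Modules),
      (∀ p ∈ Ks, Coh.IsCoh p.2 ∧ ∀ e : ℕ, topologicalKrullDim (closure ({ξ} : Set X)) ≤ (e + 1 : ℕ) →
        topologicalKrullDim (CohB1.support p.2) ≤ (e : WithBot ℕ∞)) ∧
      ∀ {r : ℕ} (M : Fin r → X.Modules), (∀ i, PicF.IsInvertible (M i)) →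
        md k (Fin.cons A M : Fin (r + 1) → X.Modules) (ptMod ξ) = (Ks.map fun p => (p.1 : ℚ) * md k M p.2).sum := by
  haveI : IsNoetherian X := CohFound.isNoetherian_of_isProper (X ↘ (Spec (CommRingCat.of k)))
  have hG : Coh.IsCoh (ptMod ξ) := isCoh_ptMod ξ
  have hG' : Coh.IsCoh (CohB1.tensorMod (ptMod ξ) A) := CurveCoh17.isCoh_tensor hG (isCoh_of_isInvertible hA)
  obtain ⟨V, hξV, ⟨eV⟩⟩ := hA ξ
  obtain ⟨U, hU, hξU, hUV⟩ := exists_isAffineOpen_mem_and_subset (U := V) hξV
  obtain ⟨eU⟩ := M2.nonempty_trivial_mono hUV eV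
  obtain ⟨W, φ, ψ, hW, k1, c1, k2, c2⟩ := exists_zigzag (CurveAmple18.isSeparated k X) hG hG'
    (support_ptMod ξ) ((support_tensor_subset _ _).trans (support_ptMod ξ)) hU hξU
    (M2.restrictTensorIso U.ι (ptMod ξ) A ≪≫ M2.tensorIso (Iso.refl _) eU ≪≫ M2.tensorRUnit _)
  have hsmall : ∀ {K : X.Modules}, CohB1.support K ⊆ closure {ξ} \ (U : Set X) → ∀ e : ℕ,
      topologicalKrullDim (closure ({ξ} : Set X)) ≤ (e + 1 : ℕ) →
        topologicalKrullDim (CohB1.support K) ≤ (e : WithBot ℕ∞) := fun {K} hK e he =>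
    dim_le_of_subset hK (dim_le_of_notMem (isClosed_closure.sdiff U.isOpen) Set.sdiff_subset (fun h => h.2 hξU) he)
  refine ⟨[(1, cokernel ψ), (-1, kernel ψ), (-1, cokernel φ), (1, kernel φ)], ?_, fun {r} M hM => ?_⟩
  · simp only [List.mem_cons, List.not_mem_nil, or_false]
    rintro p (rfl | rfl | rfl | rfl)
    · exact ⟨M1.isCoh_cokernel hW.1 hG' ψ, hsmall c2⟩
    · exact ⟨CurveCoh17.isCoh_kernel hW hG'.1 ψ, hsmall k2⟩
    · exact ⟨M1.isCoh_cokernel hW.1 hG φ, hsmall c1⟩
    · exact ⟨CurveCoh17.isCoh_kernel hW hG.1 φ, hsmall k1⟩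
  · rw [md_cons, md_hom hM ψ hW hG', md_hom hM φ hW hG]
    simp only [List.map_cons, List.map_nil, List.sum_cons, List.sum_nil]
    push_cast
    ring

/-- The first two modules may be exchanged. -/
theorem md_swap (A B : X.Modules) (M : Fin r → X.Modules) (F : X.Modules) :
    md k (Fin.cons A (Fin.cons B M) : Fin (r + 2) → X.Modules) F =
      md k (Fin.cons B (Fin.cons A M) : Fin (r + 2) → X.Modules) F := by
  simp only [md_cons]
  rw [md_iso M (M2.tensorAssoc F A B ≪≫ M2.tensorIso (Iso.refl F) (M2.tensorComm A B) ≪≫ (M2.tensorAssoc F B A).symm)]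
  ring

/-- Additivity in the first module. -/
theorem md_cons_tensor {A B : X.Modules} (hA : PicF.IsInvertible A) (hB : PicF.IsInvertible B)
    {M : Fin r → X.Modules} (hM : ∀ i, PicF.IsInvertible (M i)) {F : X.Modules} (hF : Coh.IsCoh F)
    (hr : topologicalKrullDim (CohB1.support F) ≤ ((r + 1 : ℕ) : WithBot ℕ∞)) :
    md k (Fin.cons (CohB1.tensorMod A B) M : Fin (r + 1) → X.Modules) F =
      md k (Fin.cons A M : Fin (r + 1) → X.Modules) F + md k (Fin.cons B M : Fin (r + 1) → X.Modules) F := by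
  have h0 := md_eq_zero (k := k) (isInvertible_cons hA (isInvertible_cons hB hM)) hF hr (Nat.lt_succ_self _)
  simp only [md_cons] at h0 ⊢
  rw [md_iso M (M2.tensorAssoc F A B)] at h0
  linarith

/-- `L` and `L'` have the same degree on every integral curve. -/
def NumEq (k : Type u) [Field k] [X.Over (Spec (CommRingCat.of k))] (L L' : X.Modules) : Prop :=
  ∀ ξ : X, topologicalKrullDim (closure ({ξ} : Set X)) = 1 → cdeg k L (ptMod ξ) = cdeg k L' (ptMod ξ)

theorem cdeg_eq_of_numEq {L L' : X.Modules} (hL : PicF.IsInvertible L) (hL' : PicF.IsInvertible L')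
    (h : NumEq k L L') {F : X.Modules} (hF : Coh.IsCoh F)
    (hd : topologicalKrullDim (CohB1.support F) ≤ 1) : cdeg k L F = cdeg k L' F :=
  md_rel_of_integral k (· = ·) rfl (fun _ _ _ _ a b => by rw [a, b]) (fun _ _ _ _ a => by rw [a])
    (fun _ => hL) (fun _ => hL') (fun ξ hξ => h ξ (by simpa using hξ)) hF (by simpa using hd)

/-- Intersection numbers depend only on the degrees on curves. -/
theorem md_eq_of_numEq : ∀ (r : ℕ) (L L' : Fin r → X.Modules), (∀ i, PicF.IsInvertible (L i)) →
    (∀ i, PicF.IsInvertible (L' i)) → (∀ i, NumEq k (L i) (L' i)) → ∀ (F : X.Modules), Coh.IsCoh F →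
    topologicalKrullDim (CohB1.support F) ≤ (r : WithBot ℕ∞) → md k L F = md k L' F := by
  haveI : IsNoetherian X := CohFound.isNoetherian_of_isProper (X ↘ (Spec (CommRingCat.of k)))
  intro r
  induction r with
  | zero =>
    intro L L' _ _ _ F _ _
    rw [show L = L' from Subsingleton.elim _ _]
  | succ r IH =>
    intro L L' hL hL' h F hF hd
    refine md_rel_of_integral k (· = ·) rfl (fun _ _ _ _ a b => by rw [a, b]) (fun _ _ _ _ a => by rw [a])
      hL hL' (fun ξ hξ => ?_) hF hd
    rcases r with _ | r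
    · have hc : ∀ M : Fin 1 → X.Modules, md k M (ptMod ξ) = cdeg k (M 0) (ptMod ξ) := fun M => by
        rw [cdeg]
        exact congrArg (fun N => md k N (ptMod ξ)) (funext fun i => by rw [Subsingleton.elim i 0])
      rw [hc L, hc L']
      exact h 0 ξ (by simpa using hξ)
    -- changing the tail
    have step : ∀ (A : X.Modules), PicF.IsInvertible A → ∀ M M' : Fin (r + 1) → X.Modules,
        (∀ i, PicF.IsInvertible (M i)) → (∀ i, PicF.IsInvertible (M' i)) → (∀ i, NumEq k (M i) (M' i)) →
        md k (Fin.cons A M : Fin (r + 2) → X.Modules) (ptMod ξ) =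
          md k (Fin.cons A M' : Fin (r + 2) → X.Modules) (ptMod ξ) := fun A hA M M' hM hM' hMM => by
      obtain ⟨Ks, hKs, he⟩ := exists_small_diff (k := k) hA ξ
      rw [he M hM, he M' hM']
      refine congrArg List.sum (List.map_congr_left fun p hp => ?_)
      obtain ⟨hpc, hpd⟩ := hKs p hp
      rw [IH M M' hM hM' hMM p.2 hpc (hpd (r + 1) hξ.le)]
    have hrefl : ∀ N : X.Modules, NumEq k N N := fun _ _ _ => rfl
    obtain ⟨A, M, rfl⟩ : ∃ A M, L = Fin.cons A M := ⟨L 0, Fin.tail L, (Fin.cons_self_tail L).symm⟩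
    obtain ⟨A', M', rfl⟩ : ∃ A M, L' = Fin.cons A M := ⟨L' 0, Fin.tail L', (Fin.cons_self_tail L').symm⟩
    have hA : PicF.IsInvertible A := by simpa using hL 0
    have hA' : PicF.IsInvertible A' := by simpa using hL' 0
    have hM : ∀ i, PicF.IsInvertible (M i) := fun i => by simpa using hL i.succ
    have hM' : ∀ i, PicF.IsInvertible (M' i) := fun i => by simpa using hL' i.succ
    have hAA : NumEq k A A' := by simpa using h 0
    rw [step A hA M M' hM hM' fun i => by simpa using h i.succ]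
    obtain ⟨B, N, rfl⟩ : ∃ B N, M' = Fin.cons B N := ⟨M' 0, Fin.tail M', (Fin.cons_self_tail M').symm⟩
    have hB : PicF.IsInvertible B := by simpa using hM' 0
    have hN : ∀ i, PicF.IsInvertible (N i) := fun i => by simpa using hM' i.succ
    rw [md_swap A B, md_swap A' B]
    exact step B hB _ _ (isInvertible_cons hA hN) (isInvertible_cons hA' hN)
      fun i => Fin.cases (by simpa using hAA) (fun j => by simpa using hrefl (N j)) i

/-- The degree on a closed subscheme. -/
theorem cdeg_push {Y : Scheme.{u}} [Y.Over (Spec (CommRingCat.of k))] (i : Y ⟶ X) [IsAffineHom i]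
    (hi : i ≫ (X ↘ Spec (CommRingCat.of k)) = Y ↘ Spec (CommRingCat.of k)) {L : X.Modules}
    (hL : PicF.IsInvertible L) :
    cdeg k L ((Scheme.Modules.pushforward i).obj (Coh.structureModule Y)) =
      (Curv2.deg k Y ((Scheme.Modules.pullback i).obj L) 1 : ℚ) := by
  have h := cdeg_eq (k := k) ((Scheme.Modules.pullback i).obj L) (Coh.structureModule Y)
  rw [CurveCoh17.euler_iso (M2.tensorLUnit _)] at h
  rw [Curv2.deg]
  push_cast
  rw [one_mul, ← h]
  simp only [cdeg, md]
  exact congrArg mixedDiff (funext fun n => chi_push i hi (fun _ => hL) _ (M1.isQCoh_structureModule Y) n)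

/-- `curveDeg` as a degree. -/
theorem curveDeg_eq_cdeg {Y : Scheme.{u}} (i : Y ⟶ X) [IsClosedImmersion i] (hY : topologicalKrullDim Y ≤ 1)
    {L : X.Modules} (hL : PicF.IsInvertible L) :
    (Pic13.curveDeg k (i ≫ (X ↘ Spec (CommRingCat.of k))) ((Scheme.Modules.pullback i).obj L) : ℚ) =
      cdeg k L ((Scheme.Modules.pushforward i).obj (Coh.structureModule Y)) := by
  haveI : IsNoetherian X := CohFound.isNoetherian_of_isProper (X ↘ (Spec (CommRingCat.of k)))
  letI : Y.Over (Spec (CommRingCat.of k)) := ⟨i ≫ (X ↘ (Spec (CommRingCat.of k)))⟩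
  haveI : IsProper (Y ↘ (Spec (CommRingCat.of k))) :=
    inferInstanceAs (IsProper (i ≫ (X ↘ (Spec (CommRingCat.of k)))))
  haveI : IsNoetherian Y := CohFound.isNoetherian_of_isProper (Y ↘ (Spec (CommRingCat.of k)))
  have hY' : topologicalKrullDim Y ≤ ((1 : ℕ) : WithBot ℕ∞) := by simpa using hY
  rw [cdeg_push i rfl hL, Curv2.deg, Nat.cast_one, one_mul, Pic13.curveDeg]
  rw [eulerCharLE_eq_euler 1 hY' (isCoh_of_isInvertible (Twist.isInvertible_pullback i hL)),
    eulerCharLE_eq_euler 1 hY' (M1.isCoh_structureModule Y)]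

/-- Numerical equivalence in the form of the degrees on integral closed curves. -/
theorem numEq_of_curveDeg {L L' : X.Modules} (hL : PicF.IsInvertible L) (hL' : PicF.IsInvertible L')
    (h : ∀ (Y : Scheme.{u}) (ι : Y ⟶ X) [IsClosedImmersion ι], IsIntegral Y → topologicalKrullDim Y = 1 →
      Pic13.curveDeg k (ι ≫ (X ↘ Spec (CommRingCat.of k))) ((Scheme.Modules.pullback ι).obj L) =
        Pic13.curveDeg k (ι ≫ (X ↘ Spec (CommRingCat.of k))) ((Scheme.Modules.pullback ι).obj L')) :
    NumEq k L L' := fun ξ hξ => by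
  have hY : topologicalKrullDim (ptIdeal ξ).subscheme = 1 :=
    (AmpleFin18.dim_subscheme _ (Scheme.IdealSheafData.coe_support_vanishingIdeal _)).trans hξ
  have e := congrArg (fun z : ℤ => (z : ℚ)) (h _ (ptIdeal ξ).subschemeι (isIntegral_pt ξ).1 hY)
  rw [curveDeg_eq_cdeg _ hY.le hL, curveDeg_eq_cdeg _ hY.le hL'] at e
  exact e

theorem dim_support_push {Y : Scheme.{u}} (i : Y ⟶ X) [IsClosedImmersion i] (F : Y.Modules) :
    topologicalKrullDim (CohB1.support ((Scheme.Modules.pushforward i).obj F)) ≤ topologicalKrullDim Y :=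
  (dim_le_of_subset (CohFound.support_push_subset i F) le_rfl).trans
    (i.isEmbedding.toHomeomorph.isHomeomorph.topologicalKrullDim_eq _).ge

theorem curveDeg_eq_of_numEq {L L' : X.Modules} (hL : PicF.IsInvertible L) (hL' : PicF.IsInvertible L')
    (h : NumEq k L L') {Y : Scheme.{u}} (ι : Y ⟶ X) [IsClosedImmersion ι] (hY : topologicalKrullDim Y ≤ 1) :
    Pic13.curveDeg k (ι ≫ (X ↘ Spec (CommRingCat.of k))) ((Scheme.Modules.pullback ι).obj L) =
      Pic13.curveDeg k (ι ≫ (X ↘ Spec (CommRingCat.of k))) ((Scheme.Modules.pullback ι).obj L') := by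
  haveI : IsNoetherian X := CohFound.isNoetherian_of_isProper (X ↘ (Spec (CommRingCat.of k)))
  haveI : IsLocallyNoetherian Y := LocallyOfFiniteType.isLocallyNoetherian ι
  have hc : Coh.IsCoh ((Scheme.Modules.pushforward ι).obj (Coh.structureModule Y)) :=
    CohFound.isCoh_push_closedImm ι (M1.isCoh_structureModule Y)
  exact_mod_cast (curveDeg_eq_cdeg ι hY hL).trans ((cdeg_eq_of_numEq hL hL' h hc
    ((dim_support_push ι _).trans hY)).trans (curveDeg_eq_cdeg ι hY hL').symm)

/-- The statement about `χ(O_C ⊗ L)` for the ideals of integral curves. -/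
theorem cdeg_quotMod (C : X.IdealSheafData) (L : X.Modules) :
    cdeg k L (ClSub.quotMod C) =
      (Curv2.euler k X (CohB1.tensorMod (ClSub.quotMod C) L) : ℚ) - (Curv2.euler k X (ClSub.quotMod C) : ℚ) :=
  cdeg_eq _ _

/-- Numerical invariance of ampleness. -/
theorem isAmple_of_numEq {L L' : X.Modules} (hL : PicF.IsInvertible L) (hL' : PicF.IsInvertible L')
    (h : NumEq k L L') (hA : CohB1.IsAmple L) : CohB1.IsAmple L' := by
  haveI : IsNoetherian X := CohFound.isNoetherian_of_isProper (X ↘ (Spec (CommRingCat.of k)))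
  rw [isAmple_iff_nakaiPos (k := k) hL']
  intro Z i hi hZ d hd hZd
  haveI := hi
  haveI : IsLocallyNoetherian Z := LocallyOfFiniteType.isLocallyNoetherian i
  refine lt_of_lt_of_eq ((isAmple_iff_nakaiPos (k := k) hL).1 hA Z i hi hZ d hd hZd) ?_
  exact md_eq_of_numEq d _ _ (fun _ => hL) (fun _ => hL') (fun _ => h) _
    (CohFound.isCoh_push_closedImm i (M1.isCoh_structureModule Z)) ((dim_support_push i _).trans hZd.le)

end Groth.Agent.NumPoly18
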