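import Groth.Agent.Lib.NumPoly18.StrictNef
import Groth.Agent.Lib.AmpleFin18.PushEuler
import Groth.Agent.S7640
import Groth.Agent.Lib.TateTors22.CurveThrough

/-!
# Degrees on curves and pullback
-/

set_option autoImplicit false
set_option linter.style.haveILetI false
set_option maxHeartbeats 800000
set_option backward.isDefEq.respectTransparency false

universe u

open CategoryTheory CategoryTheory.Limits AlgebraicGeometry TopologicalSpace Opposite

namespace Groth.Agent.NumPoly18

open Groth.Agent Groth.Agent.Snapper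

/-- An invertible module on a one-point scheme is trivial. -/
theorem nonempty_iso_unit_of_subsingleton {W : Scheme.{u}} [Subsingleton W] [Nonempty W] {L : W.Modules}
    (hL : PicF.IsInvertible L) : Nonempty (L ≅ Coh.structureModule W) := by
  obtain ⟨U, e, hxU, -, -, he⟩ := Amp.exists_isGenerator hL (x := Classical.arbitrary W) (V := ⊤) trivial
  have hU : U = ⊤ := top_le_iff.1 fun y _ => Subsingleton.elim (Classical.arbitrary W) y ▸ hxU
  subst hU
  haveI := CurveAmple18.isIso_of_genLocus_eq_top hL (M1.secHom e) (top_le_iff.1 fun y _ => by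
    refine (Amp.mem_genLocus_iff hL _).2 ?_
    rw [Amp.gval_secHom]
    exact Amp.gen_of_isGenerator he (x := y) trivial)
  exact ⟨(asIso (M1.secHom e)).symm⟩

/-- The residue degree of a finite morphism at the generic point is positive. -/
theorem residueDegree_pos {X Y : Scheme.{u}} [IsIntegral X] [IsIntegral Y] [IsNoetherian X] [IsNoetherian Y]
    (hX : topologicalKrullDim X ≤ 1) (hY : topologicalKrullDim Y = 1) (f : X ⟶ Y) [IsProper f]
    (hξ : f (genericPoint X) = genericPoint Y) : 0 < f.residueDegree (genericPoint X) := by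
  haveI : IsFinite f := AmpleFin18.isFinite_of_nonconstant hX hY f hξ
  rw [← AmpleFin18.finrank_pushO_genericPoint hX hY f hξ hξ]
  have hG := Cyc26.isCoh_push_finite f (M1.isCoh_structureModule X)
  haveI := M1.finite_stalk hG.1 hG.2 (genericPoint Y)
  have hK : IsField (Y.presheaf.stalk (genericPoint Y)) := Field.toIsField Y.functionField
  letI := hK.toField
  have hmem : genericPoint Y ∈ CohB1.support ((Scheme.Modules.pushforward f).obj (Coh.structureModule X)) := by
    intro h
    haveI := h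
    let s : Γ((Scheme.Modules.pushforward f).obj (Coh.structureModule X), (⊤ : Y.Opens)) := (1 : Γ(X, ⊤))
    obtain ⟨W, hW, i, j, e⟩ := ((Scheme.Modules.pushforward f).obj (Coh.structureModule X)).presheaf.germ_eq
      (genericPoint Y) (Opens.mem_top _) (Opens.mem_top _) s 0 (Subsingleton.elim _ _)
    rw [map_zero] at e
    have hx : genericPoint X ∈ f ⁻¹ᵁ W := by
      change f (genericPoint X) ∈ W
      rw [hξ]
      exact hW
    have e' : (1 : Γ(X, f ⁻¹ᵁ W)) = 0 :=
      (map_one (X.presheaf.map ((Opens.map f.base).map i).op).hom).symm.trans e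
    have := congrArg (X.presheaf.germ (f ⁻¹ᵁ W) _ hx) e'
    rw [map_one, map_zero] at this
    exact one_ne_zero this
  haveI : Nontrivial (((Scheme.Modules.pushforward f).obj (Coh.structureModule X)).presheaf.stalk (genericPoint Y)) :=
    not_subsingleton_iff_nontrivial.1 hmem
  exact Module.finrank_pos

variable {X X' : Scheme.{u}} {k : Type u} [Field k] [X.Over (Spec (CommRingCat.of k))]
  [X'.Over (Spec (CommRingCat.of k))] [IsProper (X ↘ Spec (CommRingCat.of k))]
  [IsProper (X' ↘ Spec (CommRingCat.of k))]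

include k in
/-- The image of a curve is a point or a curve. -/
theorem image_curve (f : X' ⟶ X) (hf : f ≫ (X ↘ Spec (CommRingCat.of k)) = X' ↘ Spec (CommRingCat.of k))
    {ξ : X'} (hξ : topologicalKrullDim (closure ({ξ} : Set X')) = 1) :
    IsClosed ({f ξ} : Set X) ∨ topologicalKrullDim (closure ({f ξ} : Set X)) = 1 := by
  haveI : IsNoetherian X := CohFound.isNoetherian_of_isProper (X ↘ (Spec (CommRingCat.of k)))
  haveI : IsProper (f ≫ (X ↘ Spec (CommRingCat.of k))) := by rw [hf]; infer_instance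
  haveI : IsProper f := IsProper.of_comp f (X ↘ Spec (CommRingCat.of k))
  by_cases hcl : IsClosed ({f ξ} : Set X)
  · exact Or.inl hcl
  refine Or.inr ?_
  obtain ⟨n, hn⟩ := Snapper.exists_dim_le k X
  haveI : Nonempty (closure ({f ξ} : Set X)) := ⟨⟨f ξ, subset_closure rfl⟩⟩
  haveI : Nonempty (IrreducibleCloseds (closure ({f ξ} : Set X))) :=
    ⟨⟨closure {Classical.arbitrary _}, isIrreducible_singleton.closure, isClosed_closure⟩⟩
  obtain ⟨d, hd⟩ := AmpleFin18.mem_natCast_or_top (topologicalKrullDim (closure ({f ξ} : Set X))) n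
    Order.krullDim_nonneg (Topology.IsInducing.subtypeVal.topologicalKrullDim_le.trans hn)
  rcases d with _ | _ | d
  · exact absurd (Snapper.isClosed_point_of_dim_le_zero isClosed_closure hd.le (subset_closure rfl)) hcl
  · simpa using hd
  exfalso
  obtain ⟨C, hC, hCsub, hηC, hCd⟩ := Snapper.exists_closed_of_dim_eq (η := f ξ) (r := d + 1) hd
  obtain ⟨w, hw, hwd⟩ := AmpleFin18.exists_point_dim hC hCd
  have himg : closure ({f ξ} : Set X) ⊆ f '' closure {ξ} :=
    closure_minimal (Set.singleton_subset_iff.2 ⟨ξ, subset_closure rfl, rfl⟩) (f.isClosedMap _ isClosed_closure)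
  obtain ⟨y, hy, hyw⟩ := himg (hCsub hw)
  have hyc : IsClosed ({y} : Set X') := by
    refine closure_subset_iff_isClosed.1 fun z hz => ?_
    by_contra hne
    have hne2 : ξ ∉ closure ({y} : Set X') := fun h' => hηC (by
      have hmem : y ∈ f ⁻¹' C := by rw [Set.mem_preimage, hyw]; exact hw
      exact closure_minimal (Set.singleton_subset_iff.2 hmem) (hC.preimage f.continuous) h')
    have he := dim_le_of_notMem (η := ξ) (C := closure ({y} : Set X')) isClosed_closure
      (isClosed_closure.closure_subset_iff.2 (Set.singleton_subset_iff.2 hy)) hne2 (d := 0) (by simp [hξ])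
    exact hne (Set.mem_singleton_iff.2 (((Snapper.isClosed_point_of_dim_le_zero isClosed_closure (by simpa using he)
      (subset_closure (Set.mem_singleton y))).closure_eq).le hz))
  have hwc : IsClosed ({w} : Set X) := by
    have := f.isClosedMap _ hyc
    rwa [Set.image_singleton, hyw] at this
  rw [hwc.closure_eq] at hwd
  haveI : Subsingleton (IrreducibleCloseds ({w} : Set X)) := ⟨fun a b => by
    refine IrreducibleCloseds.ext (Set.ext fun z => ?_)
    obtain ⟨x1, hx1⟩ := a.isIrreducible.nonempty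
    obtain ⟨x2, hx2⟩ := b.isIrreducible.nonempty
    exact ⟨fun _ => Subsingleton.elim x2 z ▸ hx2, fun _ => Subsingleton.elim x1 z ▸ hx1⟩⟩
  have h0 : topologicalKrullDim ({w} : Set X) ≤ 0 := Order.krullDim_nonpos_of_subsingleton
  rw [hwd] at h0
  exact absurd h0 (by exact_mod_cast Nat.not_succ_le_zero d)

/-- The degree of a pulled back module on a curve. -/
theorem cdeg_pullback (f : X' ⟶ X) (hf : f ≫ (X ↘ Spec (CommRingCat.of k)) = X' ↘ Spec (CommRingCat.of k))
    {ξ : X'} (hξ : topologicalKrullDim (closure ({ξ} : Set X')) = 1) :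
    (∀ L : X.Modules, PicF.IsInvertible L → cdeg k ((Scheme.Modules.pullback f).obj L) (ptMod ξ) = 0) ∧
        IsClosed ({f ξ} : Set X) ∨
      topologicalKrullDim (closure ({f ξ} : Set X)) = 1 ∧ ∃ c : ℕ, 0 < c ∧ ∀ L : X.Modules, PicF.IsInvertible L →
        cdeg k ((Scheme.Modules.pullback f).obj L) (ptMod ξ) = (c : ℚ) * cdeg k L (ptMod (f ξ)) := by
  haveI : IsProper (f ≫ (X ↘ Spec (CommRingCat.of k))) := by rw [hf]; infer_instance
  haveI : IsProper f := IsProper.of_comp f (X ↘ Spec (CommRingCat.of k))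
  let ι := (ptIdeal ξ).subschemeι
  let ι' := (ptIdeal (f ξ)).subschemeι
  letI : (ptIdeal ξ).subscheme.Over (Spec (CommRingCat.of k)) := ⟨ι ≫ (X' ↘ (Spec (CommRingCat.of k)))⟩
  letI : (ptIdeal (f ξ)).subscheme.Over (Spec (CommRingCat.of k)) := ⟨ι' ≫ (X ↘ (Spec (CommRingCat.of k)))⟩
  haveI : IsProper ((ptIdeal ξ).subscheme ↘ (Spec (CommRingCat.of k))) :=
    inferInstanceAs (IsProper (ι ≫ (X' ↘ (Spec (CommRingCat.of k)))))
  haveI : IsProper ((ptIdeal (f ξ)).subscheme ↘ (Spec (CommRingCat.of k))) :=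
    inferInstanceAs (IsProper (ι' ≫ (X ↘ (Spec (CommRingCat.of k)))))
  haveI : IsNoetherian (ptIdeal ξ).subscheme :=
    CohFound.isNoetherian_of_isProper ((ptIdeal ξ).subscheme ↘ (Spec (CommRingCat.of k)))
  haveI : IsNoetherian (ptIdeal (f ξ)).subscheme :=
    CohFound.isNoetherian_of_isProper ((ptIdeal (f ξ)).subscheme ↘ (Spec (CommRingCat.of k)))
  obtain ⟨hY, z, hzgen, hzξ⟩ := isIntegral_pt ξ
  obtain ⟨hW, z', hzgen', hzη⟩ := isIntegral_pt (f ξ)
  haveI := hY
  haveI := hW
  have hr : Set.range (ι ≫ f) ⊆ ((ptIdeal (f ξ)).support : Set X) := by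
    rintro _ ⟨y, rfl⟩
    rw [show ((ptIdeal (f ξ)).support : Set X) = closure {f ξ} from Scheme.IdealSheafData.coe_support_vanishingIdeal _]
    rw [Scheme.Hom.comp_apply]
    exact map_mem_closure f.continuous ((range_ptι ξ).le ⟨y, rfl⟩) fun a ha => by simp [Set.mem_singleton_iff.1 ha]
  obtain ⟨j, hj⟩ := AmpleFin18.exists_lift_of_range_subset (ι ≫ f) (ptIdeal (f ξ)) hr
  have hjk : j ≫ ((ptIdeal (f ξ)).subscheme ↘ Spec (CommRingCat.of k)) =
      (ptIdeal ξ).subscheme ↘ Spec (CommRingCat.of k) := by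
    show j ≫ ι' ≫ _ = ι ≫ _
    rw [← Category.assoc, hj, Category.assoc, hf]
  have key : ∀ L : X.Modules, PicF.IsInvertible L → cdeg k ((Scheme.Modules.pullback f).obj L) (ptMod ξ) =
      (Curv2.deg k (ptIdeal ξ).subscheme
        ((Scheme.Modules.pullback j).obj ((Scheme.Modules.pullback ι').obj L)) 1 : ℚ) := fun L hL => by
    rw [show ptMod ξ = (Scheme.Modules.pushforward ι).obj (Coh.structureModule (ptIdeal ξ).subscheme) from rfl,
      cdeg_push ι rfl (Twist.isInvertible_pullback f hL)]
    congr 1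
    exact CurveCoh17.deg_iso ((Scheme.Modules.pullbackComp ι f).app L ≪≫
      (Scheme.Modules.pullbackCongr hj.symm).app L ≪≫ ((Scheme.Modules.pullbackComp j ι').app L).symm)
  rcases image_curve (k := k) f hf hξ with hcl | h1
  · refine Or.inl ⟨fun L hL => ?_, hcl⟩
    haveI : Subsingleton (ptIdeal (f ξ)).subscheme := ⟨fun a b => ι'.isClosedEmbedding.injective (by
      have h : ∀ a, ι' a = f ξ := fun a => by
        have h' := (range_ptι (f ξ)).le (Set.mem_range_self a)
        rwa [hcl.closure_eq] at h'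
      rw [h a, h b])⟩
    obtain ⟨e⟩ := nonempty_iso_unit_of_subsingleton (Twist.isInvertible_pullback ι' hL)
    rw [key L hL, CurveCoh17.deg_iso ((Scheme.Modules.pullback j).mapIso e ≪≫ Twist.pullbackUnitIso j),
      CurveCoh17.deg_structureModule, Int.cast_zero]
  · refine Or.inr ⟨h1, ?_⟩
    have hYd : topologicalKrullDim (ptIdeal ξ).subscheme = 1 :=
      (AmpleFin18.dim_subscheme _ (Scheme.IdealSheafData.coe_support_vanishingIdeal _)).trans hξ
    have hWd : topologicalKrullDim (ptIdeal (f ξ)).subscheme = 1 :=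
      (AmpleFin18.dim_subscheme _ (Scheme.IdealSheafData.coe_support_vanishingIdeal _)).trans h1
    haveI : IsProper (j ≫ ((ptIdeal (f ξ)).subscheme ↘ Spec (CommRingCat.of k))) := by rw [hjk]; infer_instance
    haveI : IsProper j := IsProper.of_comp j ((ptIdeal (f ξ)).subscheme ↘ Spec (CommRingCat.of k))
    have hgen : j (genericPoint (ptIdeal ξ).subscheme) = genericPoint (ptIdeal (f ξ)).subscheme := by
      refine ι'.isClosedEmbedding.injective ?_
      rw [← Scheme.Hom.comp_apply, hj, Scheme.Hom.comp_apply, (genericPoint_spec _).eq hzgen,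
        (genericPoint_spec _).eq hzgen', hzη, hzξ]
    refine ⟨_, residueDegree_pos hYd.le hWd j hgen, fun L hL => ?_⟩
    rw [key L hL, S7640.result k _ _ hYd hWd j hjk hgen 1 _
        ((M2.isInvertible_iff_isFinLocFreeOfRank_one _).1 (Twist.isInvertible_pullback ι' hL)),
      show ptMod (f ξ) = (Scheme.Modules.pushforward ι').obj (Coh.structureModule (ptIdeal (f ξ)).subscheme) from rfl,
      cdeg_push ι' rfl hL]
    push_cast
    rfl

include k in
/-- Every curve is dominated by a curve. -/
theorem exists_curve_over (f : X' ⟶ X) (hf : f ≫ (X ↘ Spec (CommRingCat.of k)) = X' ↘ Spec (CommRingCat.of k))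
    [Surjective f] {η : X} (hη : topologicalKrullDim (closure ({η} : Set X)) = 1) :
    ∃ ξ : X', topologicalKrullDim (closure ({ξ} : Set X')) = 1 ∧ f ξ = η := by
  haveI : IsNoetherian X := CohFound.isNoetherian_of_isProper (X ↘ (Spec (CommRingCat.of k)))
  haveI : IsNoetherian X' := CohFound.isNoetherian_of_isProper (X' ↘ (Spec (CommRingCat.of k)))
  haveI : IsProper (f ≫ (X ↘ Spec (CommRingCat.of k))) := by rw [hf]; infer_instance
  haveI : IsProper f := IsProper.of_comp f (X ↘ Spec (CommRingCat.of k))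
  obtain ⟨C, ⟨hC, ξ₀, hξ₀C, hξ₀⟩, hmin⟩ := (wellFounded_lt (α := Closeds X')).has_min
    {C : Closeds X' | IsIrreducible (C : Set X') ∧ η ∈ f '' (C : Set X')}
    (by
      obtain ⟨y, hy⟩ := f.surjective η
      exact ⟨⟨closure {y}, isClosed_closure⟩, isIrreducible_singleton.closure, y, subset_closure rfl, hy⟩)
  obtain ⟨ξ, hξ⟩ := QuasiSober.sober hC C.isClosed
  have hsurj : closure ({η} : Set X) ⊆ f '' (C : Set X') :=
    closure_minimal (Set.singleton_subset_iff.2 ⟨ξ₀, hξ₀C, hξ₀⟩) (f.isClosedMap _ C.isClosed)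
  have hξη : f ξ = η := by
    let C₀ : Closeds X' := ⟨closure {ξ₀}, isClosed_closure⟩
    have hle : C₀ ≤ C := C.isClosed.closure_subset_iff.2 (Set.singleton_subset_iff.2 hξ₀C)
    have he : C₀ = C := hle.lt_or_eq.resolve_left fun hlt =>
      hmin C₀ ⟨isIrreducible_singleton.closure, ξ₀, subset_closure rfl, hξ₀⟩ hlt
    have : ξ = ξ₀ := hξ.eq (show IsGenericPoint ξ₀ (C : Set X') from congrArg (fun D : Closeds X' => (D : Set X')) he)
    rw [this, hξ₀]
  refine ⟨ξ, ?_, hξη⟩
  have hCξ : closure ({ξ} : Set X') = (C : Set X') := hξ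
  obtain ⟨n, hn⟩ := Snapper.exists_dim_le k X'
  haveI : Nonempty (closure ({ξ} : Set X')) := ⟨⟨ξ, subset_closure rfl⟩⟩
  haveI : Nonempty (IrreducibleCloseds (closure ({ξ} : Set X'))) :=
    ⟨⟨closure {Classical.arbitrary _}, isIrreducible_singleton.closure, isClosed_closure⟩⟩
  obtain ⟨d, hd⟩ := AmpleFin18.mem_natCast_or_top (topologicalKrullDim (closure ({ξ} : Set X'))) n
    Order.krullDim_nonneg (Topology.IsInducing.subtypeVal.topologicalKrullDim_le.trans hn)
  have hne : ¬ IsClosed ({η} : Set X) := fun hc => by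
    rw [hc.closure_eq] at hη
    haveI : Subsingleton (IrreducibleCloseds ({η} : Set X)) := ⟨fun a b => by
      refine IrreducibleCloseds.ext (Set.ext fun z => ?_)
      obtain ⟨x1, hx1⟩ := a.isIrreducible.nonempty
      obtain ⟨x2, hx2⟩ := b.isIrreducible.nonempty
      exact ⟨fun _ => Subsingleton.elim x2 z ▸ hx2, fun _ => Subsingleton.elim x1 z ▸ hx1⟩⟩
    have h0 : topologicalKrullDim ({η} : Set X) ≤ 0 := Order.krullDim_nonpos_of_subsingleton
    rw [hη] at h0
    exact absurd h0 (not_le.2 zero_lt_one)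
  rcases d with _ | _ | d
  · refine absurd ?_ hne
    have hξc := Snapper.isClosed_point_of_dim_le_zero isClosed_closure hd.le (subset_closure (s := ({ξ} : Set X')) rfl)
    have := f.isClosedMap _ hξc
    rwa [Set.image_singleton, hξη] at this
  · simpa using hd
  exfalso
  -- a closed point of `C` over a closed point of the curve
  obtain ⟨w, hw, hwc⟩ := IsClosed.exists_closed_singleton (isClosed_closure (s := ({η} : Set X))) ⟨η, subset_closure rfl⟩
  obtain ⟨x₀, hx₀C, hx₀⟩ := hsurj hw
  obtain ⟨x, hx, hxc⟩ := IsClosed.exists_closed_singleton (C.isClosed.inter (hwc.preimage f.continuous))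
    ⟨x₀, hx₀C, hx₀⟩
  have hwη : w ≠ η := fun e => hne (e ▸ hwc)
  obtain ⟨hY, z, hzgen, hzξ⟩ := isIntegral_pt ξ
  haveI := hY
  let ι := (ptIdeal ξ).subschemeι
  haveI : IsNoetherian (ptIdeal ξ).subscheme :=
    CohFound.isNoetherian_of_isProper (ι ≫ (X' ↘ (Spec (CommRingCat.of k))))
  obtain ⟨x', hx'⟩ : x ∈ Set.range ι := (range_ptι ξ).ge (hCξ.ge hx.1)
  obtain ⟨y, hyx, hyF, hyd⟩ := TateTors22.exists_curve_avoiding (ι ≫ (X' ↘ (Spec (CommRingCat.of k)))) x'
    (by
      have e : ({x'} : Set (ptIdeal ξ).subscheme) = ι ⁻¹' {x} := Set.ext fun a => by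
        rw [Set.mem_preimage, Set.mem_singleton_iff, Set.mem_singleton_iff, ← hx']
        exact ι.isClosedEmbedding.injective.eq_iff.symm
      rw [e]
      exact hxc.preimage ι.continuous)
    ((ι ≫ f) ⁻¹' {w}) (hwc.preimage (ι ≫ f).continuous) (by
      rw [(genericPoint_spec _).eq hzgen, Set.mem_preimage, Scheme.Hom.comp_apply, hzξ, hξη]
      exact fun h => hwη h.symm)
  have hyC : ι y ∈ (C : Set X') := hCξ ▸ (range_ptι ξ).le ⟨y, rfl⟩
  have hfy : f (ι y) = η := by
    have h1 : f (ι y) ∈ closure ({η} : Set X) := by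
      rw [← hξη]
      exact map_mem_closure f.continuous (hCξ.ge hyC) fun a ha => by simp [Set.mem_singleton_iff.1 ha]
    have h2 : f (ι y) ⤳ w := by
      have h := (hyx.map ι.continuous).map f.continuous
      rw [hx', show f x = w from hx.2] at h
      exact h
    by_contra hne'
    have h3 : f (ι y) ≠ w := fun e => hyF (by rw [Set.mem_preimage, Scheme.Hom.comp_apply]; exact e)
    have he := dim_le_of_notMem (η := η) (C := closure ({f (ι y)} : Set X)) isClosed_closure
      (isClosed_closure.closure_subset_iff.2 (Set.singleton_subset_iff.2 h1)) (fun h => hne'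
        ((specializes_iff_mem_closure.2 h).antisymm (specializes_iff_mem_closure.2 h1)).eq)
      (d := 0) (by simp [hη])
    have hcl := Snapper.isClosed_point_of_dim_le_zero isClosed_closure (by simpa using he)
      (subset_closure (Set.mem_singleton (f (ι y))))
    exact h3 (Set.mem_singleton_iff.1 (hcl.closure_eq.le (specializes_iff_mem_closure.1 h2))).symm
  -- so the curve is the whole of `C`
  let C₁ : Closeds X' := ⟨closure {ι y}, isClosed_closure⟩
  have hle₁ : C₁ ≤ C := C.isClosed.closure_subset_iff.2 (Set.singleton_subset_iff.2 hyC)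
  have he₁ : C₁ = C := hle₁.lt_or_eq.resolve_left fun hlt =>
    hmin C₁ ⟨isIrreducible_singleton.closure, ι y, subset_closure rfl, hfy⟩ hlt
  have hyξ : ι y = ξ := (show IsGenericPoint (ι y) (C : Set X') from congrArg (fun D : Closeds X' => (D : Set X')) he₁).eq hξ
  have hy : y = genericPoint (ptIdeal ξ).subscheme :=
    ι.isClosedEmbedding.injective (by rw [hyξ, (genericPoint_spec _).eq hzgen]; exact hzξ.symm)
  rw [hy, genericPoint_closure (ptIdeal ξ).subscheme] at hyd
  have h5 : topologicalKrullDim (ptIdeal ξ).subscheme ≤ 1 :=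
    ((Homeomorph.Set.univ (ptIdeal ξ).subscheme).isHomeomorph.topologicalKrullDim_eq _).ge.trans hyd
  rw [AmpleFin18.dim_subscheme (ptIdeal ξ) (Scheme.IdealSheafData.coe_support_vanishingIdeal _)] at h5
  exact absurd (hd ▸ h5 : ((d + 1 + 1 : ℕ) : WithBot ℕ∞) ≤ 1) (by exact_mod_cast (by omega : ¬ d + 1 + 1 ≤ 1))

omit [X'.Over (Spec (CommRingCat.of k))] [IsProper (X' ↘ Spec (CommRingCat.of k))] in
theorem not_isClosed_of_dim_one {η : X} (hη : topologicalKrullDim (closure ({η} : Set X)) = 1) :
    ¬ IsClosed ({η} : Set X) := fun hc => by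
  rw [hc.closure_eq] at hη
  haveI : Subsingleton (IrreducibleCloseds ({η} : Set X)) := ⟨fun a b => by
    refine IrreducibleCloseds.ext (Set.ext fun z => ?_)
    obtain ⟨x1, hx1⟩ := a.isIrreducible.nonempty
    obtain ⟨x2, hx2⟩ := b.isIrreducible.nonempty
    exact ⟨fun _ => Subsingleton.elim x2 z ▸ hx2, fun _ => Subsingleton.elim x1 z ▸ hx1⟩⟩
  have h0 : topologicalKrullDim ({η} : Set X) ≤ 0 := Order.krullDim_nonpos_of_subsingleton
  rw [hη] at h0
  exact absurd h0 (not_le.2 zero_lt_one)

/-- Nefness on the ideals of curves gives it on the points. -/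
theorem cdeg_nonneg_of_quotMod {L : X.Modules}
    (h : ∀ C : X.IdealSheafData, IsIntegral C.subscheme → topologicalKrullDim (C.support : Set X) = 1 →
      0 ≤ cdeg k L (ClSub.quotMod C)) :
    ∀ ξ : X, topologicalKrullDim (closure ({ξ} : Set X)) = 1 → 0 ≤ cdeg k L (ptMod ξ) := fun ξ hξ =>
  h (ptIdeal ξ) (isIntegral_pt ξ).1 (by
    rw [show ((ptIdeal ξ).support : Set X) = closure {ξ} from Scheme.IdealSheafData.coe_support_vanishingIdeal _]
    exact hξ)

omit [X'.Over (Spec (CommRingCat.of k))] [IsProper (X' ↘ Spec (CommRingCat.of k))] in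
/-- Nefness on the points gives it on the ideals of curves. -/
theorem cdeg_quotMod_nonneg {L : X.Modules} (hL : PicF.IsInvertible L)
    (h : ∀ ξ : X, topologicalKrullDim (closure ({ξ} : Set X)) = 1 → 0 ≤ cdeg k L (ptMod ξ))
    (C : X.IdealSheafData) (_hC : IsIntegral C.subscheme) (h1 : topologicalKrullDim (C.support : Set X) = 1) :
    0 ≤ cdeg k L (ClSub.quotMod C) := by
  haveI : IsNoetherian X := CohFound.isNoetherian_of_isProper (X ↘ (Spec (CommRingCat.of k)))
  exact md_rel_of_integral k (fun a _ => 0 ≤ a) le_rfl (fun _ _ _ _ a b => add_nonneg a b)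
    (fun c _ _ hc a => mul_nonneg hc a) (L := fun _ : Fin 1 => L) (L' := fun _ : Fin 1 => L) (fun _ => hL)
    (fun _ => hL) (fun ξ hξ => h ξ (by simpa using hξ)) (CurveCoh17.isCoh_quotMod C)
    (by simpa using Snapper.dim_le_of_subset (support_quotMod_subset C) h1.le)

end Groth.Agent.NumPoly18
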