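import Groth.Agent.Lib.NumPoly18.Trans

/-!
# Intersection numbers as mixed differences
-/

set_option autoImplicit false
set_option linter.style.haveILetI false
set_option backward.isDefEq.respectTransparency false

universe u

open CategoryTheory CategoryTheory.Limits AlgebraicGeometry TopologicalSpace Opposite

namespace Groth.Agent.NumPoly18

open Groth.Agent Groth.Agent.Snapper

variable {X : Scheme.{u}} {k : Type u} [Field k] [X.Over (Spec (CommRingCat.of k))]
  [IsProper (X ↘ Spec (CommRingCat.of k))]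

/-- The coefficient of `n₁ ⋯ n_r` of the Snapper polynomial. -/
theorem coeff_eq_mixedDiff {r : ℕ} {L : Fin r → X.Modules} (hL : ∀ i, PicF.IsInvertible (L i)) {F : X.Modules}
    (hF : Coh.IsCoh F) (hd : topologicalKrullDim (CohB1.support F) ≤ (r : WithBot ℕ∞)) {P : MvPolynomial (Fin r) ℚ}
    (hP : ∀ n : Fin r → ℕ, (Curv2.euler k X (Curv2.tensorPows F r L n) : ℚ) = MvPolynomial.eval (fun i => (n i : ℚ)) P) :
    MvPolynomial.coeff (ones r) P = mixedDiff (chi k L F) := by
  obtain ⟨P', hP', hPe'⟩ := snapper X k r F hF hd r L hL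
  have hPP : P' = P := eq_of_eval_nat fun n => by rw [← hPe' n, ← hP n, euler_tensorPows]; rfl
  subst hPP
  exact coeff_ones_eq_mixedDiff hP' fun n => hPe' n

/-- The mixed difference is additive over the top-dimensional components. -/
theorem mixedDiff_eq_sum {r : ℕ} {L : Fin r → X.Modules} (hL : ∀ i, PicF.IsInvertible (L i))
    {Z : Set X} (hZ : IsClosed Z) (hd : topologicalKrullDim Z ≤ (r : WithBot ℕ∞))
    (T : Finset X) (hT : ∀ ξ, ξ ∈ T ↔ ξ ∈ Z ∧ topologicalKrullDim (closure ({ξ} : Set X)) = (r : WithBot ℕ∞))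
    {F : X.Modules} (hF : Coh.IsCoh F) (hFZ : CohB1.support F ⊆ Z) :
    mixedDiff (chi k L F) = ∑ ξ ∈ T, lenAt F ξ * mixedDiff (chi k L (ptMod ξ)) := by
  have h := polyLT_chi_sub_components (k := k) hL hZ hd T hT hF hFZ
  rw [← mixedDiff_sum]
  conv_lhs => rw [show chi k L F = fun n => (chi k L F n - ∑ ξ ∈ T, lenAt F ξ * chi k L (ptMod ξ) n) +
    ∑ ξ ∈ T, lenAt F ξ * chi k L (ptMod ξ) n from funext fun n => by ring]
  rw [mixedDiff_add, mixedDiff_of_polyLT h, zero_add]

theorem dim_support_ptMod {ξ : X} {d : WithBot ℕ∞}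
    (h : topologicalKrullDim (closure ({ξ} : Set X)) ≤ d) : topologicalKrullDim (CohB1.support (ptMod ξ)) ≤ d :=
  dim_le_of_subset (support_ptMod ξ) h

theorem support_quotMod_subset (D : X.IdealSheafData) : CohB1.support (ClSub.quotMod D) ⊆ (D.support : Set X) :=
  (CohFound.support_push_subset _ _).trans D.range_subschemeι.le

end Groth.Agent.NumPoly18
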