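import Groth.Agent.Lib.NumPoly18.PushInv
import Groth.Agent.Lib.NumPoly18.Apps
import Groth.Agent.Lib.RegExt.Image
import Groth.Agent.Lib.GenFin12.Basic
import Groth.Agent.Lib.Cyc26.NormFormula

/-!
# The degree formula for intersection numbers
-/

set_option autoImplicit false
set_option linter.style.haveILetI false
set_option maxHeartbeats 800000
set_option backward.isDefEq.respectTransparency false

universe u

open CategoryTheory CategoryTheory.Limits AlgebraicGeometry TopologicalSpace Opposite

namespace Groth.Agent.NumPoly18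

open Groth.Agent Groth.Agent.Snapper

section Rank

variable {X Y : Scheme.{u}}

/-- The generic rank of `f_* O` is the residue degree when only the generic point lies over it. -/
theorem finrank_pushO_of_fibre [IsIntegral X] [IsIntegral Y] (f : X ⟶ Y) [IsProper f]
    (hξ : f (genericPoint X) = genericPoint Y) (hpre : ∀ x, f x = f (genericPoint X) → x = genericPoint X) :
    Module.finrank (Y.presheaf.stalk (f (genericPoint X)))
      (((Scheme.Modules.pushforward f).obj (Coh.structureModule X)).presheaf.stalk (f (genericPoint X))) =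
      f.residueDegree (genericPoint X) := by
  let ξ := genericPoint X
  let G := (Scheme.Modules.pushforward f).obj (Coh.structureModule X)
  letI : Algebra (Y.presheaf.stalk (f ξ)) (X.presheaf.stalk ξ) := (f.stalkMap ξ).hom.toAlgebra
  letI : Algebra (Y.residueField (f ξ)) (X.residueField ξ) := (f.residueFieldMap ξ).hom.toAlgebra
  have hKY : IsField (Y.presheaf.stalk (f ξ)) := by
    rw [hξ]; exact Field.toIsField Y.functionField
  have hKX : IsField (X.presheaf.stalk ξ) := Field.toIsField X.functionField
  have bij : ∀ (Z : Scheme.{u}) (z : Z), IsField (Z.presheaf.stalk z) → Function.Bijective (Z.residue z) :=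
    fun Z z h => ⟨by
      refine (injective_iff_map_eq_zero _).2 fun a ha => ?_
      by_contra hne
      have hu : IsUnit a := by
        letI := h.toField
        exact isUnit_iff_ne_zero.2 hne
      have h0 := hu.map (Z.residue z).hom
      rw [show (Z.residue z).hom a = 0 from ha] at h0
      exact not_isUnit_zero h0, IsLocalRing.residue_surjective⟩
  have h1 : Module.finrank (Y.presheaf.stalk (f ξ)) (X.presheaf.stalk ξ) = f.residueDegree ξ :=
    Algebra.finrank_eq_of_equiv_equiv (RingEquiv.ofBijective (Y.residue (f ξ)).hom (bij _ _ hKY))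
      (RingEquiv.ofBijective (X.residue ξ).hom (bij _ _ hKX))
      (RingHom.ext fun a => ConcreteCategory.congr_hom (Scheme.residue_residueFieldMap f ξ) a)
  rw [← h1]
  let q : G.presheaf.stalk (f ξ) →+ ((Coh.structureModule X).presheaf.stalk ξ : Type u) :=
    (TopCat.Presheaf.stalkPushforward AddCommGrpCat.{u} f.base (Coh.structureModule X).presheaf ξ).hom
  have hq : ∀ (V : Y.Opens) (hV : f ξ ∈ V) (s : Γ(G, V)),
      q (G.presheaf.germ V (f ξ) hV s) = (Coh.structureModule X).presheaf.germ (f ⁻¹ᵁ V) ξ hV s := fun V hV s =>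
    ConcreteCategory.congr_hom (TopCat.Presheaf.stalkPushforward_germ AddCommGrpCat.{u} f.base
      (Coh.structureModule X).presheaf V ξ hV) s
  have hsmall : ∀ W : X.Opens, ξ ∈ W → ∃ V : Y.Opens, f ξ ∈ V ∧ f ⁻¹ᵁ V ≤ W := fun W hW => by
    refine ⟨⟨(f '' (W : Set X)ᶜ)ᶜ, (f.isClosedMap _ W.isOpen.isClosed_compl).isOpen_compl⟩, ?_, ?_⟩
    · rintro ⟨x, hx, hfx⟩
      exact hx (hpre _ hfx ▸ hW)
    · intro x hx
      by_contra hxW
      exact hx ⟨x, hxW, rfl⟩
  have hbij : Function.Bijective q := by
    refine ⟨(injective_iff_map_eq_zero q).2 fun a ha => ?_, fun b => ?_⟩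
    · obtain ⟨V, hV, s, rfl⟩ := G.presheaf.exists_germ_eq a
      rw [hq] at ha
      obtain ⟨W, hW, i₁, i₂, he⟩ := (Coh.structureModule X).presheaf.germ_eq ξ (U := f ⁻¹ᵁ V) (V := f ⁻¹ᵁ V) hV hV
        s 0 (ha.trans (map_zero _).symm)
      obtain ⟨V', hV', hle⟩ := hsmall W hW
      have h0 : M1.mres G (inf_le_left : V ⊓ V' ≤ V) s = 0 := by
        have he' := he.trans (map_zero _)
        have := congrArg ((Coh.structureModule X).presheaf.map
          (homOfLE ((f.preimage_mono (inf_le_right : V ⊓ V' ≤ V')).trans hle)).op) he'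
        rw [map_zero, ← CategoryTheory.comp_apply, ← Functor.map_comp] at this
        exact this
      rw [← M1.germ_mres G (inf_le_left : V ⊓ V' ≤ V) ⟨hV, hV'⟩ s, h0, map_zero]
    · obtain ⟨W, hW, t, rfl⟩ := (Coh.structureModule X).presheaf.exists_germ_eq b
      obtain ⟨V, hV, hle⟩ := hsmall W hW
      refine ⟨G.presheaf.germ V (f ξ) hV (M1.mres (Coh.structureModule X) hle t), ?_⟩
      rw [hq]
      exact M1.germ_mres (Coh.structureModule X) hle hV t
  let ι : (Coh.structureModule X).presheaf.stalk ξ ≃ₗ[X.presheaf.stalk ξ] (X.presheaf.stalk ξ : Type u) :=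
    (CurveCoh17.nonempty_stalk_equiv_structureModule ξ).some.trans (LinearEquiv.funUnique (Fin 1) _ _)
  have hsmul : ∀ (c : Y.presheaf.stalk (f ξ)) (a : G.presheaf.stalk (f ξ)),
      q (c • a) = (f.stalkMap ξ c) • ((q a : (Coh.structureModule X).presheaf.stalk ξ)) := by
    intro c a
    obtain ⟨U, hU, c, rfl⟩ := Y.presheaf.exists_germ_eq c
    obtain ⟨V, hV, s, rfl⟩ := G.presheaf.exists_germ_eq a
    rw [← Y.presheaf.germ_res_apply (homOfLE (inf_le_left : U ⊓ V ≤ U)) (f ξ) ⟨hU, hV⟩ c,
      ← M1.germ_mres G (inf_le_right : U ⊓ V ≤ V) (x := f ξ) ⟨hU, hV⟩ s, ← M1.germ_smul, hq, hq,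
      Scheme.Hom.germ_stalkMap_apply, ← M1.germ_smul]
    rfl
  let T : G.presheaf.stalk (f ξ) ≃ₗ[Y.presheaf.stalk (f ξ)] (X.presheaf.stalk ξ : Type u) :=
    { (AddEquiv.ofBijective q hbij).trans ι.toAddEquiv with
      map_smul' := fun c a => by
        show ι (q (c • a)) = f.stalkMap ξ c * ι (q a)
        rw [hsmul, map_smul]
        rfl }
  exact T.finrank_eq


end Rank

variable {X Z W : Scheme.{u}} {k : Type u} [Field k]

/-- A dominant map of finite residue degree preserves the dimension. -/
theorem dim_eq_of_residueDegree_pos [Z.Over (Spec (CommRingCat.of k))] [W.Over (Spec (CommRingCat.of k))]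
    [IsProper (Z ↘ Spec (CommRingCat.of k))] [IsProper (W ↘ Spec (CommRingCat.of k))] [IsIntegral Z] [IsIntegral W]
    (g : Z ⟶ W) (hg : g ≫ (W ↘ Spec (CommRingCat.of k)) = Z ↘ Spec (CommRingCat.of k))
    (hgen : g (genericPoint Z) = genericPoint W) (hn : g.residueDegree (genericPoint Z) ≠ 0) :
    topologicalKrullDim Z = topologicalKrullDim W := by
  let q := W ↘ Spec (CommRingCat.of k)
  suffices hs : VarDim.sdim (g ≫ q) (genericPoint Z) = VarDim.sdim q (g (genericPoint Z)) by
    rw [hg, hgen] at hs
    rw [VarDim.dim_eq_sdim_genericPoint (Z ↘ Spec (CommRingCat.of k)),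
      VarDim.dim_eq_sdim_genericPoint q, hs]
  letI := VarDim.resAlg q (g (genericPoint Z))
  letI := VarDim.resAlg (g ≫ q) (genericPoint Z)
  letI := (g.residueFieldMap (genericPoint Z)).hom.toAlgebra
  haveI : Module.Finite (W.residueField (g (genericPoint Z))) (Z.residueField (genericPoint Z)) :=
    Module.finite_of_finrank_pos (Nat.pos_of_ne_zero hn)
  have h := VarDim.trdeg_comp q g (genericPoint Z)
  haveI : IsProper (g ≫ q) := by rw [hg]; infer_instance
  haveI : LocallyOfFiniteType (g ≫ q) := inferInstance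
  haveI : Algebra.IsAlgebraic (W.residueField (g (genericPoint Z))) (Z.residueField (genericPoint Z)) :=
    Algebra.IsAlgebraic.of_finite _ _
  rw [VarDim.trdeg_residueField (g ≫ q), VarDim.trdeg_residueField q,
    trdeg_eq_zero (R := W.residueField (g (genericPoint Z))) (A := Z.residueField (genericPoint Z)), add_zero] at h
  exact Nat.cast_injective h

variable [Z.Over (Spec (CommRingCat.of k))] [W.Over (Spec (CommRingCat.of k))]
  [IsProper (Z ↘ Spec (CommRingCat.of k))] [IsProper (W ↘ Spec (CommRingCat.of k))] [IsIntegral Z] [IsIntegral W]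

omit [Z.Over (Spec (CommRingCat.of k))] [IsProper (Z ↘ Spec (CommRingCat.of k))] [IsIntegral Z] in
/-- On an integral scheme a top intersection number only sees the generic rank. -/
theorem md_eq_rank_mul {r : ℕ} (hW : topologicalKrullDim W = (r : WithBot ℕ∞)) {L : Fin r → W.Modules}
    (hL : ∀ i, PicF.IsInvertible (L i)) {G : W.Modules} (hG : Coh.IsCoh G) :
    md k L G = lenAt G (genericPoint W) * md k L (ptMod (genericPoint W)) := by
  haveI : IsNoetherian W := CohFound.isNoetherian_of_isProper (W ↘ (Spec (CommRingCat.of k)))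
  have hd : topologicalKrullDim (Set.univ : Set W) ≤ (r : WithBot ℕ∞) :=
    (Topology.IsInducing.subtypeVal.topologicalKrullDim_le).trans hW.le
  rw [md_eq_sum hL isClosed_univ hd {genericPoint W} (fun ξ => ?_) hG (Set.subset_univ _), Finset.sum_singleton]
  have hgd : topologicalKrullDim (closure ({genericPoint W} : Set W)) = (r : WithBot ℕ∞) := by
    rw [genericPoint_closure, (Homeomorph.Set.univ W).isHomeomorph.topologicalKrullDim_eq, hW]
  refine ⟨fun h => by rw [Finset.mem_singleton.1 h]; exact ⟨trivial, hgd⟩, fun h => Finset.mem_singleton.2 ?_⟩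
  exact (eq_of_specializes_of_dim isClosed_univ hd trivial h.2 (genericPoint_specializes ξ)).symm

/-- The degree formula for an integral source and target. -/
theorem md_pullback_dominant (g : Z ⟶ W) (hg : g ≫ (W ↘ Spec (CommRingCat.of k)) = Z ↘ Spec (CommRingCat.of k))
    (hgen : g (genericPoint Z) = genericPoint W) {r : ℕ} (hZ : topologicalKrullDim Z = (r : WithBot ℕ∞))
    {L : Fin r → W.Modules} (hL : ∀ i, PicF.IsInvertible (L i)) :
    md k (fun i => (Scheme.Modules.pullback g).obj (L i)) (Coh.structureModule Z) =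
      (g.residueDegree (genericPoint Z) : ℚ) * md k L (Coh.structureModule W) := by
  haveI : IsNoetherian W := CohFound.isNoetherian_of_isProper (W ↘ (Spec (CommRingCat.of k)))
  haveI : IsNoetherian Z := CohFound.isNoetherian_of_isProper (Z ↘ (Spec (CommRingCat.of k)))
  haveI : IsProper (g ≫ (W ↘ Spec (CommRingCat.of k))) := by rw [hg]; infer_instance
  haveI : IsProper g := IsProper.of_comp g (W ↘ Spec (CommRingCat.of k))
  have hO := M1.isCoh_structureModule Z
  have hOd : topologicalKrullDim (CohB1.support (Coh.structureModule Z)) ≤ (r : WithBot ℕ∞) :=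
    (Topology.IsInducing.subtypeVal.topologicalKrullDim_le).trans hZ.le
  have hpush := sub_eq_zero.1 (md_push_proper g hg L hL _ hO hOd)
  rw [hpush]
  have hP := isCoh_push_proper (k := k) g hO
  have hWle : topologicalKrullDim W ≤ (r : WithBot ℕ∞) := by
    have h := dim_closure_image_le g (Z := Set.univ) isClosed_univ (Set.mem_univ (genericPoint Z))
    rw [hgen, genericPoint_closure] at h
    rw [← (Homeomorph.Set.univ W).isHomeomorph.topologicalKrullDim_eq]
    exact h.trans ((Topology.IsInducing.subtypeVal.topologicalKrullDim_le).trans hZ.le)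
  by_cases hWd : topologicalKrullDim W = (r : WithBot ℕ∞)
  · have hrank : (lenAt ((Scheme.Modules.pushforward g).obj (Coh.structureModule Z)) (genericPoint W)) =
        (g.residueDegree (genericPoint Z) : ℚ) := by
      rw [← finrank_pushO_of_fibre g hgen fun x hx => ?_, lenAt, hgen]
      · have hK : IsField (W.presheaf.stalk (genericPoint W)) := Field.toIsField W.functionField
        haveI := M1.finite_stalk hP.1 hP.2 (genericPoint W)
        letI := hK.toField
        rw [Module.length_eq_finrank]
        rfl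
      · have h1 := dim_closure_image_le g (Z := closure ({x} : Set Z)) isClosed_closure (subset_closure rfl)
        rw [hx, hgen, genericPoint_closure, (Homeomorph.Set.univ W).isHomeomorph.topologicalKrullDim_eq, hWd] at h1
        exact (eq_of_specializes_of_dim isClosed_univ ((Topology.IsInducing.subtypeVal.topologicalKrullDim_le).trans
          hZ.le) trivial (le_antisymm ((dim_le_of_subset (Set.subset_univ _) le_rfl).trans
            ((Topology.IsInducing.subtypeVal.topologicalKrullDim_le).trans hZ.le)) h1) (genericPoint_specializes x)).symm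
    have hone : lenAt (Coh.structureModule W) (genericPoint W) = 1 := by
      have hK : IsField (W.presheaf.stalk (genericPoint W)) := Field.toIsField W.functionField
      letI := hK.toField
      obtain ⟨e⟩ := CurveCoh17.nonempty_stalk_equiv_structureModule (genericPoint W)
      rw [lenAt, e.length_eq, Module.length_eq_finrank, Module.finrank_fin_fun]
      rfl
    rw [md_eq_rank_mul hWd hL hP, md_eq_rank_mul hWd hL (M1.isCoh_structureModule W), hrank, hone, one_mul]
  · have hlt : topologicalKrullDim W < (r : WithBot ℕ∞) := lt_of_le_of_ne hWle hWd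
    rw [md_eq_zero_of_points hL hP fun x _ =>
      ((Topology.IsInducing.subtypeVal.topologicalKrullDim_le).trans_lt hlt)]
    have hz : g.residueDegree (genericPoint Z) = 0 := by
      by_contra hne
      exact hWd ((dim_eq_of_residueDegree_pos g hg hgen hne).symm.trans hZ)
    rw [hz, Nat.cast_zero, zero_mul]

omit [Z.Over (Spec (CommRingCat.of k))] [W.Over (Spec (CommRingCat.of k))]
  [IsProper (Z ↘ Spec (CommRingCat.of k))] [IsProper (W ↘ Spec (CommRingCat.of k))] [IsIntegral Z] [IsIntegral W] in
/-- The degree formula on an integral closed subscheme. -/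
theorem md_pullback_quotMod {Y : Scheme.{u}} [X.Over (Spec (CommRingCat.of k))] [Y.Over (Spec (CommRingCat.of k))]
    [IsProper (X ↘ Spec (CommRingCat.of k))] [IsProper (Y ↘ Spec (CommRingCat.of k))]
    (f : Y ⟶ X) (hf : f ≫ (X ↘ Spec (CommRingCat.of k)) = Y ↘ Spec (CommRingCat.of k))
    (I : Y.IdealSheafData) [IsIntegral I.subscheme] {r : ℕ}
    (hI : topologicalKrullDim (I.support : Set Y) = (r : WithBot ℕ∞))
    {L : Fin r → X.Modules} (hL : ∀ i, PicF.IsInvertible (L i)) :
    md k (fun i => (Scheme.Modules.pullback f).obj (L i)) (ClSub.quotMod I) =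
      ((I.subschemeι ≫ f).residueDegree (genericPoint I.subscheme) : ℚ) *
        md k L (ClSub.quotMod (I.subschemeι ≫ f).ker) := by
  haveI : IsNoetherian X := CohFound.isNoetherian_of_isProper (X ↘ (Spec (CommRingCat.of k)))
  haveI : IsNoetherian Y := CohFound.isNoetherian_of_isProper (Y ↘ (Spec (CommRingCat.of k)))
  haveI : IsProper (f ≫ (X ↘ Spec (CommRingCat.of k))) := by rw [hf]; infer_instance
  haveI : IsProper f := IsProper.of_comp f (X ↘ Spec (CommRingCat.of k))
  let ι := I.subschemeι
  let ι' := (ι ≫ f).ker.subschemeι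
  let g : I.subscheme ⟶ (ι ≫ f).ker.subscheme := (ι ≫ f).toImage
  haveI : IsIntegral (ι ≫ f).ker.subscheme := RegExt.isIntegral_image (ι ≫ f)
  haveI : IsDominant g := inferInstanceAs (IsDominant (ι ≫ f).toImage)
  letI : I.subscheme.Over (Spec (CommRingCat.of k)) := ⟨ι ≫ (Y ↘ (Spec (CommRingCat.of k)))⟩
  letI : (ι ≫ f).ker.subscheme.Over (Spec (CommRingCat.of k)) := ⟨ι' ≫ (X ↘ (Spec (CommRingCat.of k)))⟩
  haveI : IsProper (I.subscheme ↘ (Spec (CommRingCat.of k))) :=
    inferInstanceAs (IsProper (ι ≫ (Y ↘ (Spec (CommRingCat.of k)))))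
  haveI : IsProper ((ι ≫ f).ker.subscheme ↘ (Spec (CommRingCat.of k))) :=
    inferInstanceAs (IsProper (ι' ≫ (X ↘ (Spec (CommRingCat.of k)))))
  have hcomp : g ≫ ι' = ι ≫ f := (ι ≫ f).toImage_imageι
  have hg : g ≫ ((ι ≫ f).ker.subscheme ↘ Spec (CommRingCat.of k)) = I.subscheme ↘ Spec (CommRingCat.of k) := by
    show g ≫ ι' ≫ _ = ι ≫ _
    rw [← Category.assoc, hcomp, Category.assoc, hf]
  have hgen : g (genericPoint I.subscheme) = genericPoint (ι ≫ f).ker.subscheme := GenFin12.apply_genericPoint g
  have hdeg : (ι ≫ f).residueDegree (genericPoint I.subscheme) = g.residueDegree (genericPoint I.subscheme) := by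
    conv_lhs => rw [← hcomp]
    rw [Cyc26.residueDegree_comp, Cyc26.residueDegree_of_bijective ι' _ (Cyc26.residueFieldMap_bijective ι' _), one_mul]
  have hdim : topologicalKrullDim I.subscheme = (r : WithBot ℕ∞) :=
    (AmpleFin18.dim_subscheme I rfl).trans hI
  have key := md_pullback_dominant (k := k) g hg hgen hdim (L := fun i => (Scheme.Modules.pullback ι').obj (L i))
    fun i => Twist.isInvertible_pullback ι' (hL i)
  rw [show ClSub.quotMod I = (Scheme.Modules.pushforward ι).obj (Coh.structureModule I.subscheme) from rfl,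
    show ClSub.quotMod (ι ≫ f).ker = (Scheme.Modules.pushforward ι').obj (Coh.structureModule _) from rfl,
    md_push ι rfl (fun i => Twist.isInvertible_pullback f (hL i)) (M1.isQCoh_structureModule _),
    md_push ι' rfl hL (M1.isQCoh_structureModule _), hdeg, ← key]
  exact md_congr (fun i => ⟨(Scheme.Modules.pullbackComp ι f).app (L i) ≪≫
      (Scheme.Modules.pullbackCongr hcomp.symm).app (L i) ≪≫ ((Scheme.Modules.pullbackComp g ι').app (L i)).symm⟩) _

end Groth.Agent.NumPoly18
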