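import Groth.Agent.Lib.NumPoly18.SurfForm
import Groth.Agent.Lib.NumPoly18.Pullback
import Groth.Agent.Lib.SmoothReg17.Basic
import Groth.Agent.Lib.RegLoc.UFD
import Groth.Agent.Lib.TensorMod.IdealMod
import Groth.Agent.Lib.SecDiv18.Basic
import Groth.Agent.Lib.SecDiv18.Stalk
import Groth.Agent.Lib.SecDiv18.Peel
import Groth.Agent.Lib.VarDim.Scheme
import Groth.Agent.S1684

/-!
# Curves on smooth surfaces are Cartier divisors

Consequently the radical of the intersection form consists of the numerically trivial classes.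
-/

set_option autoImplicit false
set_option linter.style.haveILetI false
set_option maxHeartbeats 800000
set_option backward.isDefEq.respectTransparency false

universe u

open CategoryTheory CategoryTheory.Limits AlgebraicGeometry TopologicalSpace Opposite Filter Order

namespace Groth.Agent.NumPoly18

open Groth.Agent Groth.Agent.Snapper

variable {X : Scheme.{u}} {k : Type u} [Field k] [X.Over (Spec (CommRingCat.of k))]

/-- The codimension of a point of a variety. -/
theorem ringKrullDim_stalk_of_sdim [IsIntegral X] [LocallyOfFiniteType (X ↘ Spec (CommRingCat.of k))] {d : ℕ}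
    (hd : topologicalKrullDim X = (d : WithBot ℕ∞)) (x : X) :
    ringKrullDim (X.presheaf.stalk x) + (VarDim.sdim (X ↘ Spec (CommRingCat.of k)) x : WithBot ℕ∞) =
      (d : WithBot ℕ∞) := by
  let f := X ↘ Spec (CommRingCat.of k)
  obtain ⟨U, hU, hx, -⟩ := exists_isAffineOpen_mem_and_subset (U := (⊤ : X.Opens)) (x := x) trivial
  haveI : Nonempty U := ⟨⟨x, hx⟩⟩
  letI : Algebra k Γ(X, U) := (VarDim.baseToSections f U).toAlgebra
  haveI : Algebra.FiniteType k Γ(X, U) := VarDim.finiteType_baseToSections f hU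
  have hg : genericPoint X ∈ U :=
    ((genericPoint_spec X).specializes (y := x) (Set.mem_univ x)).mem_open U.isOpen hx
  have hbot : (hU.primeIdealOf ⟨genericPoint X, hg⟩).asIdeal = ⊥ :=
    bot_unique fun a ha => by
      by_contra hne
      exact (M1.isUnit_germ_iff hU hg a).1 (isUnit_iff_ne_zero.2 fun h0 =>
        hne (X.germToFunctionField_injective U (h0.trans (map_zero _).symm))) ha
  have hmin : height (hU.primeIdealOf ⟨genericPoint X, hg⟩ : PrimeSpectrum Γ(X, U)) = 0 :=
    height_eq_zero.2 fun q _ => (show (hU.primeIdealOf ⟨genericPoint X, hg⟩).asIdeal ≤ q.asIdeal from hbot ▸ bot_le)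
  have hgd : (VarDim.sdim f (genericPoint X) : WithBot ℕ∞) = d :=
    (VarDim.dim_eq_sdim_genericPoint f).symm.trans hd
  have h1 := VarDim.height_add_coheight_nat k Γ(X, U) (hU.primeIdealOf ⟨genericPoint X, hg⟩)
  rw [hmin, zero_add, VarDim.sdim_eq_coheight f hU] at h1
  have h2 := VarDim.height_add_coheight_nat k Γ(X, U) (hU.primeIdealOf ⟨x, hx⟩)
  rw [VarDim.sdim_eq_coheight f hU, ← h1] at h2
  rw [SecDiv.ringKrullDim_stalk_eq_height hU hx, ← hgd, PrimeSpectrum.height_eq_orderHeight]
  exact congrArg (fun a : ℕ∞ => (a : WithBot ℕ∞)) h2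

variable [IsProper (X ↘ Spec (CommRingCat.of k))]

theorem sdim_eq_one {ξ : X} (hξ : topologicalKrullDim (closure ({ξ} : Set X)) = 1) :
    VarDim.sdim (X ↘ Spec (CommRingCat.of k)) ξ = 1 := by
  rw [VarDim.dim_closure_singleton (X ↘ Spec (CommRingCat.of k))] at hξ
  exact_mod_cast hξ

/-- Curves on a smooth surface are Cartier divisors. -/
theorem isEffCartier_ptIdeal [IsIntegral X] [Smooth (X ↘ Spec (CommRingCat.of k))]
    (hd : topologicalKrullDim X = ((2 : ℕ) : WithBot ℕ∞)) {ξ : X}
    (hξ : topologicalKrullDim (closure ({ξ} : Set X)) = 1) : BlowUp.IsEffCartierIdeal (ptIdeal ξ) := by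
  haveI : IsNoetherian X := CohFound.isNoetherian_of_isProper (X ↘ (Spec (CommRingCat.of k)))
  obtain ⟨hI, z, hz, hzξ⟩ := isIntegral_pt ξ
  haveI := hI
  obtain rfl := (genericPoint_spec _).eq hz
  refine S1684.result X (ptIdeal ξ) ?_ fun x _ => ?_
  · rw [hzξ]
    have h := ringKrullDim_stalk_of_sdim (k := k) hd ξ
    obtain ⟨U, hU, hx, -⟩ := exists_isAffineOpen_mem_and_subset (U := (⊤ : X.Opens)) (x := ξ) trivial
    rw [sdim_eq_one hξ, SecDiv.ringKrullDim_stalk_eq_height hU hx] at h
    rw [SecDiv.ringKrullDim_stalk_eq_height hU hx]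
    generalize (hU.primeIdealOf ⟨ξ, hx⟩).asIdeal.height = a at h ⊢
    have h' : a + 1 = 2 := WithBot.coe_injective (by exact h)
    cases a using ENat.recTopCoe with
    | top => simp at h'
    | coe a =>
      have : a + 1 = 2 := ENat.natCast_inj.1 (by push_cast; exact h')
      obtain rfl : a = 1 := by omega
      rfl
  · haveI := SmoothReg17.isRegularLocalRing_stalk (X ↘ Spec (CommRingCat.of k)) x
    exact ⟨RegLoc.isDomain _, RegLoc.ufd_of_isRegularLocalRing _⟩

/-- Intersection with an effective divisor is the degree on it. -/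
theorem dot_eq_cdeg_quot (hd : topologicalKrullDim X ≤ ((2 : ℕ) : WithBot ℕ∞)) {C : X.IdealSheafData}
    (hC : BlowUp.IsEffCartierIdeal C) {M D Z : X.Modules} (eD : D ≅ ClSub.idealMod C) (hM : PicF.IsInvertible M)
    (eM : CohB1.tensorMod M D ≅ Coh.structureModule X) (hZ : PicF.IsInvertible Z) :
    dot k M Z = cdeg k Z (ClSub.quotMod C) := by
  haveI : IsNoetherian X := CohFound.isNoetherian_of_isProper (X ↘ (Spec (CommRingCat.of k)))
  have hI : PicF.IsInvertible (ClSub.idealMod C) := M2.isInvertible_idealMod C hC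
  have hD : PicF.IsInvertible D := M2.isInvertible_of_iso eD.symm hI
  have h := md_shortExact (k := k) (L := fun _ : Fin 1 => Z) (fun _ => hZ) (M2.shortExact_idealMod C)
    (isCoh_of_isInvertible hI) (M1.isCoh_structureModule X) (CurveCoh17.isCoh_quotMod _)
  have h' : dot k D Z = - cdeg k Z (ClSub.quotMod C) := by
    rw [dot, md_cons, md_iso _ (M2.tensorLUnit D ≪≫ eD), cdeg]
    linarith
  rw [dot_inverse hd hD hM (M2.tensorComm _ _ ≪≫ eM) hZ, h', neg_neg]

theorem exists_dot_eq_cdeg_pt [IsIntegral X] [Smooth (X ↘ Spec (CommRingCat.of k))]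
    (hd : topologicalKrullDim X = ((2 : ℕ) : WithBot ℕ∞)) {ξ : X}
    (hξ : topologicalKrullDim (closure ({ξ} : Set X)) = 1) :
    ∃ M : X.Modules, PicF.IsInvertible M ∧ ∀ Z, PicF.IsInvertible Z → dot k M Z = cdeg k Z (ptMod ξ) := by
  have hC := isEffCartier_ptIdeal (k := k) hd hξ
  obtain ⟨M, hM, ⟨e⟩⟩ := M2.exists_inverse (M2.isInvertible_idealMod _ hC)
  exact ⟨M, hM, fun Z hZ => dot_eq_cdeg_quot hd.le hC (Iso.refl _) hM (M2.tensorComm _ _ ≪≫ e) hZ⟩

/-- Classes orthogonal to everything are numerically trivial. -/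
theorem numEq_of_dot [IsIntegral X] [Smooth (X ↘ Spec (CommRingCat.of k))]
    (hd : topologicalKrullDim X = ((2 : ℕ) : WithBot ℕ∞)) {L L' : X.Modules} (hL : PicF.IsInvertible L)
    (hL' : PicF.IsInvertible L') (h : ∀ Z, PicF.IsInvertible Z → dot k L Z = dot k L' Z) : NumEq k L L' :=
  fun ξ hξ => by
    obtain ⟨M, hM, hMe⟩ := exists_dot_eq_cdeg_pt (k := k) hd hξ
    rw [← hMe L hL, ← hMe L' hL', dot_comm, h M hM, dot_comm]

theorem isNumEquivZero_of_dot [IsIntegral X] [Smooth (X ↘ Spec (CommRingCat.of k))]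
    (hd : topologicalKrullDim X = ((2 : ℕ) : WithBot ℕ∞)) {L : X.Modules} (hL : PicF.IsInvertible L)
    (h : ∀ Z, PicF.IsInvertible Z → dot k L Z = 0) : Pic13.IsNumEquivZero k X L := fun Y i _ _ hY => by
  have hO := PicLoc.isInvertible_structureModule X
  rw [curveDeg_eq_of_numEq hL hO (numEq_of_dot hd hL hO fun Z hZ => by
    rw [h Z hZ, dot, md_cons_unit]) i hY.le]
  haveI : IsNoetherian X := CohFound.isNoetherian_of_isProper (X ↘ (Spec (CommRingCat.of k)))
  have e : (Pic13.curveDeg k (i ≫ (X ↘ Spec (CommRingCat.of k)))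
      ((Scheme.Modules.pullback i).obj (Coh.structureModule X)) : ℚ) = 0 := by
    rw [curveDeg_eq_cdeg i hY.le hO, cdeg_eq, CurveCoh17.euler_iso (M2.tensorRUnit _), sub_self]
  exact_mod_cast e

end Groth.Agent.NumPoly18
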