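import Groth.Agent.Lib.NumPoly18.SurfBir
import Groth.Agent.Lib.NumPoly18.SurfCartier
import Groth.Agent.Lib.TensorMod.PullSupport
import Groth.Agent.Lib.CurveCoh17.IdealPow

/-!
# Classes of effective divisors on proper surfaces
-/

set_option autoImplicit false
set_option linter.style.haveILetI false
set_option maxHeartbeats 800000
set_option backward.isDefEq.respectTransparency false

universe u

open CategoryTheory CategoryTheory.Limits AlgebraicGeometry TopologicalSpace Opposite

namespace Groth.Agent.NumPoly18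

open Groth.Agent Groth.Agent.Snapper

variable {X : Scheme.{u}} {k : Type u} [Field k] [X.Over (Spec (CommRingCat.of k))]
  [IsProper (X ↘ Spec (CommRingCat.of k))]

/-- The product with the ideal of a divisor is minus the degree on it. -/
theorem dot_idealMod {C : X.IdealSheafData} (hC : BlowUp.IsEffCartierIdeal C) {Z : X.Modules}
    (hZ : PicF.IsInvertible Z) : dot k (ClSub.idealMod C) Z = - cdeg k Z (ClSub.quotMod C) := by
  haveI : IsNoetherian X := CohFound.isNoetherian_of_isProper (X ↘ (Spec (CommRingCat.of k)))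
  have h := md_shortExact (k := k) (L := fun _ : Fin 1 => Z) (fun _ => hZ) (M2.shortExact_idealMod C)
    (isCoh_of_isInvertible (M2.isInvertible_idealMod C hC)) (M1.isCoh_structureModule X) (CurveCoh17.isCoh_quotMod _)
  rw [dot, md_cons, md_iso _ (M2.tensorLUnit (ClSub.idealMod C)), cdeg]
  linarith

variable [IsIntegral X]

/-- A section of an invertible module vanishing at the generic point vanishes near every point. -/
theorem germ_eq_zero_of_generic {M : X.Modules} (hM : PicF.IsInvertible M) (y : X) (a : M.presheaf.stalk y)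
    (h : M.presheaf.stalkSpecializes (genericPoint_specializes y) a = 0) : a = 0 := by
  obtain ⟨D, e, hyD, he⟩ := P1Split.exists_isBas_nhd ((M2.isInvertible_iff_isFinLocFreeOfRank_one M).1 hM) y
  obtain ⟨W₀, hyW₀, t₀, rfl⟩ := M.presheaf.exists_germ_eq a
  let W : X.Opens := W₀ ⊓ D
  have hy : y ∈ W := ⟨hyW₀, hyD⟩
  rw [← M1.germ_mres M (inf_le_left : W ≤ W₀) hy t₀] at h ⊢
  obtain ⟨c, hc⟩ := (he W inf_le_right).2 (M1.mres M (inf_le_left : W ≤ W₀) t₀)
  rw [TopCat.Presheaf.germ_stalkSpecializes_apply] at h
  obtain ⟨V, hgV, i₁, i₂, hV⟩ := TopCat.Presheaf.germ_eq M.presheaf (U := W₀ ⊓ D) (V := W₀ ⊓ D) (genericPoint X)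
    ((genericPoint_specializes y).mem_open (W₀ ⊓ D).isOpen hy) ((genericPoint_specializes y).mem_open (W₀ ⊓ D).isOpen hy)
    _ 0 (h.trans (map_zero _).symm)
  haveI : Nonempty V := ⟨⟨genericPoint X, hgV⟩⟩
  have hc' := congrArg (M1.mres M (leOfHom i₁)) hc
  dsimp only at hc'
  rw [P1Split.mres_sum_smul, show M1.mres M (leOfHom i₁) (M1.mres M (inf_le_left : W ≤ W₀) t₀) = 0 from
    hV.trans (map_zero _)] at hc'
  simp only [M1.mres_mres] at hc'
  have hz : (fun i => M1.ores (leOfHom i₁) (c i)) = 0 := by
    refine (he V ((leOfHom i₁).trans inf_le_right)).1 ?_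
    simp only [Pi.zero_apply, zero_smul, Finset.sum_const_zero]
    refine Eq.trans (Finset.sum_congr rfl fun i _ => ?_) hc'
    first | rfl | (rw [M1.mres_mres])
  have hcz : c = 0 := funext fun i => by
    have hi : M1.ores (leOfHom i₁) (c i) = 0 := congrFun hz i
    exact map_injective_of_isIntegral X i₁ (hi.trans (map_zero _).symm)
  rw [show M1.mres M (inf_le_left : W ≤ W₀) t₀ = 0 from by rw [← hc, hcz]; simp, map_zero]

/-- A homomorphism of invertible modules which is onto at the generic point is injective. -/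
theorem injective_stalk_of_generic {M N : X.Modules} (φ : M ⟶ N) (hM : PicF.IsInvertible M) (hN : PicF.IsInvertible N)
    (hg : genericPoint X ∉ CohB1.support (cokernel φ)) (y : X) :
    Function.Injective ((M1.stalkAb y).map φ) := by
  let η := genericPoint X
  have hK : IsField (X.presheaf.stalk η) := Field.toIsField X.functionField
  obtain ⟨em⟩ := CurveCoh17.nonempty_stalk_equiv ((M2.isInvertible_iff_isFinLocFreeOfRank_one M).1 hM) η
  obtain ⟨en⟩ := CurveCoh17.nonempty_stalk_equiv ((M2.isInvertible_iff_isFinLocFreeOfRank_one N).1 hN) η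
  letI := hK.toField
  have hsurj : Function.Surjective (CurveCoh17.stalkLin φ η) := fun b => by
    obtain ⟨-, hex, -⟩ := Cyc26.stalkLin_exact
      (T := ShortComplex.mk (Abelian.image.ι φ) (cokernel.π φ) (kernel.condition _))
      { exact := ShortComplex.exact_of_f_is_kernel _ (kernelIsKernel (cokernel.π φ)) } η
    haveI : Subsingleton ((cokernel φ).presheaf.stalk η) := not_not.1 hg
    obtain ⟨c, hc⟩ := (hex b).1 (Subsingleton.elim _ _)
    obtain ⟨d, rfl⟩ := (M1.epi_iff_stalk (Abelian.factorThruImage φ)).1 inferInstance η c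
    refine ⟨d, ?_⟩
    rw [← hc]
    exact (congrArg (fun g => CurveCoh17.stalkLin g η d) (Abelian.image.fac φ)).symm.trans
      (CurveCoh17.stalkLin_comp _ _ η d)
  let ψ := (en.toLinearMap.comp (CurveCoh17.stalkLin φ η)).comp em.symm.toLinearMap
  have hψ : Function.Surjective ψ := en.surjective.comp (hsurj.comp em.symm.surjective)
  have hψi : Function.Injective ψ := LinearMap.injective_iff_surjective.2 hψ
  refine (injective_iff_map_eq_zero _).2 fun a ha => germ_eq_zero_of_generic hM y a ?_
  obtain ⟨U, hyU, s, rfl⟩ := M.presheaf.exists_germ_eq a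
  rw [TopCat.Presheaf.germ_stalkSpecializes_apply]
  apply em.injective
  rw [map_zero]
  apply hψi
  rw [map_zero]
  simp only [ψ, LinearMap.comp_apply, LinearEquiv.coe_coe, LinearEquiv.symm_apply_apply]
  rw [CurveCoh17.stalkLin_apply]
  have ha' : N.presheaf.germ U y hyU (φ.app U s) = 0 :=
    (TopCat.Presheaf.stalkFunctor_map_germ_apply U y hyU φ.mapPresheaf s).symm.trans ha
  refine (congrArg en ((TopCat.Presheaf.stalkFunctor_map_germ_apply U η
    ((genericPoint_specializes y).mem_open U.isOpen hyU) φ.mapPresheaf s).trans ?_)).trans (map_zero en)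
  exact (TopCat.Presheaf.germ_stalkSpecializes_apply (C := AddCommGrpCat.{u}) N.presheaf hyU
    (genericPoint_specializes y) (φ.app U s)).symm.trans (by rw [ha', map_zero])

/-- A nonempty divisor does not contain the generic point. -/
theorem generic_notMem_support {C : X.IdealSheafData} (hC : BlowUp.IsEffCartierIdeal C) :
    genericPoint X ∉ (C.support : Set X) := by
  intro h
  obtain ⟨U, hxU, g, hIU, hg0, hgm, -⟩ := SecDiv.exists_stalk_eqn hC h
  have hK : IsField (X.presheaf.stalk (genericPoint X)) := Field.toIsField X.functionField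
  have hbot : IsLocalRing.maximalIdeal (X.presheaf.stalk (genericPoint X)) = ⊥ :=
    IsLocalRing.isField_iff_maximalIdeal_eq.1 hK
  rw [hbot, Ideal.mem_bot] at hgm
  exact nonZeroDivisors.ne_zero hg0 hgm

/-- A nonempty divisor on a proper surface is not numerically trivial. -/
theorem exists_dot_pullback_neg (hd : topologicalKrullDim X = ((2 : ℕ) : WithBot ℕ∞)) {C : X.IdealSheafData}
    (hC : BlowUp.IsEffCartierIdeal C) {η : X} (hη : η ∈ (C.support : Set X))
    (hη1 : topologicalKrullDim (closure ({η} : Set X)) = 1) :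
    ∃ (W : Scheme.{u}) (str : W ⟶ Spec (CommRingCat.of k)),
      letI : W.Over (Spec (CommRingCat.of k)) := ⟨str⟩
      IsProper (W ↘ Spec (CommRingCat.of k)) ∧ IsIntegral W ∧ topologicalKrullDim W = ((2 : ℕ) : WithBot ℕ∞) ∧
        ∃ (f : W ⟶ X) (_ : IsIntegral W), f ≫ (X ↘ Spec (CommRingCat.of k)) = str ∧
          f (genericPoint W) = genericPoint X ∧ f.residueDegree (genericPoint W) = 1 ∧
          ∃ A : W.Modules, CohB1.IsAmple A ∧ dot k ((Scheme.Modules.pullback f).obj (ClSub.idealMod C)) A < 0 := by
  haveI : IsNoetherian X := CohFound.isNoetherian_of_isProper (X ↘ (Spec (CommRingCat.of k)))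
  obtain ⟨W, str, hW, hWi, hA, f, _, hf, hgen, hdeg⟩ := exists_projective_model k X
  letI : W.Over (Spec (CommRingCat.of k)) := ⟨str⟩
  haveI := hW
  haveI := hWi
  obtain ⟨A, hA⟩ := hA
  haveI : IsNoetherian W := CohFound.isNoetherian_of_isProper (W ↘ (Spec (CommRingCat.of k)))
  haveI : IsProper (f ≫ (X ↘ Spec (CommRingCat.of k))) := by rw [hf]; exact hW
  haveI : IsProper f := IsProper.of_comp f (X ↘ Spec (CommRingCat.of k))
  haveI : Surjective f := ⟨fun x => by
    have hc : IsClosed (Set.range f) := f.isClosedMap.isClosed_range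
    exact ((genericPoint_spec X).mem_closed_set_iff hc).1 ⟨genericPoint W, hgen⟩ (Set.mem_univ x)⟩
  have hWd : topologicalKrullDim W = ((2 : ℕ) : WithBot ℕ∞) :=
    (dim_eq_of_residueDegree_pos f hf hgen (by rw [hdeg]; omega)).trans hd
  refine ⟨W, str, hW, hWi, hWd, f, hWi, hf, hgen, hdeg, A, hA, ?_⟩
  have hI := M2.isInvertible_idealMod C hC
  have hI' := Twist.isInvertible_pullback f hI
  let φ : (Scheme.Modules.pullback f).obj (ClSub.idealMod C) ⟶ Coh.structureModule W :=
    (Scheme.Modules.pullback f).map (ClSub.idealModι C) ≫ (Twist.pullbackUnitIso f).hom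
  let Q := cokernel φ
  have hQc : Coh.IsCoh Q := M1.isCoh_cokernel (isCoh_of_isInvertible hI').1 (M1.isCoh_structureModule W) φ
  haveI : (Scheme.Modules.pullback f).IsLeftAdjoint := (Scheme.Modules.pullbackPushforwardAdjunction f).isLeftAdjoint
  have hSC := M2.shortExact_idealMod C
  haveI : Epi (ClSub.toSubscheme C) := hSC.epi_g
  have eQ : Q ≅ (Scheme.Modules.pullback f).obj (ClSub.quotMod C) :=
    cokernelCompIsIso _ _ ≪≫ (PreservesCokernel.iso (Scheme.Modules.pullback f) (ClSub.idealModι C)).symm ≪≫
      (Scheme.Modules.pullback f).mapIso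
        (IsColimit.coconePointUniqueUpToIso (cokernelIsCokernel _) hSC.gIsCokernel)
  have hQ : CohB1.support Q = f ⁻¹' (C.support : Set X) := by
    rw [← support_quotMod C, ← M2.support_pullback f (CurveCoh17.isCoh_quotMod C).1 (CurveCoh17.isCoh_quotMod C).2]
    exact (CohFound.support_subset_of_mono eQ.hom).antisymm (CohFound.support_subset_of_mono eQ.inv)
  have hgW : genericPoint W ∉ CohB1.support Q := by
    rw [hQ, Set.mem_preimage, hgen]
    exact generic_notMem_support hC
  have hQd : topologicalKrullDim (CohB1.support Q) ≤ ((1 : ℕ) : WithBot ℕ∞) :=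
    dim_le_of_notMem (M1.isClosed_support hQc.2) ((genericPoint_closure W).symm ▸ Set.subset_univ _) hgW (by
      rw [genericPoint_closure, (Homeomorph.Set.univ W).isHomeomorph.topologicalKrullDim_eq, hWd])
  obtain ⟨ξ, hξ, hξη⟩ := exists_curve_over (k := k) f hf hη1
  have hξQ : ξ ∈ CohB1.support Q := by
    rw [hQ, Set.mem_preimage, hξη]
    exact hη
  have hQ1 : topologicalKrullDim (CohB1.support Q) = 1 := by
    refine le_antisymm (by simpa using hQd) ?_
    rw [← hξ]
    exact dim_le_of_subset ((M1.isClosed_support hQc.2).closure_subset_iff.2 (Set.singleton_subset_iff.2 hξQ)) le_rfl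
  have hmono : md k (fun _ : Fin 1 => A) (kernel φ) = 0 := by
    refine md_eq_zero_of_points (fun _ => hA.1) (CurveCoh17.isCoh_kernel (isCoh_of_isInvertible hI') (M1.isCoh_structureModule W).1 φ)
      fun x hx => absurd hx ?_
    haveI : Mono φ := (M1.mono_iff_stalk φ).2 fun y =>
      injective_stalk_of_generic φ hI' (PicLoc.isInvertible_structureModule W) hgW y
    intro hx'
    exact hx' (AddCommGrpCat.subsingleton_of_isZero ((M1.stalkAb x).map_isZero (isZero_kernel_of_mono φ)))
  have h1 := md_hom (k := k) (fun _ : Fin 1 => hA.1) φ (isCoh_of_isInvertible hI') (M1.isCoh_structureModule W)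
  rw [hmono, sub_zero] at h1
  have h2 := cdeg_pos_of_dim_one (k := k) hA hQc hQ1
  rw [dot, md_cons, md_iso _ (M2.tensorLUnit _)]
  simp only [cdeg, Q] at h2
  linarith

include k in
/-- A nonempty divisor on a surface contains a curve. -/
theorem exists_curve_in_divisor (hd : topologicalKrullDim X = ((2 : ℕ) : WithBot ℕ∞)) {C : X.IdealSheafData}
    (hC : BlowUp.IsEffCartierIdeal C) (hne : C ≠ ⊤) :
    ∃ η : X, η ∈ (C.support : Set X) ∧ topologicalKrullDim (closure ({η} : Set X)) = 1 := by
  haveI : IsNoetherian X := CohFound.isNoetherian_of_isProper (X ↘ (Spec (CommRingCat.of k)))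
  let f := X ↘ Spec (CommRingCat.of k)
  by_contra hno
  push Not at hno
  have hs : topologicalKrullDim (C.support : Set X) ≤ ((1 : ℕ) : WithBot ℕ∞) :=
    dim_support_effCartier hC (e := 1) hd.le
  have hz : ∀ y ∈ (C.support : Set X), VarDim.sdim f y = 0 := fun y hy => by
    have h1 : topologicalKrullDim (closure ({y} : Set X)) ≤ ((1 : ℕ) : WithBot ℕ∞) :=
      dim_le_of_subset (C.support.isClosed.closure_subset_iff.2 (Set.singleton_subset_iff.2 hy)) hs
    have h2 := hno y hy
    rw [VarDim.dim_closure_singleton f] at h1 h2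
    have h1' : VarDim.sdim f y ≤ 1 := by exact_mod_cast h1
    have h2' : VarDim.sdim f y ≠ 1 := fun h => h2 (by rw [h]; rfl)
    omega
  obtain ⟨x, hx⟩ : (C.support : Set X).Nonempty := by
    by_contra he
    refine hne ((Scheme.IdealSheafData.support_eq_bot_iff C).1 ?_)
    ext1
    exact Set.not_nonempty_iff_eq_empty.1 he
  obtain ⟨U, hxU, g, -, hg0, hgm, hq⟩ := SecDiv.exists_stalk_eqn hC hx
  have hmax : ∀ y ∈ (C.support : Set X), y ⤳ x → y = x := fun y hy h =>
    eq_of_specializes_of_dim (Z := closure ({y} : Set X)) isClosed_closure (d := 0)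
      (by rw [VarDim.dim_closure_singleton f, hz y hy]) (subset_closure rfl)
      (by rw [VarDim.dim_closure_singleton f, hz x hx]) h
  have h := ringKrullDim_stalk_of_sdim (k := k) hd x
  rw [SecDiv.ringKrullDim_eq_one hg0 hgm (hq hmax), hz x hx] at h
  exact absurd h (by norm_num)

end Groth.Agent.NumPoly18
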