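import Groth.Agent.Lib.NumPoly18.Growth
import Groth.Agent.Lib.AVDegree22.EulerVol
import Groth.Agent.Lib.ModM1.Ann

/-!
# Big invertible modules
-/

set_option autoImplicit false
set_option linter.style.haveILetI false
set_option maxHeartbeats 800000
set_option backward.isDefEq.respectTransparency false

universe u

open CategoryTheory CategoryTheory.Limits AlgebraicGeometry TopologicalSpace Opposite Filter

namespace Groth.Agent.NumPoly18

open Groth.Agent Groth.Agent.Snapper
open Groth.Agent.CurveCoh17 (hequiv hh0)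

variable {X : Scheme.{u}}

theorem mono_tensor_right {B C : X.Modules} (φ : B ⟶ C) [Mono φ] {T : X.Modules} (hT : PicF.IsInvertible T) :
    Mono ((M2.tensorR T).map φ) :=
  (CurveCoh17.shortExact_tensorR (S := ShortComplex.mk φ (cokernel.π φ) (cokernel.condition _))
    { exact := ShortComplex.exact_cokernel φ } T (flat_stalk hT)).mono_f

/-- A module with an injective section. -/
def HasMonoSec (E : X.Modules) : Prop := ∃ φ : Coh.structureModule X ⟶ E, Mono φ

theorem HasMonoSec.of_iso {E F : X.Modules} (h : HasMonoSec E) (e : E ≅ F) : HasMonoSec F := by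
  obtain ⟨φ, hφ⟩ := h
  exact ⟨φ ≫ e.hom, inferInstance⟩

theorem hasMonoSec_unit : HasMonoSec (Coh.structureModule X) := ⟨𝟙 _, inferInstance⟩

theorem HasMonoSec.tensor {E F : X.Modules} (hE : HasMonoSec E) (hF : HasMonoSec F)
    (hE' : PicF.IsInvertible E) : HasMonoSec (CohB1.tensorMod F E) := by
  obtain ⟨φ, hφ⟩ := hE
  obtain ⟨ψ, hψ⟩ := hF
  haveI := mono_tensor_right ψ hE'
  exact ⟨φ ≫ (M2.tensorLUnit E).inv ≫ (M2.tensorR E).map ψ,
    mono_comp' hφ (mono_comp' inferInstance (mono_tensor_right ψ hE'))⟩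

theorem HasMonoSec.pow {E : X.Modules} (h : HasMonoSec E) (hE : PicF.IsInvertible E) :
    ∀ n : ℕ, HasMonoSec (CohB1.tensorPow E n)
  | 0 => hasMonoSec_unit
  | n + 1 => h.tensor (h.pow hE n) hE

/-- An injective section of `E` gives an injection `B → C` when `E ⊗ B ≅ C`. -/
theorem exists_mono_of_hasMonoSec {E B C : X.Modules} (h : HasMonoSec E) (hB : PicF.IsInvertible B)
    (e : CohB1.tensorMod E B ≅ C) : ∃ φ : B ⟶ C, Mono φ := by
  obtain ⟨ψ, hψ⟩ := h
  exact ⟨(M2.tensorLUnit B).inv ≫ (M2.tensorR B).map ψ ≫ e.hom,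
    mono_comp' inferInstance (mono_comp' (mono_tensor_right ψ hB) inferInstance)⟩

/-- An injection `B → C` gives an injective section of `C ⊗ B'` for an inverse `B'`. -/
theorem hasMonoSec_of_mono {B B' C : X.Modules} (φ : B ⟶ C) [Mono φ] (hB' : PicF.IsInvertible B')
    (e : CohB1.tensorMod B B' ≅ Coh.structureModule X) : HasMonoSec (CohB1.tensorMod C B') :=
  ⟨e.inv ≫ (M2.tensorR B').map φ, mono_comp' inferInstance (mono_tensor_right φ hB')⟩

theorem hasMonoSec_of_section [IsIntegral X] {E : X.Modules} (hE : PicF.IsInvertible E)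
    (s : Γ(E, (⊤ : X.Opens))) (hs : s ≠ 0) : HasMonoSec E :=
  ⟨M1.secHom s, (M1.mono_iff_stalk _).2 (CurveCoh17.injective_stalk_secHom
    ((M2.isInvertible_iff_isFinLocFreeOfRank_one E).1 hE) hs)⟩

variable (k : Type u) [Field k] [X.Over (Spec (CommRingCat.of k))] [IsProper (X ↘ Spec (CommRingCat.of k))]

include k

theorem hasMonoSec_of_nontrivial [IsIntegral X] {E : X.Modules} (hE : PicF.IsInvertible E)
    (h : Nontrivial (Coh.HH X E 0)) : HasMonoSec E := by
  haveI := h
  obtain ⟨z, hz⟩ := exists_ne (0 : Coh.HH X E 0)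
  exact hasMonoSec_of_section hE (hh0 _ z) fun h0 => hz ((hh0 _).injective (h0.trans (map_zero _).symm))

theorem nontrivial_of_hasMonoSec [Nonempty X] {E : X.Modules} (h : HasMonoSec E) :
    Nontrivial (Coh.HH X E 0) := by
  obtain ⟨φ, hφ⟩ := h
  let x : X := Classical.arbitrary X
  let one : Γ(Coh.structureModule X, (⊤ : X.Opens)) := (1 : Γ(X, ⊤))
  haveI : Nontrivial (Coh.HH X (Coh.structureModule X) 0) := by
    refine nontrivial_of_ne ((hh0 _).symm one) 0 fun h0 => ?_
    have h1 : one = 0 := by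
      have := congrArg (hh0 (Coh.structureModule X)) h0
      rwa [AddEquiv.apply_symm_apply, map_zero] at this
    have h2 : (1 : Γ(X, (⊤ : X.Opens))) = 0 := h1
    have h3 := congrArg (X.presheaf.germ ⊤ x trivial) h2
    rw [map_one, map_zero] at h3
    exact one_ne_zero h3
  have hS : (ShortComplex.mk φ (cokernel.π φ) (cokernel.condition _)).ShortExact :=
    { exact := ShortComplex.exact_cokernel φ }
  exact (CurveCoh17.hmap_f_injective k hS).nontrivial

/-- An ample module has injective sections in all large powers. -/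
theorem eventually_hasMonoSec [IsIntegral X] {A : X.Modules} (hA : CohB1.IsAmple A) {E : X.Modules}
    (hE : PicF.IsInvertible E) :
    ∃ n₀ : ℕ, ∀ n, n₀ ≤ n → HasMonoSec (CohB1.tensorMod E (CohB1.tensorPow A n)) := by
  obtain ⟨n₀, hn₀⟩ := RA.exists_globallyGenerated hA E (isCoh_of_isInvertible hE).1
    (by
      haveI : IsNoetherian X := CohFound.isNoetherian_of_isProper (X ↘ (Spec (CommRingCat.of k)))
      exact (isCoh_of_isInvertible hE).2)
  refine ⟨n₀, fun n hn => ?_⟩
  have hI := M2.isInvertible_tensor hE (M2.isInvertible_tensorPow hA.1 n)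
  obtain ⟨t, ht⟩ := RA.exists_gen_of_isGloballyGenerated hI (hn₀ n hn) (genericPoint X)
  refine hasMonoSec_of_section hI (Amp.gval t) fun h0 => ?_
  have hg := (Amp.mem_genLocus_iff hI t).1 ht
  rw [h0, show Amp.gm (CohB1.tensorMod E (CohB1.tensorPow A n)) (genericPoint X) (U := ⊤) trivial 0 = 0
    from map_zero _] at hg
  exact Amp.not_gen_zero hI _ hg

/-- Sections of powers of an ample module grow like `n^d`. -/
theorem exists_h0_lower {d : ℕ} (hd : topologicalKrullDim X = (d : WithBot ℕ∞)) {A : X.Modules}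
    (hA : CohB1.IsAmple A) :
    ∃ c : ℚ, 0 < c ∧ ∃ n₀ : ℕ, ∀ n, n₀ ≤ n →
      c * (n : ℚ) ^ d ≤ (Module.finrank k (Coh.HH X (CohB1.tensorPow A n) 0) : ℚ) := by
  haveI : IsNoetherian X := CohFound.isNoetherian_of_isProper (X ↘ (Spec (CommRingCat.of k)))
  obtain ⟨Q, hQd, hQ, hmd⟩ := exists_poly_self k hd hA.1
  have hpos := (asymptotic_rr k hd hA).1
  rw [hmd] at hpos
  have hc : 0 < Q.coeff d := pos_of_mul_pos_right hpos (Nat.cast_nonneg _)
  obtain ⟨n₀, hn₀⟩ := CohFound.exists_vanishing_all (X ↘ Spec (CommRingCat.of k)) hA (M1.isCoh_structureModule X)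
  have hev := ((AVDegree22.tendsto_coeff_of_natDegree_le Q hQd).eventually
    (eventually_ge_nhds (half_lt_self hc))).and (eventually_ge_atTop (n₀ + 1))
  obtain ⟨n₁, hn₁⟩ := eventually_atTop.1 hev
  refine ⟨Q.coeff d / 2, by linarith, n₁, fun n hn => ?_⟩
  obtain ⟨h1, h2⟩ := hn₁ n hn
  have he : (Module.finrank k (Coh.HH X (CohB1.tensorPow A n) 0) : ℚ) = Q.eval (n : ℚ) := by
    rw [← hQ n, Curv2.euler, finsum_eq_single _ 0 fun p hp => by
      haveI : Subsingleton (Coh.HH X (CohB1.tensorPow A n) p) := (CohFound.subsingleton_HH_iff _ p).2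
        (CohFound.subsingleton_hc_of_iso (M2.tensorLUnit _) p _ (hn₀ n (by omega) p (Nat.pos_of_ne_zero hp)))
      simp [Module.finrank_zero_of_subsingleton]]
    simp
  have hn0 : (0 : ℚ) < (n : ℚ) ^ d := pow_pos (Nat.cast_pos.2 (by omega)) d
  rw [he]
  exact (le_div_iff₀ hn0).1 h1

/-- A module into whose powers every ample module injects has maximal growth of sections. -/
theorem growth_of_mono [IsIntegral X] {d : ℕ} (hd : topologicalKrullDim X = (d : WithBot ℕ∞)) {A : X.Modules}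
    (hA : CohB1.IsAmple A) {L : X.Modules} (hL : PicF.IsInvertible L) {m : ℕ} (hm : 0 < m)
    (φ : A ⟶ CohB1.tensorPow L m) [Mono φ] :
    ∃ C : ℚ, 0 < C ∧ ∃ n₁ : ℕ, ∀ n, n₁ ≤ n →
      C * (n : ℚ) ^ d ≤ (Module.finrank k (Coh.HH X (CohB1.tensorPow L n) 0) : ℚ) := by
  haveI : IsNoetherian X := CohFound.isNoetherian_of_isProper (X ↘ (Spec (CommRingCat.of k)))
  obtain ⟨A', hA', ⟨e⟩⟩ := M2.exists_inverse hA.1
  have hP := M2.isInvertible_tensorPow hL m
  let G := CohB1.tensorMod (CohB1.tensorPow L m) A'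
  have hG : PicF.IsInvertible G := M2.isInvertible_tensor hP hA'
  have hGs : HasMonoSec G := hasMonoSec_of_mono φ hA' e
  choose a₀ ha₀ using fun r : Fin m => eventually_hasMonoSec k hA (M2.isInvertible_tensorPow hL (r : ℕ))
  let a := Finset.univ.sup a₀
  obtain ⟨c, hc, n₀, hn₀⟩ := exists_h0_lower k hd hA
  refine ⟨c * (1 / (2 * (m : ℚ))) ^ d, mul_pos hc (by positivity), m * (n₀ + 2 * a + 2), fun n hn => ?_⟩
  have hr := Nat.mod_lt n hm
  have hdiv : n₀ + 2 * a + 2 ≤ n / m := (Nat.le_div_iff_mul_le hm).2 (by rw [mul_comm]; exact hn)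
  obtain ⟨i, hi⟩ := Nat.exists_eq_add_of_le (show a ≤ n / m by omega)
  -- `A^i → A^(a+i) ⊗ L^r → L^n`
  have hs₁ : HasMonoSec (CohB1.tensorMod (CohB1.tensorPow L (n % m)) (CohB1.tensorPow A a)) :=
    ha₀ ⟨n % m, hr⟩ a (Finset.le_sup (f := a₀) (Finset.mem_univ _))
  have hAi := M2.isInvertible_tensorPow hA.1 i
  obtain ⟨f₁, hf₁⟩ := exists_mono_of_hasMonoSec (B := CohB1.tensorPow A i)
    (C := CohB1.tensorMod (CohB1.tensorPow L (n % m)) (CohB1.tensorPow A (a + i))) hs₁ hAi
    (M2.tensorAssoc _ _ _ ≪≫ M2.tensorIso (Iso.refl _) (M2.tensorPowAdd A a i).symm)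
  obtain ⟨f₂, hf₂⟩ := exists_mono_of_hasMonoSec (hGs.pow hG (a + i))
    (B := CohB1.tensorMod (CohB1.tensorPow L (n % m)) (CohB1.tensorPow A (a + i))) (C := CohB1.tensorPow L n)
    (M2.isInvertible_tensor (M2.isInvertible_tensorPow hL _) (M2.isInvertible_tensorPow hA.1 _))
    (M2.tensorIso (Iso.refl _) (M2.tensorComm _ _) ≪≫ (M2.tensorAssoc _ _ _).symm ≪≫
      M2.tensorIso ((M2.tensorPowMul G A (a + i)).symm ≪≫
        M2.tensorPowIso (M2.tensorAssoc _ _ _ ≪≫ M2.tensorIso (Iso.refl _) (M2.tensorComm A' A ≪≫ e) ≪≫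
          M2.tensorRUnit _) (a + i) ≪≫ M2.tensorPowPow L m (a + i)) (Iso.refl _) ≪≫
      (M2.tensorPowAdd L (m * (a + i)) (n % m)).symm ≪≫
      eqToIso (by rw [← hi, Nat.div_add_mod]))
  haveI := hf₁
  haveI := hf₂
  have hle := finrank_h0_le_of_mono k (f₁ ≫ f₂) (isCoh_of_isInvertible (M2.isInvertible_tensorPow hL n))
  refine le_trans ?_ ((hn₀ i (by omega)).trans (Nat.cast_le.2 hle))
  rw [mul_assoc, ← mul_pow]
  refine mul_le_mul_of_nonneg_left (pow_le_pow_left₀ (by positivity) ?_ d) hc.le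
  have hlt : n < m * (2 * i) := by
    have h1 := Nat.div_add_mod n m
    rw [hi] at h1
    have h2 : m * (a + i) + m ≤ m * (2 * i) := by
      rw [← Nat.mul_succ]
      exact Nat.mul_le_mul_left m (by omega)
    omega
  rw [div_mul_eq_mul_div, one_mul, div_le_iff₀ (by positivity)]
  have hlt' : (n : ℚ) < (m : ℚ) * (2 * (i : ℚ)) := by exact_mod_cast hlt
  linarith

/-- Maximal growth of sections along some sequence makes every ample module inject into a power. -/
theorem mono_of_growth_freq [IsIntegral X] {d : ℕ} (hd : topologicalKrullDim X = (d : WithBot ℕ∞)) {A : X.Modules}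
    (hA : CohB1.IsAmple A) {L : X.Modules} (hL : PicF.IsInvertible L) {C : ℚ} (hC : 0 < C)
    (hfreq : ∀ N : ℕ, ∃ n, N ≤ n ∧ C * (n : ℚ) ^ d ≤ (Module.finrank k (Coh.HH X (CohB1.tensorPow L n) 0) : ℚ)) :
    ∃ (m : ℕ) (φ : A ⟶ CohB1.tensorPow L m), 0 < m ∧ Mono φ := by
  haveI : IsNoetherian X := CohFound.isNoetherian_of_isProper (X ↘ (Spec (CommRingCat.of k)))
  obtain ⟨A', hA', ⟨e⟩⟩ := M2.exists_inverse hA.1
  obtain ⟨q₀, hq₀⟩ := eventually_hasMonoSec k hA (PicLoc.isInvertible_structureModule X)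
  let q := q₀ + 1
  have hAq := M2.isInvertible_tensorPow hA.1 q
  have hA'q := M2.isInvertible_tensorPow hA' q
  obtain ⟨s, hs⟩ := (hq₀ q (Nat.le_succ _)).of_iso (M2.tensorLUnit _)
  haveI := hs
  let S : ShortComplex X.Modules := ShortComplex.mk s (cokernel.π s) (cokernel.condition _)
  have hS : S.ShortExact := { exact := ShortComplex.exact_cokernel s }
  have hQ : Coh.IsCoh (cokernel s) := M1.isCoh_cokernel (M1.isCoh_structureModule X).1 (isCoh_of_isInvertible hAq) s
  have hr1 := (M2.isInvertible_iff_isFinLocFreeOfRank_one _).1 hAq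
  have hη : genericPoint X ∉ CohB1.support (cokernel s) := (M1.notMem_support_iff _ _).2
    (CurveCoh17.eq_zero_stalk_cokernel _ _ (CurveCoh17.surjective_stalkLin_genericPoint
      (CurveCoh17.nonempty_stalk_equiv_structureModule _) (CurveCoh17.nonempty_stalk_equiv hr1 _) _
      ((M1.mono_iff_stalk s).1 hs _)))
  let K := CohB1.tensorMod (cokernel s) (CohB1.tensorPow A' q)
  have hK : Coh.IsCoh K := CurveCoh17.isCoh_tensor hQ (isCoh_of_isInvertible hA'q)
  have hKη : genericPoint X ∉ CohB1.support K := fun h => hη (support_tensor_subset _ _ h)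
  -- a bound for the sections of `K ⊗ L^n`
  obtain ⟨B, hB⟩ : ∃ B : ℚ, ∀ n : ℕ, 1 ≤ n →
      (n : ℚ) * (Module.finrank k (Coh.HH X (CohB1.tensorMod K (CohB1.tensorPow L n)) 0) : ℚ) ≤ B * (n : ℚ) ^ d := by
    let I := M1.annSheaf hK.1 hK.2
    let j := I.subschemeι
    have hunit := M1.isIso_unit_of_ker_smul j K hK.1 fun U a ha s => by
      rw [Scheme.IdealSheafData.ker_subschemeι] at ha
      rw [M1.annSheaf_ideal] at ha
      exact Module.mem_annihilator.1 ha s
    have hr : Set.range j = CohB1.support K := by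
      rw [Scheme.IdealSheafData.range_subschemeι]
      exact M1.support_annSheaf hK.1 hK.2
    letI : I.subscheme.Over (Spec (CommRingCat.of k)) := ⟨j ≫ (X ↘ (Spec (CommRingCat.of k)))⟩
    haveI : IsProper (I.subscheme ↘ (Spec (CommRingCat.of k))) :=
      inferInstanceAs (IsProper (j ≫ (X ↘ (Spec (CommRingCat.of k)))))
    haveI : IsNoetherian I.subscheme :=
      CohFound.isNoetherian_of_isProper (I.subscheme ↘ (Spec (CommRingCat.of k)))
    rcases isEmpty_or_nonempty I.subscheme with hI | hI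
    · refine ⟨0, fun n _ => ?_⟩
      have h0 : CohB1.support (CohB1.tensorMod K (CohB1.tensorPow L n)) = ∅ :=
        Set.subset_empty_iff.1 ((support_tensor_subset _ _).trans (hr.symm.trans (Set.range_eq_empty _)).le)
      haveI : Subsingleton (Coh.HH X (CohB1.tensorMod K (CohB1.tensorPow L n)) 0) :=
        (hh0 _).toEquiv.subsingleton_congr.2 ⟨fun u v => M1.section_ext _ _ fun x _ =>
          (CurveCoh17.stalk_eq_zero_of_notMem_support (by simp [h0]) _).trans
            (CurveCoh17.stalk_eq_zero_of_notMem_support (by simp [h0]) _).symm⟩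
      simp [Module.finrank_zero_of_subsingleton]
    rcases d with _ | d
    · exfalso
      have := eq_empty_of_notMem (M1.isClosed_support hK.2) (η := genericPoint X)
        ((genericPoint_closure X).symm ▸ Set.subset_univ _) hKη
        ((Topology.IsInducing.subtypeVal.topologicalKrullDim_le).trans (hd.le.trans (by simp)))
      exact hI.elim fun y => (Set.eq_empty_iff_forall_notMem.1 this (j y)) (hr.le (Set.mem_range_self y))
    have hdI : topologicalKrullDim I.subscheme ≤ (d : WithBot ℕ∞) := by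
      refine ((j.isEmbedding.toHomeomorph).isHomeomorph.topologicalKrullDim_eq _).trans_le ?_
      rw [hr]
      exact dim_le_of_notMem (M1.isClosed_support hK.2) (η := genericPoint X)
        ((genericPoint_closure X).symm ▸ Set.subset_univ _) hKη
        ((Topology.IsInducing.subtypeVal.topologicalKrullDim_le).trans hd.le)
    obtain ⟨B, hB⟩ := exists_h0_bound k (X := I.subscheme) hdI (Amp.isAmple_pullback_of_isAffineHom j hA)
      (Twist.isInvertible_pullback j hL) (M1.isCoh_pullback j hK)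
    refine ⟨|B| * 2 ^ d, fun n hn => ?_⟩
    have hLn := M2.isInvertible_tensorPow hL n
    obtain ⟨ep⟩ := AmpleFin18.nonempty_HH_push (k := k) j rfl
      (CohB1.tensorMod ((Scheme.Modules.pullback j).obj K) ((Scheme.Modules.pullback j).obj (CohB1.tensorPow L n)))
      (M2.isQCoh_tensor (M1.isQCoh_pullback j hK.1)
        (M1.isQCoh_pullback j (isCoh_of_isInvertible hLn).1)) 0
    have he : Module.finrank k (Coh.HH X (CohB1.tensorMod K (CohB1.tensorPow L n)) 0) =
        Module.finrank k (Coh.HH I.subscheme (CohB1.tensorMod ((Scheme.Modules.pullback j).obj K)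
          (CohB1.tensorPow ((Scheme.Modules.pullback j).obj L) n)) 0) :=
      (hequiv k (M2.tensorIso (asIso ((Scheme.Modules.pullbackPushforwardAdjunction j).unit.app K)) (Iso.refl _) ≪≫
        AmpleFin18.projIso j _ _ hLn) 0).finrank_eq.trans (ep.finrank_eq.trans
          (hequiv k (M2.tensorIso (Iso.refl _) (M2.pullTensorPowIso j L n)) 0).finrank_eq)
    rw [he, pow_succ]
    have h1 : ((n : ℚ) + 1) ^ d ≤ 2 ^ d * (n : ℚ) ^ d := by
      rw [← mul_pow]
      refine pow_le_pow_left₀ (by positivity) ?_ d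
      have : (1 : ℚ) ≤ (n : ℚ) := by exact_mod_cast hn
      linarith
    calc (n : ℚ) * _ ≤ (n : ℚ) * (B * ((n : ℚ) + 1) ^ d) := mul_le_mul_of_nonneg_left (hB n) (Nat.cast_nonneg n)
      _ ≤ (n : ℚ) * (|B| * (2 ^ d * (n : ℚ) ^ d)) := mul_le_mul_of_nonneg_left
          (mul_le_mul (le_abs_self B) h1 (by positivity) (abs_nonneg B)) (Nat.cast_nonneg n)
      _ = _ := by ring
  obtain ⟨n, hn, hgrow⟩ : ∃ n : ℕ, (1 ≤ n ∧ B < C * (n : ℚ)) ∧
      C * (n : ℚ) ^ d ≤ (Module.finrank k (Coh.HH X (CohB1.tensorPow L n) 0) : ℚ) := by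
    obtain ⟨N, hN⟩ := exists_nat_gt (B / C)
    obtain ⟨n, hn, hg⟩ := hfreq (N + 1)
    refine ⟨n, ⟨by omega, ?_⟩, hg⟩
    rw [div_lt_iff₀ hC] at hN
    have : (N : ℚ) + 1 ≤ (n : ℚ) := by exact_mod_cast hn
    nlinarith
  have hLn := M2.isInvertible_tensorPow hL n
  let E := CohB1.tensorMod (CohB1.tensorPow A' q) (CohB1.tensorPow L n)
  have hE : PicF.IsInvertible E := M2.isInvertible_tensor hA'q hLn
  have hS' := CurveCoh17.shortExact_tensorR hS E (flat_stalk hE)
  have hEc := isCoh_of_isInvertible hE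
  have hsum := finrank_h0_le_of_shortExact k hS'
    (CurveCoh17.isCoh_tensor (M1.isCoh_structureModule X) hEc)
    (CurveCoh17.isCoh_tensor (isCoh_of_isInvertible hAq) hEc) (CurveCoh17.isCoh_tensor hQ hEc)
  obtain ⟨u⟩ := Snapper.nonempty_tensorPow_unit (X := X) q
  rw [show Module.finrank k (Coh.HH X (S.map (M2.tensorR E)).X₂ 0) =
      Module.finrank k (Coh.HH X (CohB1.tensorPow L n) 0) from
      (hequiv k ((M2.tensorAssoc _ _ _).symm ≪≫
        M2.tensorIso ((M2.tensorPowMul A A' q).symm ≪≫ M2.tensorPowIso e q ≪≫ u) (Iso.refl _) ≪≫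
        M2.tensorLUnit _) 0).finrank_eq,
    show Module.finrank k (Coh.HH X (S.map (M2.tensorR E)).X₁ 0) = Module.finrank k (Coh.HH X E 0) from
      (hequiv k (M2.tensorLUnit E) 0).finrank_eq,
    show Module.finrank k (Coh.HH X (S.map (M2.tensorR E)).X₃ 0) =
      Module.finrank k (Coh.HH X (CohB1.tensorMod K (CohB1.tensorPow L n)) 0) from
      (hequiv k ((M2.tensorAssoc _ _ _).symm) 0).finrank_eq] at hsum
  have hnpos : 0 < Module.finrank k (Coh.HH X E 0) := by
    by_contra h0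
    have h0' : Module.finrank k (Coh.HH X E 0) = 0 := by omega
    rw [h0', zero_add] at hsum
    have h1 := hgrow.trans (Nat.cast_le.2 hsum)
    have h2 := mul_le_mul_of_nonneg_left h1 (Nat.cast_nonneg n)
    have h3 := h2.trans (hB n (by omega))
    have hnd : (0 : ℚ) < (n : ℚ) ^ d := pow_pos (Nat.cast_pos.2 (by omega)) d
    nlinarith [hn.2]
  have hEs : HasMonoSec E := hasMonoSec_of_nontrivial k hE (Module.nontrivial_of_finrank_pos hnpos)
  have hsec : HasMonoSec (CohB1.tensorMod E (CohB1.tensorPow A q₀)) :=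
    ((hq₀ q₀ le_rfl).of_iso (M2.tensorLUnit _)).tensor hEs (M2.isInvertible_tensorPow hA.1 q₀)
  obtain ⟨u₀⟩ := Snapper.nonempty_tensorPow_unit (X := X) q
  obtain ⟨φ, hφ⟩ := exists_mono_of_hasMonoSec hsec hA.1 (C := CohB1.tensorPow L n)
    (M2.tensorAssoc _ _ _ ≪≫ M2.tensorIso (M2.tensorComm _ _) (Iso.refl _) ≪≫ M2.tensorAssoc _ _ _ ≪≫
      M2.tensorIso (Iso.refl _) ((M2.tensorPowMul A' A q).symm ≪≫
        M2.tensorPowIso (M2.tensorComm A' A ≪≫ e) q ≪≫ u₀) ≪≫ M2.tensorRUnit _)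
  exact ⟨n, φ, by omega, hφ⟩

/-- Maximal growth of sections makes every ample module inject into a power. -/
theorem mono_of_growth [IsIntegral X] {d : ℕ} (hd : topologicalKrullDim X = (d : WithBot ℕ∞)) {A : X.Modules}
    (hA : CohB1.IsAmple A) {L : X.Modules} (hL : PicF.IsInvertible L) {C : ℚ} (hC : 0 < C) {n₁ : ℕ}
    (hgrow : ∀ n, n₁ ≤ n → C * (n : ℚ) ^ d ≤ (Module.finrank k (Coh.HH X (CohB1.tensorPow L n) 0) : ℚ)) :
    ∃ (m : ℕ) (φ : A ⟶ CohB1.tensorPow L m), 0 < m ∧ Mono φ :=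
  mono_of_growth_freq k hd hA hL hC fun N => ⟨N + n₁, Nat.le_add_right _ _, hgrow _ (Nat.le_add_left _ _)⟩

end Groth.Agent.NumPoly18
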