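import Groth.Agent.Lib.NumPoly18.BigNef
import Groth.Agent.Lib.EulerAdd18.Basic

/-!
# The Hodge index theorem on projective surfaces

The proof uses neither duality nor Bertini: if `L · H = 0 < L ^ 2`, then on the ray `N L + j H` there is a
consecutive pair, the first not big and the second big; the first forces `h²(-nH)` to grow like `N² n²`.
-/

set_option autoImplicit false
set_option linter.style.haveILetI false
set_option maxHeartbeats 1600000
set_option backward.isDefEq.respectTransparency false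

universe u

open CategoryTheory CategoryTheory.Limits AlgebraicGeometry TopologicalSpace Opposite Filter

namespace Groth.Agent.NumPoly18

open Groth.Agent Groth.Agent.Snapper
open Groth.Agent.CurveCoh17 (hequiv hh0 hmap exact_hmap_hmap)

variable {X : Scheme.{u}} {k : Type u} [Field k] [X.Over (Spec (CommRingCat.of k))]

variable (k) in
/-- The intersection number of two invertible modules on a surface. -/
noncomputable def dot (A B : X.Modules) : ℚ :=
  md k (Fin.cons A (fun _ : Fin 1 => B) : Fin 2 → X.Modules) (Coh.structureModule X)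

variable [IsProper (X ↘ Spec (CommRingCat.of k))]

theorem dot_comm (A B : X.Modules) : dot k A B = dot k B A := by
  rw [dot, dot, const_eq_cons (r := 0) B, const_eq_cons (r := 0) A, md_swap A B,
    Subsingleton.elim (fun _ : Fin 0 => B) (fun _ : Fin 0 => A)]

theorem dot_congr {A A' B B' : X.Modules} (e : A ≅ A') (e' : B ≅ B') : dot k A B = dot k A' B' :=
  md_congr (Fin.cases ⟨by simpa using e⟩ fun _ => ⟨by simpa using e'⟩) _

theorem dot_self (A : X.Modules) : dot k A A = md k (fun _ : Fin 2 => A) (Coh.structureModule X) := by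
  rw [dot, ← const_eq_cons]

theorem dot_tensor (hd : topologicalKrullDim X ≤ ((2 : ℕ) : WithBot ℕ∞)) {A A' B : X.Modules}
    (hA : PicF.IsInvertible A) (hA' : PicF.IsInvertible A') (hB : PicF.IsInvertible B) :
    dot k (CohB1.tensorMod A A') B = dot k A B + dot k A' B := by
  haveI : IsNoetherian X := CohFound.isNoetherian_of_isProper (X ↘ (Spec (CommRingCat.of k)))
  exact md_cons_tensor hA hA' (fun _ => hB) (M1.isCoh_structureModule X) (dim_support_le hd _)

theorem dot_tensor_right (hd : topologicalKrullDim X ≤ ((2 : ℕ) : WithBot ℕ∞)) {A A' B : X.Modules}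
    (hA : PicF.IsInvertible A) (hA' : PicF.IsInvertible A') (hB : PicF.IsInvertible B) :
    dot k B (CohB1.tensorMod A A') = dot k B A + dot k B A' := by
  rw [dot_comm B, dot_tensor hd hA hA' hB, dot_comm A, dot_comm A']

theorem dot_pow (hd : topologicalKrullDim X ≤ ((2 : ℕ) : WithBot ℕ∞)) {A B : X.Modules}
    (hA : PicF.IsInvertible A) (hB : PicF.IsInvertible B) (n : ℕ) :
    dot k (CohB1.tensorPow A n) B = n * dot k A B := by
  haveI : IsNoetherian X := CohFound.isNoetherian_of_isProper (X ↘ (Spec (CommRingCat.of k)))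
  exact md_cons_pow hA (fun _ => hB) (M1.isCoh_structureModule X) (dim_support_le hd _) n

theorem dot_inverse (hd : topologicalKrullDim X ≤ ((2 : ℕ) : WithBot ℕ∞)) {A A' B : X.Modules}
    (hA : PicF.IsInvertible A) (hA' : PicF.IsInvertible A') (e : CohB1.tensorMod A A' ≅ Coh.structureModule X)
    (hB : PicF.IsInvertible B) : dot k A' B = - dot k A B := by
  haveI : IsNoetherian X := CohFound.isNoetherian_of_isProper (X ↘ (Spec (CommRingCat.of k)))
  exact md_cons_inverse hA hA' e (fun _ => hB) (M1.isCoh_structureModule X) (dim_support_le hd _)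

include k in
/-- Cohomology vanishes above the dimension of the support. -/
theorem subsingleton_HH_of_support {K : X.Modules} (hK : Coh.IsCoh K) {d : ℕ}
    (hd : topologicalKrullDim (CohB1.support K) ≤ (d : WithBot ℕ∞)) {n : ℕ} (hn : d < n) :
    Subsingleton (Coh.HH X K n) := by
  haveI : IsNoetherian X := CohFound.isNoetherian_of_isProper (X ↘ (Spec (CommRingCat.of k)))
  let I := M1.annSheaf hK.1 hK.2
  let j := I.subschemeι
  haveI : IsIso ((Scheme.Modules.pullbackPushforwardAdjunction j).unit.app K) :=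
    M1.isIso_unit_of_ker_smul j K hK.1 fun U a ha s => by
      rw [Scheme.IdealSheafData.ker_subschemeι] at ha
      rw [M1.annSheaf_ideal] at ha
      exact Module.mem_annihilator.1 ha s
  letI : I.subscheme.Over (Spec (CommRingCat.of k)) := ⟨j ≫ (X ↘ (Spec (CommRingCat.of k)))⟩
  haveI : IsProper (I.subscheme ↘ (Spec (CommRingCat.of k))) :=
    inferInstanceAs (IsProper (j ≫ (X ↘ (Spec (CommRingCat.of k)))))
  have hr : Set.range j = CohB1.support K := by
    rw [Scheme.IdealSheafData.range_subschemeι]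
    exact M1.support_annSheaf hK.1 hK.2
  have hdI : topologicalKrullDim I.subscheme ≤ (d : WithBot ℕ∞) := by
    refine ((j.isEmbedding.toHomeomorph).isHomeomorph.topologicalKrullDim_eq _).trans_le ?_
    rw [hr]
    exact hd
  have hq : Coh.IsQCoh ((Scheme.Modules.pullback j).obj K) := M1.isQCoh_pullback j hK.1
  haveI := subsingleton_HH_of_dim k d hdI hq hn
  obtain ⟨ep⟩ := AmpleFin18.nonempty_HH_push (k := k) j rfl _ hq n
  exact ((hequiv k (asIso ((Scheme.Modules.pullbackPushforwardAdjunction j).unit.app K)) n).trans ep).toEquiv.subsingleton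

/-- `χ ≤ h⁰ + h²` on a surface. -/
theorem euler_le_h0_add_h2 (hd : topologicalKrullDim X ≤ ((2 : ℕ) : WithBot ℕ∞)) {M : X.Modules}
    (hM : Coh.IsCoh M) :
    Curv2.euler k X M ≤ (Module.finrank k (Coh.HH X M 0) : ℤ) + (Module.finrank k (Coh.HH X M 2) : ℤ) := by
  rw [← eulerCharLE_eq_euler 2 hd hM, FGA.eulerCharLE]
  simp only [Finset.sum_range_succ, Finset.sum_range_zero]
  omega

theorem finrank_h1_eq_sub {K : X.Modules} (hK : Coh.IsCoh K)
    (hd : topologicalKrullDim (CohB1.support K) ≤ ((1 : ℕ) : WithBot ℕ∞)) :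
    (Module.finrank k (Coh.HH X K 1) : ℤ) = (Module.finrank k (Coh.HH X K 0) : ℤ) - Curv2.euler k X K := by
  have h : EulerAdd18.Bdd k 2 K := ⟨fun n => CohFound.finite_HH_of_isProper K hK n,
    fun n hn => subsingleton_HH_of_support (k := k) hK hd (by omega)⟩
  rw [h.euler_eq]
  simp only [Finset.sum_range_succ, Finset.sum_range_zero]
  omega

include k in
theorem dim_support_coker_of_mono [IsIntegral X] {d : ℕ} (hd : topologicalKrullDim X ≤ ((d + 1 : ℕ) : WithBot ℕ∞))
    {A B : X.Modules} (hA : PicF.IsInvertible A) (hB : PicF.IsInvertible B) (φ : A ⟶ B) [Mono φ] :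
    Coh.IsCoh (cokernel φ) ∧ topologicalKrullDim (CohB1.support (cokernel φ)) ≤ (d : WithBot ℕ∞) := by
  haveI : IsNoetherian X := CohFound.isNoetherian_of_isProper (X ↘ (Spec (CommRingCat.of k)))
  have hQ : Coh.IsCoh (cokernel φ) := M1.isCoh_cokernel (isCoh_of_isInvertible hA).1 (isCoh_of_isInvertible hB) φ
  have hr1 := (M2.isInvertible_iff_isFinLocFreeOfRank_one _).1 hB
  have hr0 := (M2.isInvertible_iff_isFinLocFreeOfRank_one _).1 hA
  have hη : genericPoint X ∉ CohB1.support (cokernel φ) := (M1.notMem_support_iff _ _).2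
    (CurveCoh17.eq_zero_stalk_cokernel _ _ (CurveCoh17.surjective_stalkLin_genericPoint
      (CurveCoh17.nonempty_stalk_equiv hr0 _) (CurveCoh17.nonempty_stalk_equiv hr1 _) _
      ((M1.mono_iff_stalk φ).1 inferInstance _)))
  exact ⟨hQ, dim_le_of_notMem (M1.isClosed_support hQ.2) ((genericPoint_closure X).symm ▸ Set.subset_univ _) hη
    ((Topology.IsInducing.subtypeVal.topologicalKrullDim_le).trans hd)⟩

/-- An injection of invertible modules on a surface is surjective on `H²`. -/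
theorem h2_le_of_mono [IsIntegral X] (hd : topologicalKrullDim X ≤ ((2 : ℕ) : WithBot ℕ∞)) {A B : X.Modules}
    (hA : PicF.IsInvertible A) (hB : PicF.IsInvertible B) (φ : A ⟶ B) [Mono φ] :
    Module.finrank k (Coh.HH X B 2) ≤ Module.finrank k (Coh.HH X A 2) := by
  obtain ⟨hQ, hQd⟩ := dim_support_coker_of_mono (k := k) (d := 1) hd hA hB φ
  have hS : (ShortComplex.mk φ (cokernel.π φ) (cokernel.condition _)).ShortExact :=
    { exact := ShortComplex.exact_cokernel φ }
  haveI := subsingleton_HH_of_support (k := k) hQ hQd (show 1 < 2 by omega)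
  haveI := CohFound.finite_HH_of_isProper (A := k) A (isCoh_of_isInvertible hA) 2
  exact LinearMap.finrank_le_finrank_of_surjective (f := hmap k φ 2) fun x =>
    (exact_hmap_hmap k hS 2 x).1 (Subsingleton.elim _ _)

/-- Twisting by large powers of an ample module has regular sections on a given coherent module. -/
theorem exists_h0_twist_le {H : X.Modules} (hH : CohB1.IsAmple H) {Q : X.Modules} (hQ : Coh.IsCoh Q) :
    ∃ a₀ : ℕ, ∀ N, a₀ ≤ N → ∀ {T : X.Modules}, PicF.IsInvertible T → ∀ P : X.Modules,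
      (CohB1.tensorMod T (CohB1.tensorPow H N) ≅ P) →
        Module.finrank k (Coh.HH X (CohB1.tensorMod Q T) 0) ≤ Module.finrank k (Coh.HH X (CohB1.tensorMod Q P) 0) := by
  haveI : IsNoetherian X := CohFound.isNoetherian_of_isProper (X ↘ (Spec (CommRingCat.of k)))
  have hfin : {x : X | Curv2.IsWeakAssPoint Q x}.Finite :=
    (WA.finite_weakAss hQ.1 hQ.2 (U := ⊤) isCompact_univ).subset fun x hx => ⟨trivial, hx⟩
  obtain ⟨W, a₀, hWZ, hW⟩ := RA.exists_gen_nhd_finite hH (PicLoc.isInvertible_structureModule X) hfin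
  refine ⟨a₀, fun N hN {T} hT P eP => ?_⟩
  obtain ⟨t, ht⟩ := hW N hN
  have hHN := M2.isInvertible_tensorPow hH.1 N
  have hON := M2.isInvertible_tensor (PicLoc.isInvertible_structureModule X) hHN
  have hP : PicF.IsInvertible P := M2.isInvertible_of_iso eP (M2.isInvertible_tensor hT hHN)
  obtain ⟨D, hD, ⟨eD⟩⟩ := M2.exists_inverse hON
  have hF : Coh.IsCoh (CohB1.tensorMod Q P) := CurveCoh17.isCoh_tensor hQ (isCoh_of_isInvertible hP)
  haveI : Mono (mulMap (secMap t eD) (CohB1.tensorMod Q P)) := mono_mulMap hD _ hF.1 fun y hy =>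
    (surjective_secMap_iff hON hD t eD y).2 (ht (hWZ ((WA.isAssPoint_iff y).1
      (NegTwist18.isAssPoint_of_tensor hP ((WA.isAssPoint_iff y).2 hy)))))
  rw [finrank_h0_eq (k := k) (show CohB1.tensorMod Q T ≅ CohB1.tensorMod D (CohB1.tensorMod Q P) from
    M2.tensorIso (Iso.refl Q) ((M2.tensorLUnit T).symm ≪≫
      M2.tensorIso (eD.symm ≪≫ M2.tensorComm _ _ ≪≫ M2.tensorIso (Iso.refl D) (M2.tensorLUnit _)) (Iso.refl T) ≪≫
      M2.tensorAssoc _ _ _ ≪≫ M2.tensorIso (Iso.refl D) (M2.tensorComm _ _ ≪≫ eP)) ≪≫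
    (M2.tensorAssoc Q D P).symm ≪≫ M2.tensorIso (M2.tensorComm Q D) (Iso.refl P) ≪≫ M2.tensorAssoc D Q P)]
  exact finrank_h0_le_of_mono k (mulMap (secMap t eD) _) hF

theorem h2_le_h1_add_h2 {S : ShortComplex X.Modules} (hS : S.ShortExact) (h₁ : Coh.IsCoh S.X₁)
    (h₂ : Coh.IsCoh S.X₂) (h₃ : Coh.IsCoh S.X₃) :
    Module.finrank k (Coh.HH X S.X₁ 2) ≤ Module.finrank k (Coh.HH X S.X₃ 1) + Module.finrank k (Coh.HH X S.X₂ 2) := by
  haveI := CohFound.finite_HH_of_isProper (A := k) S.X₁ h₁ 2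
  haveI := CohFound.finite_HH_of_isProper (A := k) S.X₂ h₂ 2
  haveI := CohFound.finite_HH_of_isProper (A := k) S.X₃ h₃ 1
  exact (CurveCoh17.finrank_eq_range_add_range _ _ (CurveCoh17.exact_hdelta_hmap k hS 1)).trans_le
    (add_le_add (LinearMap.finrank_range_le _) (Submodule.finrank_le _))

theorem h2_tensor_le {A B : X.Modules} (φ : A ⟶ B) [Mono φ] (hA : Coh.IsCoh A) (hB : Coh.IsCoh B)
    (hC : Coh.IsCoh (cokernel φ)) {E : X.Modules} (hE : PicF.IsInvertible E) :
    Module.finrank k (Coh.HH X (CohB1.tensorMod A E) 2) ≤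
      Module.finrank k (Coh.HH X (CohB1.tensorMod (cokernel φ) E) 1) +
        Module.finrank k (Coh.HH X (CohB1.tensorMod B E) 2) := by
  have hS₀ : (ShortComplex.mk φ (cokernel.π φ) (cokernel.condition _)).ShortExact :=
    { exact := ShortComplex.exact_cokernel φ }
  have hS := CurveCoh17.shortExact_tensorR hS₀ E (flat_stalk hE)
  have hEc := isCoh_of_isInvertible hE
  have h := h2_le_h1_add_h2 (k := k) hS (CurveCoh17.isCoh_tensor hA hEc) (CurveCoh17.isCoh_tensor hB hEc)
    (CurveCoh17.isCoh_tensor hC hEc)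
  exact h

/-- `h²(-nH) = O(n²)`. -/
theorem exists_h2_bound [IsIntegral X] (hd : topologicalKrullDim X ≤ ((2 : ℕ) : WithBot ℕ∞)) {H H' : X.Modules}
    (hH : CohB1.IsAmple H) (hH' : PicF.IsInvertible H') (e : CohB1.tensorMod H H' ≅ Coh.structureModule X)
    (hs : HasMonoSec H) :
    ∃ K : ℚ, 0 ≤ K ∧ ∀ n : ℕ, 1 ≤ n →
      (Module.finrank k (Coh.HH X (CohB1.tensorPow H' n) 2) : ℚ) ≤ K * (n : ℚ) ^ 2 := by
  haveI : IsNoetherian X := CohFound.isNoetherian_of_isProper (X ↘ (Spec (CommRingCat.of k)))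
  obtain ⟨s, hsm⟩ := hs
  haveI := hsm
  have hO := M1.isCoh_structureModule X
  obtain ⟨hQ, hQd⟩ := dim_support_coker_of_mono (k := k) (d := 1) hd (PicLoc.isInvertible_structureModule X) hH.1 s
  obtain ⟨a₀, ha₀⟩ := exists_h0_twist_le (k := k) hH hQ
  obtain ⟨P, hP, hPd, -⟩ := exists_isHilbPoly_dim k hH' hQ hQd
  let c := (Module.finrank k (Coh.HH X (CohB1.tensorMod (cokernel s) (CohB1.tensorPow H a₀)) 0) : ℚ) +
    |P.coeff 0| + |P.coeff 1|
  let h := fun i => (Module.finrank k (Coh.HH X (CohB1.tensorPow H' i) 2) : ℚ)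
  have hc : 0 ≤ c := by positivity
  have step : ∀ i : ℕ, h (i + 1) ≤ h i + c * ((i : ℚ) + 1) := by
    intro i
    have hE := M2.isInvertible_tensorPow hH' (i + 1)
    have hEc := isCoh_of_isInvertible hE
    have hK : Coh.IsCoh (CohB1.tensorMod (cokernel s) (CohB1.tensorPow H' (i + 1))) := CurveCoh17.isCoh_tensor hQ hEc
    have hKd := dim_le_of_subset (support_tensor_subset (cokernel s) (CohB1.tensorPow H' (i + 1))) hQd
    have h2 : Module.finrank k (Coh.HH X (CohB1.tensorMod (Coh.structureModule X) (CohB1.tensorPow H' (i + 1))) 2) ≤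
        Module.finrank k (Coh.HH X (CohB1.tensorMod (cokernel s) (CohB1.tensorPow H' (i + 1))) 1) +
          Module.finrank k (Coh.HH X (CohB1.tensorMod H (CohB1.tensorPow H' (i + 1))) 2) :=
      h2_tensor_le s hO (isCoh_of_isInvertible hH.1) hQ hE
    rw [(hequiv k (M2.tensorLUnit (CohB1.tensorPow H' (i + 1))) 2).finrank_eq,
      (hequiv k (show CohB1.tensorMod H (CohB1.tensorPow H' (i + 1)) ≅ CohB1.tensorPow H' i from
        M2.tensorIso (Iso.refl H) (M2.tensorComm _ _) ≪≫ (M2.tensorAssoc H H' _).symm ≪≫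
          M2.tensorIso e (Iso.refl _) ≪≫ M2.tensorLUnit _) 2).finrank_eq] at h2
    have h2' := (Nat.cast_le (α := ℚ)).2 h2
    push_cast at h2'
    have h3 : (Module.finrank k (Coh.HH X (CohB1.tensorMod (cokernel s) (CohB1.tensorPow H' (i + 1))) 1) : ℚ) ≤
        c * ((i : ℚ) + 1) := by
      have h3 := finrank_h1_eq_sub (k := k) hK hKd
      have h4 := hP (i + 1)
      rw [ShStab.twist] at h4
      have h5 : ((Module.finrank k (Coh.HH X (CohB1.tensorMod (cokernel s) (CohB1.tensorPow H' (i + 1))) 1) : ℤ) : ℚ) =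
          ((Module.finrank k (Coh.HH X (CohB1.tensorMod (cokernel s) (CohB1.tensorPow H' (i + 1))) 0) : ℤ) : ℚ) -
            P.eval ((i + 1 : ℕ) : ℚ) := by
        rw [h3, Int.cast_sub, h4]
      obtain ⟨u⟩ := Snapper.nonempty_tensorPow_unit (X := X) (i + 1)
      have h6 := (Nat.cast_le (α := ℚ)).2 (ha₀ ((i + 1) + a₀) (Nat.le_add_left _ _) hE (CohB1.tensorPow H a₀)
        (M2.tensorIso (Iso.refl _) (M2.tensorPowAdd H (i + 1) a₀) ≪≫ (M2.tensorAssoc _ _ _).symm ≪≫
          M2.tensorIso ((M2.tensorPowMul H' H (i + 1)).symm ≪≫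
            M2.tensorPowIso (M2.tensorComm H' H ≪≫ e) (i + 1) ≪≫ u) (Iso.refl _) ≪≫ M2.tensorLUnit _))
      rw [Polynomial.eval_eq_sum_range' (Nat.lt_succ_of_le hPd)] at h5
      simp only [Finset.sum_range_succ, Finset.sum_range_zero, pow_zero, pow_one, mul_one, zero_add] at h5
      push_cast at h5
      rw [h5]
      simp only [c]
      nlinarith [le_abs_self (P.coeff 0), neg_abs_le (P.coeff 0), neg_abs_le (P.coeff 1),
        abs_nonneg (P.coeff 0), abs_nonneg (P.coeff 1), (Nat.cast_nonneg i : (0 : ℚ) ≤ i),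
        mul_le_mul_of_nonneg_right (neg_abs_le (P.coeff 1)) (by positivity : (0 : ℚ) ≤ (i : ℚ) + 1),
        mul_nonneg (abs_nonneg (P.coeff 0)) (Nat.cast_nonneg i : (0 : ℚ) ≤ i),
        mul_nonneg (Nat.cast_nonneg (Module.finrank k (Coh.HH X (CohB1.tensorMod (cokernel s) (CohB1.tensorPow H a₀)) 0)) :
          (0 : ℚ) ≤ _) (Nat.cast_nonneg i : (0 : ℚ) ≤ i)]
    show h (i + 1) ≤ h i + _
    linarith
  have total : ∀ n : ℕ, h n ≤ h 0 + c * (n : ℚ) ^ 2 := by
    intro n
    induction n with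
    | zero => simp
    | succ n ih =>
      have := step n
      push_cast
      nlinarith [(Nat.cast_nonneg n : (0 : ℚ) ≤ n), mul_nonneg hc (Nat.cast_nonneg n : (0 : ℚ) ≤ n)]
  refine ⟨h 0 + c, add_nonneg (Nat.cast_nonneg _) hc, fun n hn => (total n).trans ?_⟩
  have h0 : (0 : ℚ) ≤ h 0 := Nat.cast_nonneg _
  have h1 := le_mul_of_one_le_right h0 (one_le_pow₀ (show (1 : ℚ) ≤ (n : ℚ) by exact_mod_cast hn) (n := 2))
  rw [add_mul (h 0) c]
  exact add_le_add h1 le_rfl

theorem dot_self_pos [IsIntegral X] (hd : topologicalKrullDim X = ((2 : ℕ) : WithBot ℕ∞)) {A : X.Modules}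
    (hA : CohB1.IsAmple A) : 0 < dot k A A := by
  rw [dot_self]
  exact (asymptotic_rr k hd hA).1

theorem dot_nonneg_of_hasMonoSec [IsIntegral X] (hd : topologicalKrullDim X ≤ ((2 : ℕ) : WithBot ℕ∞))
    {A : X.Modules} (hA : CohB1.IsAmple A) {G B : X.Modules} (hG : PicF.IsInvertible G) (hs : HasMonoSec G)
    (hB : PicF.IsInvertible B) (hBn : Nef k B) : 0 ≤ dot k G B :=
  md_cons_nonneg_of_hasMonoSec hA hG hs hd (fun _ => hB) fun _ => hBn

/-- A module with positive square and nonnegative degree is big. -/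
theorem big_of_dot_pos [IsIntegral X] (hd : topologicalKrullDim X = ((2 : ℕ) : WithBot ℕ∞)) {A L : X.Modules}
    (hA : CohB1.IsAmple A) (hL : PicF.IsInvertible L) (hneg : 0 < dot k L L) (h0 : 0 ≤ dot k L A) :
    ∃ (m : ℕ) (φ : A ⟶ CohB1.tensorPow L m), 0 < m ∧ Mono φ := by
  haveI : IsNoetherian X := CohFound.isNoetherian_of_isProper (X ↘ (Spec (CommRingCat.of k)))
  by_contra hnb
  obtain ⟨q, hq⟩ := eventually_hasMonoSec k hA (PicLoc.isInvertible_structureModule X)
  let H := CohB1.tensorPow A (q + 1)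
  have hH : CohB1.IsAmple H := (Amp.isAmple_tensorPow_iff hA.1 q.succ_pos).2 hA
  have hHs : HasMonoSec H := (hq (q + 1) (Nat.le_succ _)).of_iso (M2.tensorLUnit _)
  have hLH : 0 ≤ dot k L H := by
    rw [dot_comm, dot_pow hd.le hA.1 hL, dot_comm]
    exact mul_nonneg (Nat.cast_nonneg _) h0
  have hHH : 0 < dot k H H := dot_self_pos hd hH
  obtain ⟨H', hH', ⟨e⟩⟩ := M2.exists_inverse hH.1
  obtain ⟨K, hK, hKb⟩ := exists_h2_bound (k := k) hd.le hH hH' e hHs
  obtain ⟨N, hN⟩ := exists_nat_gt ((8 * K + 1) / dot k L L)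
  rw [div_lt_iff₀ hneg] at hN
  have hN1 : (1 : ℚ) ≤ N := by
    have : 0 < N := Nat.pos_of_ne_zero fun h => by subst h; simp only [Nat.cast_zero, zero_mul] at hN; linarith
    exact_mod_cast this
  let T : ℕ → X.Modules := fun j => CohB1.tensorMod (CohB1.tensorPow L N) (CohB1.tensorPow H j)
  have hT : ∀ j, PicF.IsInvertible (T j) := fun j =>
    M2.isInvertible_tensor (M2.isInvertible_tensorPow hL N) (M2.isInvertible_tensorPow hH.1 j)
  let Big : ℕ → Prop := fun j => ∃ (m : ℕ) (φ : H ⟶ CohB1.tensorPow (T j) m), 0 < m ∧ Mono φ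
  have hbig : ∃ j, Big j := by
    obtain ⟨n₀, hn₀⟩ := eventually_hasMonoSec k hH (M2.isInvertible_tensor (M2.isInvertible_tensorPow hL N) hH')
    obtain ⟨φ, hφ⟩ := exists_mono_of_hasMonoSec (hn₀ n₀ le_rfl) hH.1 (C := T n₀)
      (M2.tensorAssoc _ _ _ ≪≫ M2.tensorAssoc _ _ _ ≪≫ M2.tensorIso (Iso.refl _)
        (M2.tensorIso (Iso.refl _) (M2.tensorComm _ _) ≪≫ (M2.tensorAssoc _ _ _).symm ≪≫
          M2.tensorIso (M2.tensorComm H' H ≪≫ e) (Iso.refl _) ≪≫ M2.tensorLUnit _))
    exact ⟨n₀, 1, φ ≫ (M2.tensorPowOne _).inv, one_pos, mono_comp' hφ inferInstance⟩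
  classical
  have hnot : ¬ Big 0 := by
    rintro ⟨m, φ, hm, hφ⟩
    haveI := hφ
    have e0 : CohB1.tensorPow (T 0) m ≅ CohB1.tensorPow L (N * m) :=
      M2.tensorPowIso (M2.tensorRUnit _) m ≪≫ M2.tensorPowPow L N m
    haveI : Mono (φ ≫ e0.hom) := mono_comp' hφ inferInstance
    have hNm : 0 < N * m := Nat.mul_pos (Nat.pos_of_ne_zero fun h => by subst h; norm_num at hN1) hm
    obtain ⟨C, hC, n₁, hn₁⟩ := growth_of_mono k hd hH hL hNm (φ ≫ e0.hom)
    exact hnb (mono_of_growth k hd hA hL hC hn₁)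
  obtain ⟨i, hi⟩ : ∃ i, Nat.find hbig = i + 1 := ⟨Nat.find hbig - 1, by
    have : Nat.find hbig ≠ 0 := fun h => hnot (h ▸ Nat.find_spec hbig)
    omega⟩
  obtain ⟨m, φ, hm, hφ⟩ : Big (i + 1) := hi ▸ Nat.find_spec hbig
  haveI := hφ
  obtain ⟨C, hC, n₂, hn₂⟩ := growth_of_mono k hd hH (hT (i + 1)) hm φ
  have hsq : (N : ℚ) ^ 2 * dot k L L ≤ dot k (T i) (T i) := by
    rw [dot_tensor hd.le (M2.isInvertible_tensorPow hL N) (M2.isInvertible_tensorPow hH.1 i) (hT i),
      dot_pow hd.le hL (hT i), dot_pow hd.le hH.1 (hT i),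
      dot_tensor_right hd.le (M2.isInvertible_tensorPow hL N) (M2.isInvertible_tensorPow hH.1 i) hL,
      dot_tensor_right hd.le (M2.isInvertible_tensorPow hL N) (M2.isInvertible_tensorPow hH.1 i) hH.1,
      show dot k L (CohB1.tensorPow L N) = N * dot k L L by rw [dot_comm, dot_pow hd.le hL hL],
      show dot k L (CohB1.tensorPow H i) = i * dot k L H by rw [dot_comm, dot_pow hd.le hH.1 hL, dot_comm],
      show dot k H (CohB1.tensorPow L N) = N * dot k L H by rw [dot_comm, dot_pow hd.le hL hH.1],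
      show dot k H (CohB1.tensorPow H i) = i * dot k H H by rw [dot_comm, dot_pow hd.le hH.1 hH.1]]
    nlinarith [mul_nonneg (mul_nonneg (Nat.cast_nonneg N : (0 : ℚ) ≤ N) (Nat.cast_nonneg i : (0 : ℚ) ≤ i)) hLH,
      mul_nonneg (mul_nonneg (Nat.cast_nonneg i : (0 : ℚ) ≤ i) (Nat.cast_nonneg i : (0 : ℚ) ≤ i)) hHH.le]
  have hpos : 0 < dot k (T i) (T i) := lt_of_lt_of_le (by positivity) hsq
  obtain ⟨P, hP, hPd, -⟩ := exists_isHilbPoly_dim k (hT i) (M1.isCoh_structureModule X)
    (dim_support_le hd.le (Coh.structureModule X))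
  have hcoeff : dot k (T i) (T i) = 2 * P.coeff 2 := by
    rw [dot_self, md_const_eq_coeff hPd hP]
    norm_num [Nat.factorial]
  obtain ⟨n₁, hn₁⟩ := eventually_atTop.1 (((AVDegree22.tendsto_coeff_of_natDegree_le P hPd).eventually
    (eventually_ge_nhds (half_lt_self (show 0 < P.coeff 2 by linarith)))).and (eventually_ge_atTop (n₂ + 1)))
  -- `T i` is not big
  obtain ⟨n, hn, hsmall⟩ : ∃ n, n₁ + n₂ + 1 ≤ n ∧
      (Module.finrank k (Coh.HH X (CohB1.tensorPow (T i) n) 0) : ℚ) < dot k (T i) (T i) / 8 * (n : ℚ) ^ 2 := by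
    by_contra hall
    push Not at hall
    obtain ⟨m', φ', hm', hφ'⟩ := mono_of_growth k hd hH (hT i) (C := dot k (T i) (T i) / 8) (by linarith)
      (n₁ := n₁ + n₂ + 1) fun n hn => hall n hn
    exact Nat.find_min hbig (show i < Nat.find hbig by omega) ⟨m', φ', hm', hφ'⟩
  obtain ⟨h1, h2⟩ := hn₁ n (by omega)
  have hn0 : (0 : ℚ) < (n : ℚ) ^ 2 := pow_pos (Nat.cast_pos.2 (by omega)) 2
  rw [le_div_iff₀ hn0, ← hP n, ShStab.twist, CurveCoh17.euler_iso (M2.tensorLUnit _)] at h1
  have hTn := M2.isInvertible_tensorPow (hT i) n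
  have h3 := (Int.cast_le (R := ℚ)).2 (euler_le_h0_add_h2 (k := k) hd.le (isCoh_of_isInvertible hTn))
  push_cast at h3
  -- a section of `n (T (i+1))` maps `-nH` into `n (T i)`
  have hGs : HasMonoSec (CohB1.tensorPow (T (i + 1)) n) := by
    refine hasMonoSec_of_nontrivial k (M2.isInvertible_tensorPow (hT (i + 1)) n)
      (Module.nontrivial_of_finrank_pos (R := k) ?_)
    have := lt_of_lt_of_le (mul_pos hC hn0) (hn₂ n (by omega))
    exact_mod_cast this
  obtain ⟨ψ, hψ⟩ := exists_mono_of_hasMonoSec hGs (M2.isInvertible_tensorPow hH' n) (C := CohB1.tensorPow (T i) n)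
    ((M2.tensorPowMul _ _ n).symm ≪≫ M2.tensorPowIso (M2.tensorAssoc _ _ _ ≪≫ M2.tensorIso (Iso.refl _)
      (M2.tensorIso (M2.tensorPowAdd H i 1 ≪≫ M2.tensorIso (Iso.refl _) (M2.tensorPowOne H)) (Iso.refl H') ≪≫
        M2.tensorAssoc _ _ _ ≪≫ M2.tensorIso (Iso.refl _) e ≪≫ M2.tensorRUnit _)) n)
  haveI := hψ
  have h4 := (Nat.cast_le (α := ℚ)).2 (h2_le_of_mono (k := k) hd.le (M2.isInvertible_tensorPow hH' n) hTn ψ)
  have h5 := hKb n (by omega)
  have hN2 : 8 * K + 1 < (N : ℚ) ^ 2 * dot k L L := by nlinarith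
  nlinarith

/-- A big module has positive degree. -/
theorem dot_pos_of_mono [IsIntegral X] (hd : topologicalKrullDim X = ((2 : ℕ) : WithBot ℕ∞)) {A L : X.Modules}
    (hA : CohB1.IsAmple A) (hL : PicF.IsInvertible L) {m : ℕ} (φ : A ⟶ CohB1.tensorPow L m) [Mono φ] :
    0 < dot k L A := by
  obtain ⟨A', hA', ⟨e⟩⟩ := M2.exists_inverse hA.1
  have hP := M2.isInvertible_tensorPow hL m
  have h := dot_nonneg_of_hasMonoSec (k := k) hd.le hA (M2.isInvertible_tensor hP hA')
    (hasMonoSec_of_mono φ hA' e) hA.1 (nef_of_isAmple hA)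
  rw [dot_tensor hd.le hP hA' hA.1, dot_pow hd.le hL hA.1, dot_inverse hd.le hA.1 hA' e hA.1] at h
  have hAA : 0 < dot k A A := dot_self_pos hd hA
  exact pos_of_mul_pos_right (show 0 < (m : ℚ) * dot k L A by linarith) (Nat.cast_nonneg m)

/-- The Hodge index theorem. -/
theorem hodge_index [IsIntegral X] (hd : topologicalKrullDim X = ((2 : ℕ) : WithBot ℕ∞)) {A L : X.Modules}
    (hA : CohB1.IsAmple A) (hL : PicF.IsInvertible L) (h0 : dot k L A = 0) : dot k L L ≤ 0 := by
  by_contra hneg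
  push Not at hneg
  obtain ⟨m, φ, -, hφ⟩ := big_of_dot_pos hd hA hL hneg h0.ge
  haveI := hφ
  exact absurd h0 (dot_pos_of_mono hd hA hL φ).ne'

/-- The Hodge index inequality. -/
theorem dot_mul_le_sq [IsIntegral X] (hd : topologicalKrullDim X = ((2 : ℕ) : WithBot ℕ∞)) {A L : X.Modules}
    (hA : CohB1.IsAmple A) (hL : PicF.IsInvertible L) {a b : ℕ} (ha : dot k A A = a)
    (hb : |dot k L A| = b) : dot k L L * dot k A A ≤ dot k L A ^ 2 := by
  obtain ⟨A', hA', ⟨e⟩⟩ := M2.exists_inverse hA.1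
  have hLa := M2.isInvertible_tensorPow hL a
  have key : ∀ B : X.Modules, PicF.IsInvertible B → ∀ c : ℚ, (∀ C, PicF.IsInvertible C → dot k B C = c * dot k A C) →
      c * (a : ℚ) = - ((a : ℚ) * dot k L A) → dot k L L * dot k A A ≤ dot k L A ^ 2 := by
    intro B hB c hBC hc
    have h0 : dot k (CohB1.tensorMod (CohB1.tensorPow L a) B) A = 0 := by
      rw [dot_tensor hd.le hLa hB hA.1, dot_pow hd.le hL hA.1, hBC A hA.1, ha, hc]
      ring
    have h := hodge_index (k := k) hd hA (M2.isInvertible_tensor hLa hB) h0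
    rw [dot_tensor hd.le hLa hB (M2.isInvertible_tensor hLa hB), dot_pow hd.le hL (M2.isInvertible_tensor hLa hB),
      dot_tensor_right hd.le hLa hB hL, dot_comm L (CohB1.tensorPow L a), dot_pow hd.le hL hL, hBC _
      (M2.isInvertible_tensor hLa hB), dot_comm L B, hBC L hL, dot_comm A (CohB1.tensorMod _ B),
      show dot k (CohB1.tensorMod (CohB1.tensorPow L a) B) A = 0 from h0, dot_comm A L] at h
    have ha' : (0 : ℚ) < a := ha ▸ dot_self_pos hd hA
    rw [ha]
    have hc' : c = - dot k L A := mul_right_cancel₀ ha'.ne' (by linarith)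
    subst hc'
    nlinarith
  rcases le_or_gt 0 (dot k L A) with h | h
  · rw [abs_of_nonneg h] at hb
    exact key (CohB1.tensorPow A' b) (M2.isInvertible_tensorPow hA' b) (-(b : ℚ))
      (fun C hC => by rw [dot_pow hd.le hA' hC, dot_inverse hd.le hA.1 hA' e hC]; ring) (by rw [hb]; ring)
  · rw [abs_of_neg h] at hb
    exact key (CohB1.tensorPow A b) (M2.isInvertible_tensorPow hA.1 b) (b : ℚ)
      (fun C hC => by rw [dot_pow hd.le hA.1 hC]) (by rw [← hb]; ring)

end Groth.Agent.NumPoly18
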