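import Groth.Agent.Lib.NumPoly18.Coeff
import Groth.Agent.Lib.Snapper.Main
import Groth.Agent.Lib.CompDeg18.Basic
import Groth.Agent.Lib.VarDim.Fibre

/-!
# The leading part of Snapper polynomials

`χ(F ⊗ L^n) - ∑ ℓ_ξ(F) χ(O_ξ ⊗ L^n)`, the sum over the `d`-dimensional components of a support of
dimension at most `d`, has degree less than `d`.
-/

set_option autoImplicit false
set_option linter.style.haveILetI false
set_option maxHeartbeats 800000
set_option backward.isDefEq.respectTransparency false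

universe u

open CategoryTheory CategoryTheory.Limits AlgebraicGeometry TopologicalSpace Opposite

namespace Groth.Agent.NumPoly18

open Groth.Agent Groth.Agent.CohFound Groth.Agent.Snapper

variable {X : Scheme.{u}}

/-- The ideal of the reduced closure of a point. -/
noncomputable abbrev ptIdeal (η : X) : X.IdealSheafData :=
  Scheme.IdealSheafData.vanishingIdeal (⟨closure ({η} : Set X), isClosed_closure⟩ : TopologicalSpace.Closeds X)

/-- The structure sheaf of the reduced closure of a point. -/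
noncomputable abbrev ptMod (η : X) : X.Modules := ClSub.quotMod (ptIdeal η)

/-- The length of the stalk at a point. -/
noncomputable def lenAt (F : X.Modules) (ξ : X) : ℚ :=
  ((Module.length (X.presheaf.stalk ξ) (F.presheaf.stalk ξ)).toNat : ℚ)

theorem range_ptι (η : X) : Set.range (ptIdeal η).subschemeι = closure ({η} : Set X) := by
  rw [Scheme.IdealSheafData.range_subschemeι, Scheme.IdealSheafData.coe_support_vanishingIdeal]
  rfl

theorem isIntegral_pt (η : X) : IsIntegral (ptIdeal η).subscheme ∧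
    ∃ z : (ptIdeal η).subscheme, IsGenericPoint z Set.univ ∧ (ptIdeal η).subschemeι z = η := by
  haveI : IsReduced (ptIdeal η).subscheme := RedSepLib.isReduced_vanishingIdeal_subscheme _
  obtain ⟨z, hz⟩ : η ∈ Set.range (ptIdeal η).subschemeι := (range_ptι η) ▸ subset_closure rfl
  have hgen : IsGenericPoint z (Set.univ : Set (ptIdeal η).subscheme) := by
    refine Set.eq_univ_of_forall fun y => ?_
    rw [(ptIdeal η).subschemeι.isClosedEmbedding.isInducing.closure_eq_preimage_closure_image,
      Set.image_singleton, hz, ← range_ptι η]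
    exact Set.mem_range_self y
  haveI : IrreducibleSpace (ptIdeal η).subscheme :=
    { toPreirreducibleSpace := ⟨hgen.isIrreducible.2⟩, toNonempty := ⟨z⟩ }
  exact ⟨isIntegral_of_irreducibleSpace_of_isReduced _, z, hgen, hz⟩

theorem support_ptMod (η : X) : CohB1.support (ptMod η) ⊆ closure ({η} : Set X) :=
  (support_push_subset _ _).trans (range_ptι η).le

theorem isCoh_ptMod [IsNoetherian X] (η : X) : Coh.IsCoh (ptMod η) :=
  CurveCoh17.isCoh_quotMod _

/-- The model at `η`. -/
theorem nonempty_model [IsNoetherian X] {P : X.Modules → Prop}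
    (hP : ∀ M N : X.Modules, Nonempty (M ≅ N) → P M → P N) (η : X) (h : P (ptMod η)) :
    Nonempty (HasModel P η) := by
  obtain ⟨hI, z, hz, hzη⟩ := isIntegral_pt η
  haveI := hI
  obtain rfl := (genericPoint_spec _).eq hz
  have key : ∀ (W : Scheme.{u}) (i : W ⟶ X) [IsClosedImmersion i] [IsIntegral W],
      Coh.IsCoh ((Scheme.Modules.pushforward i).obj (Coh.structureModule W)) →
      CohB1.support ((Scheme.Modules.pushforward i).obj (Coh.structureModule W)) ⊆ closure {i (genericPoint W)} →
      P ((Scheme.Modules.pushforward i).obj (Coh.structureModule W)) →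
      Nonempty (HasModel P (i (genericPoint W))) := fun W i _ _ hc hs hp => by
    obtain ⟨g, hg, hgen, hkill⟩ := exists_cyclic_push_structureModule i
    exact ⟨HasModel.ofCyclic hP _ hc hs g hg hgen hkill hp⟩
  have := key _ (ptIdeal η).subschemeι (isCoh_ptMod η) (by rw [hzη]; exact support_ptMod η) h
  rwa [hzη] at this

theorem lenAt_ptMod_self [IsNoetherian X] (η : X) : lenAt (ptMod η) η = 1 := by
  obtain ⟨hI, z, hz, hzη⟩ := isIntegral_pt η
  haveI := hI
  obtain rfl := (genericPoint_spec _).eq hz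
  simp only [lenAt]
  suffices hl : Module.length (X.presheaf.stalk η) ((ptMod η).presheaf.stalk η) = 1 by rw [hl]; rfl
  obtain ⟨g, hg, hgen, hkill⟩ := exists_cyclic_push_structureModule (ptIdeal η).subschemeι
  have hs : IsSimpleModule (X.presheaf.stalk ((ptIdeal η).subschemeι (genericPoint (ptIdeal η).subscheme)))
      ((ptMod η).presheaf.stalk ((ptIdeal η).subschemeι (genericPoint (ptIdeal η).subscheme))) := by
    haveI : Nontrivial ((ptMod η).presheaf.stalk ((ptIdeal η).subschemeι (genericPoint (ptIdeal η).subscheme))) :=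
      ⟨g, 0, hg⟩
    refine isSimpleModule_iff_toSpanSingleton_surjective.2 ⟨inferInstance, fun x hx b => ?_⟩
    obtain ⟨c, rfl⟩ := hgen x
    obtain ⟨d, rfl⟩ := hgen b
    have hu : IsUnit c := by
      by_contra h
      exact hx (hkill c ((IsLocalRing.mem_maximalIdeal c).2 h) g)
    refine ⟨d * ↑hu.unit⁻¹, ?_⟩
    rw [LinearMap.toSpanSingleton_apply, smul_smul, mul_assoc, IsUnit.val_inv_mul, mul_one]
  rw [hzη] at hs
  exact Module.length_eq_one _ _

theorem lenAt_eq_zero {F : X.Modules} {ξ : X} (h : ξ ∉ CohB1.support F) : lenAt F ξ = 0 := by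
  haveI : Subsingleton (F.presheaf.stalk ξ) := not_not.1 h
  simp [lenAt, Module.length_eq_zero]

theorem lenAt_shortExact [IsNoetherian X] {S : ShortComplex X.Modules} (hS : S.ShortExact)
    (h₁ : Coh.IsCoh S.X₁) (h₃ : Coh.IsCoh S.X₃) {ξ : X}
    (hmax : ∀ y ∈ CohB1.support S.X₂, y ⤳ ξ → y = ξ) :
    lenAt S.X₂ ξ = lenAt S.X₁ ξ + lenAt S.X₃ ξ := by
  obtain ⟨hi, he, hs⟩ := Cyc26.stalkLin_exact hS ξ
  have hsup := CohGab13.support_mid hS
  have f1 := Cyc26.length_stalk_ne_top h₁ (ξ := ξ) fun y hy h => hmax y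
    (hsup.ge (Or.inl (not_subsingleton_iff_nontrivial.2 hy))) h
  have f3 := Cyc26.length_stalk_ne_top h₃ (ξ := ξ) fun y hy h => hmax y
    (hsup.ge (Or.inr (not_subsingleton_iff_nontrivial.2 hy))) h
  simp only [lenAt]
  rw [Module.length_eq_add_of_exact _ _ hi hs he, ENat.toNat_add f1 f3]
  push_cast
  rfl

theorem lenAt_iso {M N : X.Modules} (e : M ≅ N) (ξ : X) : lenAt M ξ = lenAt N ξ := by
  simp only [lenAt]
  rw [(LinearEquiv.ofBijective (CurveCoh17.stalkLin e.hom ξ)
    ((M1.isIso_iff_stalk e.hom).1 inferInstance ξ)).length_eq]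

/-- In a closed set of dimension at most `d` the points with `d`-dimensional closure are maximal. -/
theorem eq_of_specializes_of_dim {Z : Set X} (hZ : IsClosed Z) {d : ℕ}
    (hd : topologicalKrullDim Z ≤ (d : WithBot ℕ∞)) {ξ y : X} (hy : y ∈ Z)
    (hξ : topologicalKrullDim (closure ({ξ} : Set X)) = (d : WithBot ℕ∞)) (h : y ⤳ ξ) : y = ξ := by
  by_contra hne
  have hyd : topologicalKrullDim (closure ({y} : Set X)) ≤ (d : WithBot ℕ∞) :=
    dim_le_of_subset (hZ.closure_subset_iff.2 (Set.singleton_subset_iff.2 hy)) hd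
  have hsub : closure ({ξ} : Set X) ⊆ closure {y} :=
    closure_minimal (Set.singleton_subset_iff.2 h.mem_closure) isClosed_closure
  have hny : y ∉ closure ({ξ} : Set X) := fun h' => hne (h.antisymm (specializes_iff_mem_closure.2 h')).eq
  rcases d with _ | d'
  · have h0 := eq_empty_of_notMem isClosed_closure hsub hny (by simpa using hyd)
    exact (h0.le (subset_closure rfl) : ξ ∈ (∅ : Set X))
  · have h1 := dim_le_of_notMem isClosed_closure hsub hny hyd
    rw [hξ] at h1
    exact absurd (Nat.cast_le.1 h1) (by omega)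

/-- The components of dimension `d` of a closed set of dimension `≤ d`. -/
theorem exists_finset_top [IsNoetherian X] {Z : Set X} (hZ : IsClosed Z) {d : ℕ}
    (hd : topologicalKrullDim Z ≤ (d : WithBot ℕ∞)) :
    ∃ T : Finset X, ∀ ξ, ξ ∈ T ↔ ξ ∈ Z ∧ topologicalKrullDim (closure ({ξ} : Set X)) = (d : WithBot ℕ∞) := by
  classical
  obtain ⟨G, hG⟩ := VarDim.exists_finite_generic (X := X) hZ
  refine ⟨G.filter fun ξ => ξ ∈ Z ∧ topologicalKrullDim (closure ({ξ} : Set X)) = (d : WithBot ℕ∞),
    fun ξ => ⟨fun h => (Finset.mem_filter.1 h).2, fun h => Finset.mem_filter.2 ⟨?_, h⟩⟩⟩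
  obtain ⟨g, hg, hgξ⟩ := (hG ξ).1 h.1
  exact eq_of_specializes_of_dim hZ hd ((hG g).2 ⟨g, hg, specializes_rfl⟩) h.2 hgξ ▸ hg

variable {k : Type u} [Field k] [X.Over (Spec (CommRingCat.of k))]

variable (k) in
/-- `χ` of the twists. -/
noncomputable def chi {r : ℕ} (L : Fin r → X.Modules) (F : X.Modules) (n : Fin r → ℕ) : ℚ :=
  (Curv2.euler k X (CohB1.tensorMod F (FGA.multiTwist L n)) : ℚ)

theorem chi_iso {r : ℕ} (L : Fin r → X.Modules) {M N : X.Modules} (e : M ≅ N) (n : Fin r → ℕ) :
    chi k L M n = chi k L N n := by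
  simp only [chi]
  rw [CurveCoh17.euler_iso (M2.tensorIso e (Iso.refl _))]

variable [IsProper (X ↘ Spec (CommRingCat.of k))]

theorem chi_shortExact {r : ℕ} {L : Fin r → X.Modules} (hL : ∀ i, PicF.IsInvertible (L i))
    {S : ShortComplex X.Modules} (hS : S.ShortExact) (h₁ : Coh.IsCoh S.X₁) (h₂ : Coh.IsCoh S.X₂)
    (h₃ : Coh.IsCoh S.X₃) (n : Fin r → ℕ) : chi k L S.X₂ n = chi k L S.X₁ n + chi k L S.X₃ n := by
  simp only [chi]
  rw [euler_tensor_add hS h₁ h₂ h₃ (isInvertible_multiTwist hL n)]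
  push_cast
  rfl

/-- The leading part. -/
theorem polyLT_chi_sub_components {r : ℕ} {L : Fin r → X.Modules} (hL : ∀ i, PicF.IsInvertible (L i))
    {Z : Set X} (hZ : IsClosed Z) {d : ℕ} (hd : topologicalKrullDim Z ≤ (d : WithBot ℕ∞))
    (T : Finset X) (hT : ∀ ξ, ξ ∈ T ↔ ξ ∈ Z ∧ topologicalKrullDim (closure ({ξ} : Set X)) = (d : WithBot ℕ∞))
    {F : X.Modules} (hF : Coh.IsCoh F) (hFZ : CohB1.support F ⊆ Z) :
    PolyLT d fun n => chi k L F n - ∑ ξ ∈ T, lenAt F ξ * chi k L (ptMod ξ) n := by
  classical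
  haveI : IsNoetherian X := CohFound.isNoetherian_of_isProper (X ↘ (Spec (CommRingCat.of k)))
  let P : X.Modules → Prop := fun G =>
    PolyLT d fun n => chi k L G n - ∑ ξ ∈ T, lenAt G ξ * chi k L (ptMod ξ) n
  have hiso : ∀ M N : X.Modules, Nonempty (M ≅ N) → P M → P N := fun M N ⟨e⟩ h =>
    PolyLT.congr h fun n => by simp only [lenAt_iso e, chi_iso L e]
  have hadd : ∀ S : ShortComplex X.Modules, S.ShortExact → Coh.IsCoh S.X₁ → Coh.IsCoh S.X₂ → Coh.IsCoh S.X₃ →
      CohB1.support S.X₂ ⊆ Z → ∀ n : Fin r → ℕ,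
        (chi k L S.X₂ n - ∑ ξ ∈ T, lenAt S.X₂ ξ * chi k L (ptMod ξ) n) =
          (chi k L S.X₁ n - ∑ ξ ∈ T, lenAt S.X₁ ξ * chi k L (ptMod ξ) n) +
            (chi k L S.X₃ n - ∑ ξ ∈ T, lenAt S.X₃ ξ * chi k L (ptMod ξ) n) := by
    intro S hS a b c hs n
    rw [chi_shortExact hL hS a b c, Finset.sum_congr rfl fun ξ hξ => by
      rw [lenAt_shortExact hS a c fun y hy h => eq_of_specializes_of_dim hZ hd (hs hy) ((hT ξ).1 hξ).2 h, add_mul],
      Finset.sum_add_distrib]
    ring
  have hP : TwoOfThreeOn P Z :=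
    { of_isZero := fun M hM hz => by
        have hsupp : CohB1.support M = ∅ := Set.eq_empty_of_forall_notMem fun x hx =>
          hx (AddCommGrpCat.subsingleton_of_isZero ((M1.stalkAb x).map_isZero hz))
        refine (polyLT_zero d).congr fun n => ?_
        have hT' := isInvertible_multiTwist hL n
        simp only [chi, lenAt_eq_zero (F := M) (by simp [hsupp] : _ ∉ CohB1.support M), zero_mul,
          Finset.sum_const_zero, sub_zero]
        rw [euler_of_isZero (CurveCoh17.isCoh_tensor hM (Snapper.isCoh_of_isInvertible hT'))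
          (isZero_of_support_empty (Set.subset_empty_iff.1 (hsupp ▸ support_tensor_subset M _)))]
        simp
      mid := fun S hS a b c hs p q => (p.add q).congr fun n => (hadd S hS a b c hs n).symm
      left := fun S hS a b c hs p q => (p.sub q).congr fun n => by rw [hadd S hS a b c hs n]; ring
      right := fun S hS a b c hs p q => (q.sub p).congr fun n => by rw [hadd S hS a b c hs n]; ring }
  refine hP.holds (fun η hη => nonempty_model hiso η ?_) hF hFZ
  have hη' : closure ({η} : Set X) ⊆ Z := hZ.closure_subset_iff.2 (Set.singleton_subset_iff.2 hη)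
  have hzero : ∀ ξ ∈ T, ξ ≠ η → lenAt (ptMod η) ξ = 0 := fun ξ hξ hne => lenAt_eq_zero fun h =>
    hne (eq_of_specializes_of_dim hZ hd hη ((hT ξ).1 hξ).2
      (specializes_iff_mem_closure.2 (support_ptMod η h))).symm
  by_cases hηT : η ∈ T
  · refine (polyLT_zero d).congr fun n => ?_
    rw [Finset.sum_eq_single η (fun ξ hξ hne => by rw [hzero ξ hξ hne, zero_mul]) (fun h => (h hηT).elim),
      lenAt_ptMod_self, one_mul, sub_self]
  · have hle := dim_le_of_subset hη' hd
    have hlt : topologicalKrullDim (closure ({η} : Set X)) < (d : WithBot ℕ∞) :=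
      lt_of_le_of_ne hle fun h => hηT ((hT η).2 ⟨hη, h⟩)
    rcases d with _ | d'
    · have h0 : (0 : WithBot ℕ∞) ≤ topologicalKrullDim (closure ({η} : Set X)) := by
        haveI : Nonempty (TopologicalSpace.IrreducibleCloseds (closure ({η} : Set X))) :=
          ⟨⟨closure {⟨η, subset_closure rfl⟩}, isIrreducible_singleton.closure, isClosed_closure⟩⟩
        exact Order.krullDim_nonneg
      exact absurd (h0.trans_lt hlt) (by simp)
    have hd' : topologicalKrullDim (closure ({η} : Set X)) ≤ (d' : WithBot ℕ∞) :=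
      ENat.WithBot.lt_add_one_iff.1 (by simpa using hlt)
    refine (PolyLT.of_polyLE (snapper X k d' (ptMod η) (isCoh_ptMod η)
      (dim_le_of_subset (support_ptMod η) hd') r L hL) (Nat.lt_succ_self d')).congr fun n => ?_
    rw [Finset.sum_eq_zero fun ξ hξ => by rw [hzero ξ hξ (fun h => hηT (h ▸ hξ)), zero_mul], sub_zero]
    rfl

end Groth.Agent.NumPoly18
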