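import Groth.Agent.Lib.NumPoly18.SurfCartier
import Groth.Agent.Lib.Twist.Ample
import Groth.Agent.Lib.ProjSpace.Basic
import Groth.Agent.Lib.Ample18.Ample
import Groth.Agent.Lib.AmpleImm18.Over

/-!
# Projective surfaces: polarisations and effective divisors
-/

set_option autoImplicit false
set_option linter.style.haveILetI false
set_option maxHeartbeats 800000
set_option backward.isDefEq.respectTransparency false

universe u

open CategoryTheory CategoryTheory.Limits AlgebraicGeometry TopologicalSpace Opposite Filter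

namespace Groth.Agent.NumPoly18

open Groth.Agent Groth.Agent.Snapper
open Groth.Agent.CurveCoh17 (hequiv hh0)

theorem mem_support_push {X Y : Scheme.{u}} (f : X ⟶ Y) (x : X) :
    f x ∈ CohB1.support ((Scheme.Modules.pushforward f).obj (Coh.structureModule X)) := by
  intro h
  haveI := h
  let s : Γ((Scheme.Modules.pushforward f).obj (Coh.structureModule X), (⊤ : Y.Opens)) := (1 : Γ(X, ⊤))
  obtain ⟨W, hW, i, j, e⟩ := ((Scheme.Modules.pushforward f).obj (Coh.structureModule X)).presheaf.germ_eq
    (f x) (Opens.mem_top _) (Opens.mem_top _) s 0 (Subsingleton.elim _ _)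
  rw [map_zero] at e
  have e' : (1 : Γ(X, f ⁻¹ᵁ W)) = 0 :=
    (map_one (X.presheaf.map ((Opens.map f.base).map i).op).hom).symm.trans e
  have := congrArg (X.presheaf.germ (f ⁻¹ᵁ W) x hW) e'
  rw [map_one, map_zero] at this
  exact one_ne_zero this

theorem support_quotMod {X : Scheme.{u}} (I : X.IdealSheafData) :
    CohB1.support (ClSub.quotMod I) = (I.support : Set X) := by
  refine ((CohFound.support_push_subset _ _).trans I.range_subschemeι.le).antisymm fun x hx => ?_
  obtain ⟨z, rfl⟩ := I.range_subschemeι.ge hx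
  exact mem_support_push _ z

theorem isProper_of_closedImmersion {k : Type u} [Field k] {X : Scheme.{u}} [X.Over (Spec (CommRingCat.of k))]
    {n : ℕ} (ι : X ⟶ CohB1.ProjSpace n k) [IsClosedImmersion ι]
    (hι : ι ≫ CohB1.ProjSpace.toSpec n k = X ↘ Spec (CommRingCat.of k)) :
    IsProper (X ↘ Spec (CommRingCat.of k)) := by
  haveI := ProjSpace.isProper_toSpec (n := n) (R := k)
  rw [← hι]
  infer_instance

theorem isAmple_pullback_twistProjSpace {k : Type u} [Field k] {X : Scheme.{u}}
    {n : ℕ} (ι : X ⟶ CohB1.ProjSpace n k) [IsClosedImmersion ι] :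
    CohB1.IsAmple ((Scheme.Modules.pullback ι).obj (Twist.twistProjSpace n k 1)) :=
  Amp.isAmple_pullback_of_isAffineHom ι (Twist.isAmple_twist (CohB1.polyGrading n k) _
    (fun i => ProjSpace.X_mem' n k i) (ProjSpace.irrelevant_le_span n k) (d := 1) one_pos)

variable {X : Scheme.{u}} {k : Type u} [Field k] [X.Over (Spec (CommRingCat.of k))]
  [IsProper (X ↘ Spec (CommRingCat.of k))] [IsIntegral X]

/-- A module with a nontrivial effective divisor has positive degree. -/
theorem dot_pos_of_hasMonoSec (hd : topologicalKrullDim X = ((2 : ℕ) : WithBot ℕ∞)) {H L : X.Modules}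
    (hH : CohB1.IsAmple H) (hL : PicF.IsInvertible L) (hs : HasMonoSec L)
    (hne : IsEmpty (L ≅ Coh.structureModule X)) : 0 < dot k L H := by
  haveI : IsNoetherian X := CohFound.isNoetherian_of_isProper (X ↘ (Spec (CommRingCat.of k)))
  obtain ⟨D, hD, ⟨e⟩⟩ := M2.exists_inverse hL
  obtain ⟨φ, hφ⟩ := exists_mono_of_hasMonoSec hs hD (C := Coh.structureModule X) e
  haveI := hφ
  haveI : Coh.IsQCoh D := (isCoh_of_isInvertible hD).1
  obtain ⟨eD⟩ := SecDiv.nonempty_iso_idealMod φ
  let I := SecDiv.ofMono φ
  have hI : BlowUp.IsEffCartierIdeal I :=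
    SecDiv.isEffCartierIdeal_of_isInvertible I (M2.isInvertible_of_iso eD hD)
  rw [dot_eq_cdeg_quot hd.le hI eD hL e hH.1]
  have hQ : Coh.IsCoh (ClSub.quotMod I) := CurveCoh17.isCoh_quotMod _
  refine cdeg_pos_of_dim_one hH hQ (le_antisymm ?_ ?_)
  · haveI : Mono (ClSub.idealModι I) := (M2.shortExact_idealMod I).mono_f
    haveI : Mono (eD.hom ≫ ClSub.idealModι I) := mono_comp' inferInstance inferInstance
    obtain ⟨hC, hCd⟩ := dim_support_coker_of_mono (k := k) (d := 1) hd.le hD
      (PicLoc.isInvertible_structureModule X) (eD.hom ≫ ClSub.idealModι I)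
    have hS := M2.shortExact_idealMod I
    haveI : Epi (ClSub.toSubscheme I) := hS.epi_g
    have e3 : cokernel (eD.hom ≫ ClSub.idealModι I) ≅ ClSub.quotMod I :=
      cokernelEpiComp eD.hom (ClSub.idealModι I) ≪≫
        IsColimit.coconePointUniqueUpToIso (cokernelIsCokernel _) hS.gIsCokernel
    exact (dim_le_of_subset (CohFound.support_subset_of_mono e3.inv) hCd).trans (by simp)
  · rw [support_quotMod]
    by_cases he : ((I.support : Set X)) = ∅
    · exfalso
      have hz : IsZero (ClSub.quotMod I) := isZero_of_support_empty (by rw [support_quotMod, he])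
      haveI : IsIso (ClSub.idealModι I) :=
        (M2.shortExact_idealMod I).isIso_f_iff.2 hz
      exact hne.false ((M2.tensorRUnit L).symm ≪≫
        M2.tensorIso (Iso.refl L) ((eD ≪≫ asIso (ClSub.idealModι I)).symm) ≪≫ e)
    obtain ⟨x, hx⟩ := Set.nonempty_iff_ne_empty.2 he
    by_contra hlt
    push Not at hlt
    let f := X ↘ Spec (CommRingCat.of k)
    have hsd : ∀ y ∈ (I.support : Set X), VarDim.sdim f y = 0 := fun y hy => by
      have h1 : topologicalKrullDim (closure ({y} : Set X)) ≤ topologicalKrullDim (I.support : Set X) :=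
        dim_le_of_subset (closure_minimal (Set.singleton_subset_iff.2 hy) I.support.isClosed') le_rfl
      have h2 := h1.trans_lt hlt
      rw [VarDim.dim_closure_singleton f] at h2
      have : VarDim.sdim f y < 1 := by exact_mod_cast h2
      omega
    obtain ⟨U, hxU, g, hIU, hg0, hgm, hgen⟩ := SecDiv.exists_stalk_eqn hI hx
    haveI : IsNoetherianRing (X.presheaf.stalk x) := inferInstance
    have h1 := SecDiv.ringKrullDim_eq_one hg0 hgm (hgen fun y hy hyx => by
      by_contra hne'
      have := VarDim.sdim_lt_of_specializes f hyx hne'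
      rw [hsd y hy, hsd x hx] at this
      exact lt_irrefl _ this)
    have h2 := ringKrullDim_stalk_of_sdim (k := k) hd x
    rw [h1, hsd x hx] at h2
    simp at h2

end Groth.Agent.NumPoly18
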