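import Groth.Agent.Lib.NumPoly18.BigNef
import Groth.Agent.Lib.NegTwist18.Main
import Groth.Agent.Lib.WeakAss18.Basic
import Groth.Agent.Lib.Twist.Ample
import Groth.Agent.Lib.Twist.GlobalProjSpace
import Groth.Agent.Lib.Twist.ProjSpace
import Groth.Agent.Lib.CurveCoh17.Skyscraper
import Mathlib.Algebra.Module.Submodule.Union
import Mathlib.LinearAlgebra.Eigenspace.Triangularizable

/-!
# Pencils of hyperplanes and negative twists on projective space
-/

set_option autoImplicit false
set_option linter.style.haveILetI false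
set_option maxHeartbeats 1600000
set_option backward.isDefEq.respectTransparency false

universe u

open CategoryTheory CategoryTheory.Limits AlgebraicGeometry TopologicalSpace Opposite MvPolynomial

namespace Groth.Agent.NumPoly18

open Groth.Agent
open Groth.Agent.CurveCoh17 (hh0 hh0_smul hequiv)

variable {k : Type u} [Field k] {N : ℕ}

local notation "𝒜" => CohB1.polyGrading N k
local notation "PP" => CohB1.ProjSpace N k

/-- The linear forms vanishing at a point. -/
noncomputable def linVanish (x : ProjectiveSpectrum (CohB1.polyGrading N k)) :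
    Submodule k (CohB1.polyGrading N k 1) :=
  Submodule.comap (CohB1.polyGrading N k 1).subtype (x.asHomogeneousIdeal.toIdeal.restrictScalars k)

theorem mem_linVanish {x : ProjectiveSpectrum (CohB1.polyGrading N k)} {f : CohB1.polyGrading N k 1} :
    f ∈ linVanish x ↔ (f : MvPolynomial (Fin (N + 1)) k) ∈ x.asHomogeneousIdeal := Iff.rfl

/-- A point at which the linear forms up to one of them vanish is closed. -/
theorem isClosed_of_sup_span_eq_top {x : ProjectiveSpectrum (CohB1.polyGrading N k)}
    {g : CohB1.polyGrading N k 1} (h : linVanish x ⊔ Submodule.span k {g} = ⊤) :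
    IsClosed ({x} : Set (ProjectiveSpectrum (CohB1.polyGrading N k))) := by
  have hX : ∀ i : Fin (N + 1), ∃ a : k, (X i - C a * (g : MvPolynomial (Fin (N + 1)) k)) ∈ x.asHomogeneousIdeal := by
    intro i
    obtain ⟨v, hv, w, hw, hvw⟩ := Submodule.mem_sup.1 (h.ge (Submodule.mem_top (x := ⟨X i, isHomogeneous_X k i⟩)))
    obtain ⟨a, rfl⟩ := Submodule.mem_span_singleton.1 hw
    refine ⟨a, ?_⟩
    have e := congrArg Subtype.val hvw
    simp only [Submodule.coe_add, Submodule.coe_smul] at e
    rw [← smul_eq_C_mul, ← e, add_sub_cancel_right]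
    exact hv
  choose a ha using hX
  refine isClosed_of_closure_subset fun y hy => ?_
  have hxy : x ≤ y := (ProjectiveSpectrum.le_iff_mem_closure (x := x) (y := y)).2 hy
  have hgy : (g : MvPolynomial (Fin (N + 1)) k) ∉ y.asHomogeneousIdeal := by
    intro hg
    refine y.not_irrelevant_le fun z hz => Ideal.span_le.2 ?_ (ProjSpace.irrelevant_le_span N k hz)
    rintro _ ⟨i, rfl⟩
    have := y.asHomogeneousIdeal.toIdeal.add_mem (hxy (ha i)) (y.asHomogeneousIdeal.toIdeal.mul_mem_left (C (a i)) hg)
    rwa [sub_add_cancel] at this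
  have hle : y ≤ x := by
    intro f hf
    rw [← MvPolynomial.sum_homogeneousComponent f]
    refine Ideal.sum_mem _ fun d _ => ?_
    have hc : homogeneousComponent d f ∈ y.asHomogeneousIdeal := by
      have h1 := y.asHomogeneousIdeal.isHomogeneous d hf
      rwa [show ((DirectSum.decompose (CohB1.polyGrading N k) f d : CohB1.polyGrading N k d) :
        MvPolynomial (Fin (N + 1)) k) = homogeneousComponent d f from MvPolynomial.decomposition.decompose'_apply f d] at h1
    have hh : (homogeneousComponent d f).IsHomogeneous d := homogeneousComponent_isHomogeneous d f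
    generalize homogeneousComponent d f = φ at hc hh ⊢
    let mk := Ideal.Quotient.mk x.asHomogeneousIdeal.toIdeal
    have key : mk φ = mk (C (eval a φ) * (g : MvPolynomial (Fin (N + 1)) k) ^ d) := by
      rw [eval_eq, map_sum, Finset.sum_mul, map_sum]
      conv_lhs => rw [φ.as_sum, map_sum]
      refine Finset.sum_congr rfl fun s hs => ?_
      have hdeg : ∑ i ∈ s.support, s i = d := hh.degree_eq_sum_deg_support hs |>.symm
      rw [monomial_eq, Finsupp.prod, map_mul, map_mul, map_mul, map_mul, map_prod, map_pow, ← hdeg,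
        ← Finset.prod_pow_eq_pow_sum, map_prod, map_prod, mul_assoc, ← Finset.prod_mul_distrib]
      congr 1
      refine Finset.prod_congr rfl fun i _ => ?_
      rw [show mk (X i ^ s i) = mk ((C (a i) * (g : MvPolynomial (Fin (N + 1)) k)) ^ s i) from by
        rw [map_pow, map_pow, Ideal.Quotient.eq.2 (ha i)]]
      simp [mul_pow]
    by_contra hφ
    have h0 : eval a φ ≠ 0 := fun e0 => hφ (by
      rw [e0, map_zero, zero_mul, map_zero] at key
      exact Ideal.Quotient.eq_zero_iff_mem.1 key)
    have h1 : C (eval a φ) * (g : MvPolynomial (Fin (N + 1)) k) ^ d ∈ y.asHomogeneousIdeal := by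
      have h2 := y.asHomogeneousIdeal.toIdeal.sub_mem hc (hxy (Ideal.Quotient.eq.1 key))
      rwa [sub_sub_cancel] at h2
    have h3 := y.asHomogeneousIdeal.toIdeal.mul_mem_left (C (eval a φ)⁻¹) h1
    rw [← mul_assoc, ← C_mul, inv_mul_cancel₀ h0, C_1, one_mul] at h3
    exact hgy (y.isPrime.mem_of_pow_mem d h3)
  exact le_antisymm hle hxy

/-- A line of linear forms avoiding finitely many nonclosed points. -/
theorem exists_pencil [Infinite k] {S : Set (ProjectiveSpectrum (CohB1.polyGrading N k))} (hS : S.Finite)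
    (hnc : ∀ x ∈ S, ¬ IsClosed ({x} : Set (ProjectiveSpectrum (CohB1.polyGrading N k)))) :
    ∃ f g : CohB1.polyGrading N k 1, ∀ x ∈ S, ∀ a b : k, (a ≠ 0 ∨ b ≠ 0) → a • f + b • g ∉ linVanish x := by
  haveI := hS.to_subtype
  obtain ⟨g, hg⟩ := Submodule.exists_forall_notMem_of_forall_ne_top (fun x : S => linVanish x.1)
    fun x e => hnc x.1 x.2 (isClosed_of_sup_span_eq_top (g := 0) (by rw [e, top_sup_eq]))
  obtain ⟨f, hf⟩ := Submodule.exists_forall_notMem_of_forall_ne_top
    (fun x : S => linVanish x.1 ⊔ Submodule.span k {g})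
    fun x e => hnc x.1 x.2 (isClosed_of_sup_span_eq_top e)
  refine ⟨f, g, fun x hx a b hab hmem => ?_⟩
  by_cases ha : a = 0
  · rcases hab with h | h
    · exact h ha
    rw [ha, zero_smul, zero_add, (linVanish x).smul_mem_iff h] at hmem
    exact hg ⟨x, hx⟩ hmem
  · refine hf ⟨x, hx⟩ ((Submodule.smul_mem_iff _ ha).1 ?_)
    have := Submodule.sub_mem _ (Submodule.mem_sup_left (T := Submodule.span k {g}) hmem)
      (Submodule.mem_sup_right (S := linVanish x) (Submodule.smul_mem _ b (Submodule.mem_span_singleton_self g)))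
    rwa [add_sub_cancel_right] at this

theorem gsec_add (f g : CohB1.polyGrading N k 1) :
    Twist.gsec (CohB1.polyGrading N k) (f + g) = Twist.gsec (CohB1.polyGrading N k) f + Twist.gsec (CohB1.polyGrading N k) g := by
  refine Twist.sec_ext fun x hx => ?_
  show Localization.mk ((f + g : CohB1.polyGrading N k 1) : MvPolynomial (Fin (N + 1)) k) ⟨1, Twist.one_notMem N k x⟩ =
    Localization.mk (f : MvPolynomial (Fin (N + 1)) k) ⟨1, Twist.one_notMem N k x⟩ + Localization.mk (g : MvPolynomial (Fin (N + 1)) k) ⟨1, Twist.one_notMem N k x⟩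
  rw [Localization.add_mk_self, Submodule.coe_add]

theorem gsec_smul (c : k) (f : CohB1.polyGrading N k 1) :
    Twist.gsec (CohB1.polyGrading N k) (c • f) =
      Twist.constFun N k c • (Twist.gsec (CohB1.polyGrading N k) f :
        Γ(_root_.Twist.twist (CohB1.polyGrading N k) ((1 : ℕ) : ℤ), ⊤)) := by
  refine Twist.sec_ext fun x hx => ?_
  refine Eq.trans ?_ (Twist.val_smul _ _ x hx).symm
  rw [Twist.valO_constFun]
  show Localization.mk ((c • f : CohB1.polyGrading N k 1) : MvPolynomial (Fin (N + 1)) k) ⟨1, Twist.one_notMem N k x⟩ =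
    Localization.mk (C c) ⟨1, Twist.one_notMem N k x⟩ * Localization.mk (f : MvPolynomial (Fin (N + 1)) k) ⟨1, Twist.one_notMem N k x⟩
  rw [Localization.mk_mul, Submodule.coe_smul, smul_eq_C_mul]
  exact congrArg _ (Subtype.ext (one_mul 1).symm)

section Mul

variable {M F : (CohB1.ProjSpace N k).Modules}
  (e : CohB1.tensorMod M (_root_.Twist.twistProjSpace N k 1) ≅ F)

/-- Multiplication by a linear form on global sections. -/
noncomputable def formMul (f : CohB1.polyGrading N k 1) :
    Coh.HH (CohB1.ProjSpace N k) M 0 →ₗ[k] Coh.HH (CohB1.ProjSpace N k) F 0 where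
  toFun v := (hh0 F).symm (e.hom.app ⊤
    (M2.tsec M (_root_.Twist.twistProjSpace N k 1) (hh0 M v) (Twist.gsec (CohB1.polyGrading N k) f)))
  map_add' v w := by rw [map_add, M2.tsec_add_left, map_add, map_add]
  map_smul' c v := by
    apply (hh0 F).injective
    rw [RingHom.id_apply, AddEquiv.apply_symm_apply]
    show _ = hh0 F (Coh.toGlobal (CohB1.ProjSpace N k ↘ Spec (CommRingCat.of k)) c • _)
    rw [show c • v = Coh.toGlobal (CohB1.ProjSpace N k ↘ Spec (CommRingCat.of k)) c • v from rfl,
      hh0_smul, hh0_smul, AddEquiv.apply_symm_apply, M2.tsec_smul_left]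
    exact Scheme.Modules.Hom.app_smul e.hom _ _

theorem hh0_formMul (f : CohB1.polyGrading N k 1) (v : Coh.HH (CohB1.ProjSpace N k) M 0) :
    hh0 F (formMul e f v) = e.hom.app ⊤
      (M2.tsec M (_root_.Twist.twistProjSpace N k 1) (hh0 M v) (Twist.gsec (CohB1.polyGrading N k) f)) :=
  AddEquiv.apply_symm_apply _ _

theorem formMul_add (f g : CohB1.polyGrading N k 1) : formMul e (f + g) = formMul e f + formMul e g := by
  refine LinearMap.ext fun v => (hh0 F).injective ?_
  rw [LinearMap.add_apply, map_add, hh0_formMul, hh0_formMul, hh0_formMul, gsec_add, ← map_add]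
  exact congrArg _ (M2.tsec_add_right _ _ _)

theorem formMul_smul (c : k) (f : CohB1.polyGrading N k 1) : formMul e (c • f) = c • formMul e f := by
  refine LinearMap.ext fun v => (hh0 F).injective ?_
  rw [LinearMap.smul_apply, show c • formMul e f v =
    Coh.toGlobal (CohB1.ProjSpace N k ↘ Spec (CommRingCat.of k)) c • formMul e f v from rfl, hh0_smul, hh0_formMul,
    hh0_formMul, gsec_smul]
  refine Eq.trans (congrArg _ (M2.tsec_smul_right _ _ _)) ?_
  exact Scheme.Modules.Hom.app_smul e.hom _ _

theorem formMul_injective (hM : Coh.IsCoh M) (f : CohB1.polyGrading N k 1)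
    (h : ∀ x : CohB1.ProjSpace N k, Curv2.IsAssPoint M x → f ∉ linVanish x) : Function.Injective (formMul e f) := by
  haveI : IsProper (CohB1.ProjSpace N k ↘ Spec (CommRingCat.of k)) := ProjSpace.isProper_toSpec N k
  haveI : IsNoetherian (CohB1.ProjSpace N k) :=
    CohFound.isNoetherian_of_isProper (CohB1.ProjSpace N k ↘ Spec (CommRingCat.of k))
  haveI := hM.1
  refine (injective_iff_map_eq_zero _).2 fun v hv => ?_
  have h1 : M2.tsec M (_root_.Twist.twistProjSpace N k 1) (hh0 M v) (Twist.gsec (CohB1.polyGrading N k) f) = 0 := by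
    refine (ConcreteCategory.bijective_of_isIso (e.hom.app ⊤)).1 ?_
    rw [← hh0_formMul, hv, map_zero]
    exact (map_zero _).symm
  let U := Proj.basicOpen (CohB1.polyGrading N k) (f : MvPolynomial (Fin (N + 1)) k)
  have hres : Function.Injective (M.presheaf.map (homOfLE (le_top : U ≤ ⊤)).op) :=
    WA.res_injective le_top fun x _ hx => h x ((WA.isAssPoint_iff x).2 hx)
  refine (hh0 M).injective ?_
  rw [map_zero]
  refine hres ((M1.section_ext _ _ fun y hy => ?_).trans (map_zero _).symm)
  rw [TopCat.Presheaf.germ_res_apply, map_zero]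
  refine NegTwist18.gm_eq_zero_of_tsec (Q := _root_.Twist.twistProjSpace N k 1)
    (U := ⊤) (y := y) (Twist.isInvertible_twistProjSpace N k 1) trivial (hh0 M v) (Twist.gsec (CohB1.polyGrading N k) f) ?_ h1
  have hg : y ∈ CohB1.genLocus (_root_.Twist.twist (CohB1.polyGrading N k) ((1 : ℕ) : ℤ))
      (M1.secHom (Twist.gsec (CohB1.polyGrading N k) f)) := by
    rw [Twist.genLocus_gsec _ (Twist.iSup_basicOpen_one N k) f]
    exact hy
  have h2 := (Amp.mem_genLocus_iff (X := CohB1.ProjSpace N k)
    (M := _root_.Twist.twistProjSpace N k ((1 : ℕ) : ℤ)) (Twist.isInvertible_twistProjSpace N k ((1 : ℕ) : ℤ))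
    (M1.secHom (Twist.gsec (CohB1.polyGrading N k) f)) (x := y)).1 hg
  rw [Amp.gval_secHom] at h2
  exact h2

include e in
/-- A twist down drops the number of sections. -/
theorem h0_twist_le [IsAlgClosed k] (hM : Coh.IsCoh M) (hF : Coh.IsCoh F)
    (hass : ∀ x : CohB1.ProjSpace N k, Curv2.IsAssPoint M x → ¬ IsClosed ({x} : Set (CohB1.ProjSpace N k))) :
    Module.finrank k (Coh.HH (CohB1.ProjSpace N k) M 0) ≤ Module.finrank k (Coh.HH (CohB1.ProjSpace N k) F 0) - 1 := by
  classical
  haveI : IsProper (CohB1.ProjSpace N k ↘ Spec (CommRingCat.of k)) := ProjSpace.isProper_toSpec N k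
  haveI : IsNoetherian (CohB1.ProjSpace N k) :=
    CohFound.isNoetherian_of_isProper (CohB1.ProjSpace N k ↘ Spec (CommRingCat.of k))
  haveI := CohFound.finite_HH_of_isProper (A := k) M hM 0
  haveI := CohFound.finite_HH_of_isProper (A := k) F hF 0
  have hfin : {x : CohB1.ProjSpace N k | Curv2.IsAssPoint M x}.Finite :=
    (WA.finite_weakAss hM.1 hM.2 (U := ⊤) isCompact_univ).subset fun x hx => ⟨trivial, (WA.isAssPoint_iff x).1 hx⟩
  obtain ⟨f, g, hfg⟩ := exists_pencil (k := k) (N := N) hfin fun x hx => hass x hx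
  have hinj : ∀ a b : k, (a ≠ 0 ∨ b ≠ 0) → Function.Injective (formMul e (a • f + b • g)) := fun a b hab =>
    formMul_injective e hM _ fun x hx => hfg x hx a b hab
  have hg1 : Function.Injective (formMul e g) := by
    have h := hinj 0 1 (Or.inr one_ne_zero)
    rwa [zero_smul, zero_add, one_smul] at h
  by_contra hlt
  have heq : Module.finrank k (Coh.HH (CohB1.ProjSpace N k) M 0) = Module.finrank k (Coh.HH (CohB1.ProjSpace N k) F 0) := by
    have := LinearMap.finrank_le_finrank_of_injective hg1
    omega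
  haveI : Nontrivial (Coh.HH (CohB1.ProjSpace N k) M 0) := Module.nontrivial_of_finrank_pos (R := k) (by omega)
  let G := LinearEquiv.ofBijective (formMul e g) ⟨hg1, (LinearMap.injective_iff_surjective_of_finrank_eq_finrank heq).1 hg1⟩
  obtain ⟨c, hc⟩ := Module.End.exists_eigenvalue (G.symm.toLinearMap.comp (formMul e f))
  obtain ⟨v, hv⟩ := hc.exists_hasEigenvector
  have h1 : formMul e f v = c • formMul e g v := by
    have h2 := congrArg G hv.apply_eq_smul
    rw [LinearMap.comp_apply, LinearEquiv.coe_coe, LinearEquiv.apply_symm_apply, map_smul] at h2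
    exact h2
  refine hv.2 (hinj 1 (-c) (Or.inl one_ne_zero) ?_)
  rw [map_zero, formMul_add, formMul_smul, formMul_smul, LinearMap.add_apply, LinearMap.smul_apply,
    LinearMap.smul_apply, one_smul, h1, neg_smul, add_neg_cancel]

end Mul

end Groth.Agent.NumPoly18
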