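import Groth.Agent.Lib.NumPoly18.Euler
import Groth.Agent.Lib.TensorMod.PullTensor
import Groth.Agent.Lib.Snapper.Vanish
import Mathlib.Data.Finset.Sort

/-!
# Translations between the forms of twisted Euler characteristics
-/

set_option autoImplicit false
set_option linter.style.haveILetI false
set_option maxHeartbeats 800000
set_option backward.isDefEq.respectTransparency false

universe u

open CategoryTheory CategoryTheory.Limits AlgebraicGeometry TopologicalSpace Opposite

namespace Groth.Agent.NumPoly18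

open Groth.Agent Groth.Agent.Snapper

variable {X : Scheme.{u}} {k : Type u} [Field k] [X.Over (Spec (CommRingCat.of k))]

theorem euler_tensorPows {r : ℕ} (L : Fin r → X.Modules) (F : X.Modules) (n : Fin r → ℕ) :
    (Curv2.euler k X (Curv2.tensorPows F r L n) : ℚ) = chi k L F n := by
  obtain ⟨e⟩ := nonempty_tensorPows_iso F r L n
  rw [chi, CurveCoh17.euler_iso e]

theorem nonempty_pullback_tensorPows {C : Scheme.{u}} (i : C ⟶ X) (F : X.Modules) :
    ∀ (r : ℕ) (L : Fin r → X.Modules) (n : Fin r → ℕ),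
      Nonempty ((Scheme.Modules.pullback i).obj (Curv2.tensorPows F r L n) ≅
        Curv2.tensorPows ((Scheme.Modules.pullback i).obj F) r (fun j => (Scheme.Modules.pullback i).obj (L j)) n)
  | 0, L, n => ⟨Iso.refl _⟩
  | r + 1, L, n => by
    obtain ⟨e⟩ := nonempty_pullback_tensorPows i F r (fun j => L j.castSucc) (fun j => n j.castSucc)
    exact ⟨M2.pullTensorIso i _ _ ≪≫ M2.tensorIso e (M2.pullTensorPowIso i _ _)⟩

/-- The twists on a closed subscheme. -/
theorem euler_tensorPows_push {C : Scheme.{u}} [C.Over (Spec (CommRingCat.of k))] (i : C ⟶ X) [IsAffineHom i]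
    (hi : i ≫ (X ↘ Spec (CommRingCat.of k)) = C ↘ Spec (CommRingCat.of k)) {r : ℕ} {L : Fin r → X.Modules}
    (hL : ∀ j, PicF.IsInvertible (L j)) (n : Fin r → ℕ) :
    (Curv2.euler k C (Curv2.tensorPows (Coh.structureModule C) r (fun j => (Scheme.Modules.pullback i).obj (L j)) n) : ℚ) =
      chi k L ((Scheme.Modules.pushforward i).obj (Coh.structureModule C)) n := by
  have hT := isInvertible_multiTwist hL n
  haveI := AmpleFin18.isIso_projHom_of_ofRank i (FGA.multiTwist L n) (Coh.structureModule C)
    ((M2.isInvertible_iff_isFinLocFreeOfRank_one _).1 hT)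
  obtain ⟨e₁⟩ := nonempty_tensorPows_iso (Coh.structureModule X) r L n
  obtain ⟨e₂⟩ := nonempty_pullback_tensorPows i (Coh.structureModule X) r L n
  obtain ⟨e₃⟩ : Nonempty (Curv2.tensorPows ((Scheme.Modules.pullback i).obj (Coh.structureModule X)) r
      (fun j => (Scheme.Modules.pullback i).obj (L j)) n ≅
      Curv2.tensorPows (Coh.structureModule C) r (fun j => (Scheme.Modules.pullback i).obj (L j)) n) := by
    obtain ⟨a⟩ := nonempty_tensorPows_iso ((Scheme.Modules.pullback i).obj (Coh.structureModule X)) r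
      (fun j => (Scheme.Modules.pullback i).obj (L j)) n
    obtain ⟨b⟩ := nonempty_tensorPows_iso (Coh.structureModule C) r (fun j => (Scheme.Modules.pullback i).obj (L j)) n
    exact ⟨a ≪≫ M2.tensorIso (Twist.pullbackUnitIso i) (Iso.refl _) ≪≫ b.symm⟩
  have hQ : Coh.IsQCoh ((Scheme.Modules.pullback i).obj (FGA.multiTwist L n)) :=
    M1.isQCoh_pullback i (Snapper.isCoh_of_isInvertible hT).1
  rw [chi, CurveCoh17.euler_iso (M2.tensorComm _ _ ≪≫ asIso (AmpleFin18.projHom i (FGA.multiTwist L n) (Coh.structureModule C))),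
    CurveCoh17.euler_iso ((Scheme.Modules.pushforward i).mapIso (M2.tensorRUnit _)),
    AmpleFin18.euler_push i hi _ hQ]
  rw [CurveCoh17.euler_iso (e₃.symm ≪≫ e₂.symm ≪≫ (Scheme.Modules.pullback i).mapIso (e₁ ≪≫ M2.tensorLUnit _))]

/-- Tensoring over a sub-list selected by exponents `0` or `1`. -/
theorem nonempty_tensorList_select {ι : Type} (M : ι → X.Modules) (p : ι → Bool) : ∀ l : List ι,
    Nonempty (FGA.tensorList ((l.filter p).map M) ≅
      FGA.tensorList (l.map fun j => CohB1.tensorPow (M j) (if p j then 1 else 0)))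
  | [] => ⟨Iso.refl _⟩
  | a :: l => by
    obtain ⟨e⟩ := nonempty_tensorList_select M p l
    rcases h : p a with _ | _
    · refine ⟨eqToIso (by simp [h]) ≪≫ e ≪≫ (M2.tensorLUnit _).symm ≪≫ eqToIso ?_⟩
      simp [List.map_cons, FGA.tensorList, h, CohB1.tensorPow]
    · refine ⟨eqToIso (show _ = CohB1.tensorMod (M a) (FGA.tensorList ((l.filter p).map M)) by
          simp [h, FGA.tensorList]) ≪≫ M2.tensorIso (M2.tensorPowOne (M a)).symm e ≪≫ eqToIso ?_⟩
      simp [List.map_cons, FGA.tensorList, h]

theorem sort_eq_filter {r : ℕ} (I : Finset (Fin r)) :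
    I.sort (· ≤ ·) = (List.finRange r).filter fun i => decide (i ∈ I) := by
  refine List.Perm.eq_of_pairwise' (Finset.pairwise_sort _ _) ?_ ?_
  · exact List.Pairwise.filter _ (List.pairwise_le_finRange r)
  · refine (List.perm_ext_iff_of_nodup (Finset.sort_nodup _ _) ((List.nodup_finRange r).filter _)).2 fun x => ?_
    simp

variable [IsProper (X ↘ Spec (CommRingCat.of k))]

/-- The intersection symbol as a mixed difference. -/
theorem intNum_eq_mixedDiff {d : ℕ} (hd : topologicalKrullDim X ≤ (d : WithBot ℕ∞)) {r : ℕ} {M : Fin r → X.Modules}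
    (hM : ∀ i, PicF.IsInvertible (M i)) {F : X.Modules} (hF : Coh.IsCoh F) :
    (FGA.intNum k X d M F : ℚ) = (-1 : ℚ) ^ r * mixedDiff (chi k M F) := by
  haveI : IsNoetherian X := CohFound.isNoetherian_of_isProper (X ↘ (Spec (CommRingCat.of k)))
  have h : ∀ I : Finset (Fin r),
      (FGA.eulerCharLE k X (CohB1.tensorMod (FGA.tensorList ((I.sort (· ≤ ·)).map M)) F) d : ℚ) =
        chi k M F (ind I) := fun I => by
    obtain ⟨e⟩ := nonempty_tensorList_select M (fun i => decide (i ∈ I)) (List.finRange r)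
    have e' : FGA.tensorList ((List.finRange r).map fun j => CohB1.tensorPow (M j) (if decide (j ∈ I) then 1 else 0)) =
        FGA.multiTwist M (ind I) := by simp [FGA.multiTwist, ind]
    have hi := (e ≪≫ eqToIso e')
    rw [← sort_eq_filter] at hi
    have hc : Coh.IsCoh (CohB1.tensorMod (FGA.tensorList ((I.sort (· ≤ ·)).map M)) F) :=
      CurveCoh17.isCoh_tensor (Snapper.isCoh_of_isInvertible (isInvertible_tensorList fun N hN => by
        obtain ⟨i, -, rfl⟩ := List.mem_map.1 hN
        exact hM i)) hF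
    rw [eulerCharLE_eq_euler d hd hc, chi,
      CurveCoh17.euler_iso (M2.tensorComm _ F ≪≫ M2.tensorIso (Iso.refl F) hi)]
  rw [FGA.intNum, mixedDiff, Finset.mul_sum]
  push_cast
  refine Finset.sum_congr rfl fun I _ => ?_
  rw [h, ← mul_assoc, ← pow_add]
  congr 1
  have hI : I.card ≤ r := (Finset.card_le_univ I).trans_eq (Fintype.card_fin r)
  rw [show r + (r - I.card) = I.card + 2 * (r - I.card) by omega, pow_add, pow_mul, neg_one_sq, one_pow, mul_one]

end Groth.Agent.NumPoly18
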