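import Groth.Agent.Lib.NumPoly18.BigNef
import Groth.Agent.Lib.TensorNat17.Basic
import Groth.Agent.Lib.CubeField.Simple

/-!
# Images of sections of powers of a generated module on subvarieties
-/

set_option autoImplicit false
set_option linter.style.haveILetI false
set_option maxHeartbeats 1600000
set_option backward.isDefEq.respectTransparency false

universe u

open CategoryTheory CategoryTheory.Limits AlgebraicGeometry TopologicalSpace Opposite

namespace Groth.Agent.NumPoly18

open Groth.Agent Groth.Agent.Snapper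
open Groth.Agent.CurveCoh17 (hmap hh0 hh0_hmap hequiv)

variable {X Y : Scheme.{u}}

theorem projHom_natural (f : Y ⟶ X) {E E' : X.Modules} (g : E ⟶ E') (N : Y.Modules) :
    M2.tensorMap g (𝟙 _) ≫ AmpleFin18.projHom f E' N =
      AmpleFin18.projHom f E N ≫
        (Scheme.Modules.pushforward f).map (M2.tensorMap ((Scheme.Modules.pullback f).map g) (𝟙 N)) := by
  refine M2.tensorMod_hom_ext fun U s t => ?_
  rw [M1.comp_app_apply, M1.comp_app_apply, AmpleFin18.projHom_tsec f E N s t, M2.tensorMap_tsec]
  refine (AmpleFin18.projHom_tsec f E' N _ _).trans ?_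
  refine Eq.trans ?_ (M2.tensorMap_tsec (L := (Scheme.Modules.pullback f).obj E) (M := N)
    ((Scheme.Modules.pullback f).map g) (𝟙 N) (U := f ⁻¹ᵁ U) (M2.pullSec f E s) t).symm
  rw [Amp.map_pullSec]
  rfl

/-- The composite of the canonical map to the direct image with a section, for a mono. -/
theorem mono_tensorMap_id_push (f : Y ⟶ X) [IsClosedImmersion f] {M : X.Modules} (hM : PicF.IsInvertible M)
    (s : Coh.structureModule X ⟶ M) [Mono ((Scheme.Modules.pullback f).map s)] :
    Mono (M2.tensorMap (𝟙 ((Scheme.Modules.pushforward f).obj (Coh.structureModule Y))) s) := by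
  haveI h1 : Mono (M2.tensorMap ((Scheme.Modules.pullback f).map s) (𝟙 (Coh.structureModule Y))) := by
    haveI : Mono (M2.tensorMap ((Scheme.Modules.pullback f).map s) (𝟙 (Coh.structureModule Y)) ≫
        (M2.tensorRUnit _).hom) := by
      rw [M2.tensorRUnit_natural]
      infer_instance
    exact mono_of_mono _ (M2.tensorRUnit _).hom
  haveI := AmpleFin18.isIso_projHom f (Coh.structureModule X) (Coh.structureModule Y)
    (PicLoc.isInvertible_structureModule X)
  haveI h2 : Mono (M2.tensorMap s (𝟙 ((Scheme.Modules.pushforward f).obj (Coh.structureModule Y)))) := by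
    haveI : Mono (M2.tensorMap s (𝟙 ((Scheme.Modules.pushforward f).obj (Coh.structureModule Y))) ≫
        AmpleFin18.projHom f M (Coh.structureModule Y)) := by
      rw [projHom_natural]
      infer_instance
    exact mono_of_mono _ (AmpleFin18.projHom f M (Coh.structureModule Y))
  haveI : Mono (M2.tensorMap (𝟙 ((Scheme.Modules.pushforward f).obj (Coh.structureModule Y))) s ≫
      (M2.tensorComm _ _).hom) := by
    rw [M2.tensorComm_natural]
    infer_instance
  exact mono_of_mono _ (M2.tensorComm ((Scheme.Modules.pushforward f).obj (Coh.structureModule Y)) M).hom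

theorem tensorMap_id_push_eq_zero (f : Y ⟶ X) {M : X.Modules} (hM : PicF.IsInvertible M)
    (s : Coh.structureModule X ⟶ M) (hs : (Scheme.Modules.pullback f).map s = 0) :
    M2.tensorMap (𝟙 ((Scheme.Modules.pushforward f).obj (Coh.structureModule Y))) s = 0 := by
  have h0 : M2.tensorMap ((Scheme.Modules.pullback f).map s) (𝟙 (Coh.structureModule Y)) = 0 := by
    rw [hs]
    exact (M2.tensorR _).map_zero _ _
  haveI := AmpleFin18.isIso_projHom f M (Coh.structureModule Y) hM
  have h2 : M2.tensorMap s (𝟙 ((Scheme.Modules.pushforward f).obj (Coh.structureModule Y))) = 0 := by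
    rw [← cancel_mono (AmpleFin18.projHom f M (Coh.structureModule Y)), projHom_natural, h0, Functor.map_zero,
      comp_zero, zero_comp]
  rw [← cancel_mono (M2.tensorComm ((Scheme.Modules.pushforward f).obj (Coh.structureModule Y)) M).hom,
    M2.tensorComm_natural, h2, comp_zero, zero_comp]

/-- Multiplication by a section between the powers. -/
noncomputable def powMul {M : X.Modules} (s : Coh.structureModule X ⟶ M) (t : ℕ) :
    CohB1.tensorPow M t ⟶ CohB1.tensorPow M (t + 1) :=
  (M2.tensorLUnit _).inv ≫ M2.tensorMap s (𝟙 _) ≫ (M2.tensorComm M (CohB1.tensorPow M t)).hom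

theorem powMul_tensor (G : X.Modules) {M : X.Modules} (s : Coh.structureModule X ⟶ M) (t : ℕ) :
    M2.tensorMap (𝟙 G) (powMul s t) =
      M2.tensorMap (𝟙 G) (M2.tensorLUnit _).inv ≫ (M2.tensorAssoc _ _ _).inv ≫
        M2.tensorMap (M2.tensorMap (𝟙 G) s) (𝟙 _) ≫ (M2.tensorAssoc _ _ _).hom ≫
          M2.tensorMap (𝟙 G) (M2.tensorComm M (CohB1.tensorPow M t)).hom := by
  rw [reassoc_of% (M2.tensorAssoc_natural (𝟙 G) s (𝟙 (CohB1.tensorPow M t))), Iso.inv_hom_id_assoc,
    ← M2.tensorMap_comp, ← M2.tensorMap_comp, Category.comp_id, Category.comp_id]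
  rfl

theorem mono_powMul_tensor (f : Y ⟶ X) [IsClosedImmersion f] {M : X.Modules} (hM : PicF.IsInvertible M)
    (s : Coh.structureModule X ⟶ M) [Mono ((Scheme.Modules.pullback f).map s)] (t : ℕ) :
    Mono (M2.tensorMap (𝟙 ((Scheme.Modules.pushforward f).obj (Coh.structureModule Y))) (powMul s t)) := by
  haveI := mono_tensorMap_id_push f hM s
  haveI : Mono ((M2.tensorR (CohB1.tensorPow M t)).map
      (M2.tensorMap (𝟙 ((Scheme.Modules.pushforward f).obj (Coh.structureModule Y))) s)) :=
    (CurveCoh17.shortExact_tensorR (S := ShortComplex.mk _ (cokernel.π _) (cokernel.condition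
      (M2.tensorMap (𝟙 ((Scheme.Modules.pushforward f).obj (Coh.structureModule Y))) s)))
      { exact := ShortComplex.exact_cokernel _ } _ (flat_stalk (M2.isInvertible_tensorPow hM t))).mono_f
  haveI h : Mono (M2.tensorMap (M2.tensorMap (𝟙 ((Scheme.Modules.pushforward f).obj (Coh.structureModule Y))) s)
      (𝟙 (CohB1.tensorPow M t))) := this
  rw [powMul_tensor]
  haveI : IsIso (M2.tensorMap (𝟙 ((Scheme.Modules.pushforward f).obj (Coh.structureModule Y)))
      (M2.tensorLUnit (CohB1.tensorPow M t)).inv) :=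
    (M2.tensorIso (Iso.refl _) (M2.tensorLUnit (CohB1.tensorPow M t)).symm).isIso_hom
  haveI : IsIso (M2.tensorMap (𝟙 ((Scheme.Modules.pushforward f).obj (Coh.structureModule Y)))
      (M2.tensorComm M (CohB1.tensorPow M t)).hom) :=
    (M2.tensorIso (Iso.refl _) (M2.tensorComm M (CohB1.tensorPow M t))).isIso_hom
  infer_instance

theorem powMul_tensor_eq_zero (f : Y ⟶ X) {M : X.Modules} (hM : PicF.IsInvertible M)
    (s : Coh.structureModule X ⟶ M) (hs : (Scheme.Modules.pullback f).map s = 0) (t : ℕ) :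
    M2.tensorMap (𝟙 ((Scheme.Modules.pushforward f).obj (Coh.structureModule Y))) (powMul s t) = 0 := by
  rw [powMul_tensor, tensorMap_id_push_eq_zero f hM s hs]
  simp [show M2.tensorMap (0 : CohB1.tensorMod ((Scheme.Modules.pushforward f).obj (Coh.structureModule Y))
      (Coh.structureModule X) ⟶ CohB1.tensorMod ((Scheme.Modules.pushforward f).obj (Coh.structureModule Y)) M)
    (𝟙 (CohB1.tensorPow M t)) = 0 from (M2.tensorR _).map_zero _ _]

/-- The canonical map to the direct image of the structure sheaf. -/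
noncomputable def toPush (f : Y ⟶ X) : Coh.structureModule X ⟶ (Scheme.Modules.pushforward f).obj (Coh.structureModule Y) :=
  M1.secHom (M1.one (f ⁻¹ᵁ (⊤ : X.Opens)))

theorem toPush_app_one (f : Y ⟶ X) :
    (toPush f).app ⊤ (M1.one ⊤) = (M1.one (f ⁻¹ᵁ (⊤ : X.Opens)) : Γ(Coh.structureModule Y, _)) :=
  M1.secHom_app_one _

theorem toPush_comp {Z : Scheme.{u}} (g : Z ⟶ Y) (f : Y ⟶ X) :
    toPush f ≫ (Scheme.Modules.pushforward f).map (toPush g) ≫
      ((Scheme.Modules.pushforwardComp g f).app (Coh.structureModule Z)).hom = toPush (g ≫ f) := by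
  refine M1.unit_hom_ext ?_
  rw [M1.comp_app_apply, M1.comp_app_apply, toPush_app_one, toPush_app_one]
  exact toPush_app_one g

theorem toPush_ne_zero [Nonempty Y] (f : Y ⟶ X) : (toPush f).app ⊤ (M1.one ⊤) ≠ 0 := by
  rw [toPush_app_one]
  intro h
  haveI : Nonempty (⊤ : Y.Opens) := ⟨⟨Classical.arbitrary Y, trivial⟩⟩
  haveI : Nontrivial Γ(Y, ⊤) := inferInstance
  exact one_ne_zero (α := Γ(Y, ⊤)) h

variable (k : Type u) [Field k] [X.Over (Spec (CommRingCat.of k))] [IsProper (X ↘ Spec (CommRingCat.of k))]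

/-- The dimension of the space of sections restricted to a subscheme. -/
noncomputable def imDim (f : Y ⟶ X) (M : X.Modules) (t : ℕ) : ℕ :=
  Module.finrank k (LinearMap.range (hmap k (M2.tensorMap (toPush f) (𝟙 (CohB1.tensorPow M t))) 0))

theorem imDim_le {M : X.Modules} (hM : PicF.IsInvertible M) (f : Y ⟶ X) (t : ℕ) :
    imDim k f M t ≤ Module.finrank k (Coh.HH X (CohB1.tensorPow M t) 0) := by
  haveI : IsNoetherian X := CohFound.isNoetherian_of_isProper (X ↘ (Spec (CommRingCat.of k)))
  haveI := CohFound.finite_HH_of_isProper (A := k) _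
    (CurveCoh17.isCoh_tensor (M1.isCoh_structureModule X) (isCoh_of_isInvertible (M2.isInvertible_tensorPow hM t))) 0
  refine le_of_le_of_eq (LinearMap.finrank_range_le _) ?_
  exact (hequiv k (M2.tensorLUnit _) 0).finrank_eq

theorem one_le_imDim_zero [Nonempty Y] (f : Y ⟶ X) [IsClosedImmersion f] {M : X.Modules} :
    1 ≤ imDim k f M 0 := by
  haveI : IsNoetherian X := CohFound.isNoetherian_of_isProper (X ↘ (Spec (CommRingCat.of k)))
  haveI : IsLocallyNoetherian Y := LocallyOfFiniteType.isLocallyNoetherian f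
  haveI := CohFound.finite_HH_of_isProper (A := k) _
    (CurveCoh17.isCoh_tensor (CohFound.isCoh_push_closedImm f (M1.isCoh_structureModule Y))
      (M1.isCoh_structureModule X)) 0
  let ψ := hmap k (M2.tensorMap (toPush f) (𝟙 (Coh.structureModule X))) 0
  show 1 ≤ Module.finrank k (LinearMap.range ψ)
  let x := hequiv k (M2.tensorRUnit (Coh.structureModule X)).symm 0 ((hh0 _).symm (M1.one ⊤))
  have hne : ψ x ≠ 0 := by
    intro h
    have h1 := congrArg (fun z => (M2.tensorRUnit ((Scheme.Modules.pushforward f).obj (Coh.structureModule Y))).hom.app ⊤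
      (hh0 _ z)) h
    simp only [map_zero] at h1
    change (M2.tensorRUnit ((Scheme.Modules.pushforward f).obj (Coh.structureModule Y))).hom.app ⊤
      (hh0 _ (hmap k (M2.tensorMap (toPush f) (𝟙 (Coh.structureModule X))) 0
        (hmap k (M2.tensorRUnit (Coh.structureModule X)).inv 0 ((hh0 _).symm (M1.one ⊤))))) = 0 at h1
    rw [hh0_hmap, hh0_hmap, AddEquiv.apply_symm_apply, ← M1.comp_app_apply, ← M1.comp_app_apply,
      M2.tensorRUnit_natural, Iso.inv_hom_id_assoc] at h1
    exact toPush_ne_zero f h1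
  haveI : Nontrivial (LinearMap.range ψ) := ⟨⟨⟨ψ x, LinearMap.mem_range_self ψ x⟩, 0, fun e => hne (congrArg Subtype.val e)⟩⟩
  exact Module.finrank_pos

theorem hmap_injective_of_mono {M N : X.Modules} (φ : M ⟶ N) [Mono φ] : Function.Injective (hmap k φ 0) :=
  let S := ShortComplex.mk φ (cokernel.π φ) (cokernel.condition φ)
  have hS : S.ShortExact := { exact := ShortComplex.exact_cokernel φ }
  fun _ _ h => CurveCoh17.hmap_f_injective k (S := S) hS h

/-- Restricted maps: the linear algebra of one step. -/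
theorem finrank_range_step {A A' B B' C : Type u} [AddCommGroup A] [Module k A] [AddCommGroup A'] [Module k A']
    [AddCommGroup B] [Module k B] [AddCommGroup B'] [Module k B'] [FiniteDimensional k B'] [AddCommGroup C] [Module k C]
    (p : A →ₗ[k] B) (p' : A' →ₗ[k] B') (μ : B →ₗ[k] B') (r : B' →ₗ[k] C) (hμ : Function.Injective μ)
    (hsq : ∀ a, ∃ a', p' a' = μ (p a)) (hzero : ∀ b, r (μ b) = 0) :
    Module.finrank k (LinearMap.range p) + Module.finrank k (LinearMap.range (r.comp p')) ≤
      Module.finrank k (LinearMap.range p') := by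
  have hle : Submodule.map μ (LinearMap.range p) ≤
      Submodule.map (LinearMap.range p').subtype (LinearMap.ker (r.domRestrict (LinearMap.range p'))) := by
    rintro _ ⟨z, ⟨a, rfl⟩, rfl⟩
    obtain ⟨a', ha⟩ := hsq a
    refine ⟨⟨μ (p a), a', ha⟩, ?_, rfl⟩
    rw [SetLike.mem_coe, LinearMap.mem_ker, LinearMap.domRestrict_apply]
    exact hzero _
  have h1 := (Submodule.equivMapOfInjective μ hμ (LinearMap.range p)).finrank_eq
  have h2 := Submodule.finrank_mono hle
  rw [Submodule.finrank_map_subtype_eq] at h2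
  have h := LinearMap.finrank_range_add_finrank_ker (r.domRestrict (LinearMap.range p'))
  rw [LinearMap.range_domRestrict, ← LinearMap.range_comp] at h
  omega

/-- The restricted sections of consecutive powers. -/
theorem imDim_succ_ge {Z : Scheme.{u}} (f : Y ⟶ X) [IsClosedImmersion f] (g : Z ⟶ Y) [IsClosedImmersion g]
    {M : X.Modules} (hM : PicF.IsInvertible M) (s : Coh.structureModule X ⟶ M)
    [Mono ((Scheme.Modules.pullback f).map s)] (hs : (Scheme.Modules.pullback (g ≫ f)).map s = 0) (t : ℕ) :
    imDim k f M t + imDim k (g ≫ f) M (t + 1) ≤ imDim k f M (t + 1) := by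
  haveI : IsNoetherian X := CohFound.isNoetherian_of_isProper (X ↘ (Spec (CommRingCat.of k)))
  haveI : IsLocallyNoetherian Y := LocallyOfFiniteType.isLocallyNoetherian f
  haveI := CohFound.finite_HH_of_isProper (A := k) _
    (CurveCoh17.isCoh_tensor (CohFound.isCoh_push_closedImm f (M1.isCoh_structureModule Y))
      (isCoh_of_isInvertible (M2.isInvertible_tensorPow hM (t + 1)))) 0
  let r := (Scheme.Modules.pushforward f).map (toPush g) ≫
    ((Scheme.Modules.pushforwardComp g f).app (Coh.structureModule Z)).hom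
  haveI := mono_powMul_tensor f hM s t
  have hr : M2.tensorMap (toPush f) (𝟙 (CohB1.tensorPow M (t + 1))) ≫ M2.tensorMap r (𝟙 _) =
      M2.tensorMap (toPush (g ≫ f)) (𝟙 (CohB1.tensorPow M (t + 1))) := by
    rw [← M2.tensorMap_comp, Category.comp_id]
    exact congrArg (fun z => M2.tensorMap z _) (toPush_comp g f)
  have h := finrank_range_step k
    (hmap k (M2.tensorMap (toPush f) (𝟙 (CohB1.tensorPow M t))) 0)
    (hmap k (M2.tensorMap (toPush f) (𝟙 (CohB1.tensorPow M (t + 1)))) 0)
    (hmap k (M2.tensorMap (𝟙 ((Scheme.Modules.pushforward f).obj (Coh.structureModule Y))) (powMul s t)) 0)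
    (hmap k (M2.tensorMap r (𝟙 (CohB1.tensorPow M (t + 1)))) 0) (hmap_injective_of_mono k _)
    (fun a => ⟨hmap k (M2.tensorMap (𝟙 (Coh.structureModule X)) (powMul s t)) 0 a, by
      rw [← CurveCoh17.hmap_comp, ← CurveCoh17.hmap_comp, ← M2.tensorMap_comp, ← M2.tensorMap_comp]
      simp only [Category.id_comp, Category.comp_id]⟩)
    (fun b => by
      rw [← CurveCoh17.hmap_comp, ← M2.tensorMap_comp, Category.id_comp, Category.comp_id]
      have e : M2.tensorMap r (powMul s t) = M2.tensorMap r (𝟙 _) ≫
          M2.tensorMap (𝟙 ((Scheme.Modules.pushforward (g ≫ f)).obj (Coh.structureModule Z))) (powMul s t) := by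
        rw [← M2.tensorMap_comp, Category.id_comp, Category.comp_id]
      rw [e, powMul_tensor_eq_zero (g ≫ f) hM s hs t, comp_zero, CurveCoh17.hmap_zero])
  rw [show (hmap k (M2.tensorMap r (𝟙 (CohB1.tensorPow M (t + 1)))) 0).comp
      (hmap k (M2.tensorMap (toPush f) (𝟙 (CohB1.tensorPow M (t + 1)))) 0) =
      hmap k (M2.tensorMap (toPush (g ≫ f)) (𝟙 (CohB1.tensorPow M (t + 1)))) 0 from LinearMap.ext fun z => by
    rw [← hr, CurveCoh17.hmap_comp]; rfl] at h
  exact h

end Groth.Agent.NumPoly18
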