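import Groth.Agent.Lib.NumPoly18.Num
import Groth.Agent.Lib.RelAmple18.Generation
import Groth.Agent.Lib.AmpleImm18.Over

/-!
# Strictly nef modules
-/

set_option autoImplicit false
set_option linter.style.haveILetI false
set_option maxHeartbeats 800000
set_option backward.isDefEq.respectTransparency false

universe u

open CategoryTheory CategoryTheory.Limits AlgebraicGeometry TopologicalSpace Opposite

namespace Groth.Agent.NumPoly18

open Groth.Agent Groth.Agent.Snapper

variable {X : Scheme.{u}} (k : Type u) [Field k] [X.Over (Spec (CommRingCat.of k))]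
  [IsProper (X ↘ Spec (CommRingCat.of k))]

include k

/-- Positive degree on a curve gives an ample restriction. -/
theorem isAmple_pullback_of_cdeg_pos (C : X.IdealSheafData) [IsIntegral C.subscheme]
    (hC : topologicalKrullDim (C.support : Set X) = 1) {L : X.Modules} (hL : PicF.IsInvertible L)
    (h : 0 < cdeg k L (ClSub.quotMod C)) :
    CohB1.IsAmple ((Scheme.Modules.pullback C.subschemeι).obj L) := by
  letI : C.subscheme.Over (Spec (CommRingCat.of k)) := ⟨C.subschemeι ≫ (X ↘ (Spec (CommRingCat.of k)))⟩
  haveI : IsProper (C.subscheme ↘ (Spec (CommRingCat.of k))) :=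
    inferInstanceAs (IsProper (C.subschemeι ≫ (X ↘ (Spec (CommRingCat.of k)))))
  refine CurveAmple18.isAmple_of_deg_pos (k := k) ((AmpleFin18.dim_subscheme C rfl).trans hC).le
    (Twist.isInvertible_pullback _ hL) ?_
  rw [show ClSub.quotMod C = (Scheme.Modules.pushforward C.subschemeι).obj (Coh.structureModule C.subscheme) from rfl,
    cdeg_push C.subschemeι rfl hL] at h
  exact_mod_cast h

/-- An ample module has positive degree on curves. -/
theorem cdeg_pos_of_isAmple (C : X.IdealSheafData) [IsIntegral C.subscheme]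
    (hC : topologicalKrullDim (C.support : Set X) = 1) {L : X.Modules} (hA : CohB1.IsAmple L) :
    0 < cdeg k L (ClSub.quotMod C) := by
  letI : C.subscheme.Over (Spec (CommRingCat.of k)) := ⟨C.subschemeι ≫ (X ↘ (Spec (CommRingCat.of k)))⟩
  haveI : IsProper (C.subscheme ↘ (Spec (CommRingCat.of k))) :=
    inferInstanceAs (IsProper (C.subschemeι ≫ (X ↘ (Spec (CommRingCat.of k)))))
  rw [show ClSub.quotMod C = (Scheme.Modules.pushforward C.subschemeι).obj (Coh.structureModule C.subscheme) from rfl,
    cdeg_push C.subschemeι rfl hA.1]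
  exact_mod_cast CurveAmple18.deg_pos_of_isAmple (k := k) ((AmpleFin18.dim_subscheme C rfl).trans hC)
    (Amp.isAmple_pullback_of_isAffineHom C.subschemeι hA)

/-- Ample means strictly nef and semiample. -/
theorem isAmple_iff_strictlyNef_semiample {L : X.Modules} (hL : PicF.IsInvertible L) :
    CohB1.IsAmple L ↔
      ((∀ C : X.IdealSheafData, IsIntegral C.subscheme → topologicalKrullDim (C.support : Set X) = 1 →
        0 < cdeg k L (ClSub.quotMod C)) ∧ ∃ m : ℕ, Curv2.IsGloballyGenerated (CohB1.tensorPow L (m + 1))) := by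
  haveI : IsNoetherian X := CohFound.isNoetherian_of_isProper (X ↘ (Spec (CommRingCat.of k)))
  constructor
  · intro h
    refine ⟨fun C hC h1 => cdeg_pos_of_isAmple k C h1 h, ?_⟩
    obtain ⟨n₀, hn₀⟩ := RA.exists_globallyGenerated h (Coh.structureModule X) (M1.isQCoh_structureModule X)
      (M1.isCoh_structureModule X).2
    obtain ⟨ι, p, hp⟩ := hn₀ (n₀ + 1) (Nat.le_succ _)
    exact ⟨n₀, ι, p ≫ (M2.tensorLUnit _).hom, inferInstance⟩
  · rintro ⟨h, m, hm⟩
    have hP := M2.isInvertible_tensorPow hL (m + 1)
    refine (Amp.isAmple_tensorPow_iff hL m.succ_pos).1 (AmpleFin18.isAmple_of_gen_of_curves k hP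
      (fun x => RA.exists_gen_of_isGloballyGenerated hP hm x) fun C hC h1 => ?_)
    exact Amp.isAmple_of_iso (M2.pullTensorPowIso C.subschemeι L (m + 1)).symm
      ((Amp.isAmple_tensorPow_iff (Twist.isInvertible_pullback _ hL) m.succ_pos).2
        (isAmple_pullback_of_cdeg_pos k C h1 hL (h C hC h1)))

/-- Strictly nef with effective powers on every integral closed subscheme is ample. -/
theorem isAmple_of_strictlyNef_effective {L : X.Modules} (hL : PicF.IsInvertible L)
    (hnef : ∀ C : X.IdealSheafData, IsIntegral C.subscheme → topologicalKrullDim (C.support : Set X) = 1 →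
      0 < cdeg k L (ClSub.quotMod C))
    (heff : ∀ Z : X.IdealSheafData, IsIntegral Z.subscheme → ∃ (m : ℕ) (s : Coh.structureModule Z.subscheme ⟶
      CohB1.tensorPow ((Scheme.Modules.pullback Z.subschemeι).obj L) (m + 1)), s ≠ 0) :
    CohB1.IsAmple L := by
  haveI : IsNoetherian X := CohFound.isNoetherian_of_isProper (X ↘ (Spec (CommRingCat.of k)))
  have key : ∀ (d : ℕ) (Z : X.IdealSheafData), IsIntegral Z.subscheme → topologicalKrullDim Z.subscheme = (d : WithBot ℕ∞) →
      CohB1.IsAmple ((Scheme.Modules.pullback Z.subschemeι).obj L) := by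
    intro d
    induction d using Nat.strong_induction_on with
    | _ d IH =>
    intro Z hZ hd
    letI : Z.subscheme.Over (Spec (CommRingCat.of k)) := ⟨Z.subschemeι ≫ (X ↘ (Spec (CommRingCat.of k)))⟩
    haveI : IsProper (Z.subscheme ↘ (Spec (CommRingCat.of k))) :=
      inferInstanceAs (IsProper (Z.subschemeι ≫ (X ↘ (Spec (CommRingCat.of k)))))
    haveI : IsNoetherian Z.subscheme := CohFound.isNoetherian_of_isProper (Z.subscheme ↘ (Spec (CommRingCat.of k)))
    have hLZ := Twist.isInvertible_pullback Z.subschemeι hL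
    rcases Nat.eq_zero_or_pos d with rfl | hd0
    · haveI : IsAffine Z.subscheme := AmpleFin18.isAffine_of_dim_le_zero (by simpa using hd.le)
      exact AmpleFin18.isAmple_of_isAffine hLZ
    by_cases h1 : d = 1
    · subst h1
      have hd' : topologicalKrullDim (Z.support : Set X) = 1 := by
        rw [← AmpleFin18.dim_subscheme Z rfl]; simpa using hd
      exact isAmple_pullback_of_cdeg_pos k Z hd' hL (hnef Z hZ hd')
    obtain ⟨m, s, hs⟩ := heff Z hZ
    refine AmpleFin18.isAmple_of_section k hLZ (fun W i hi hW hr => ?_) (fun e => h1 ?_) m.succ_pos (Amp.gval s)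
      (CurveAmple18.gval_ne_zero hs)
    · haveI := hi
      haveI := hW
      have hη : genericPoint Z.subscheme ∉ Set.range i := fun hm => hr (Set.eq_univ_of_univ_subset (by
        rw [← genericPoint_closure Z.subscheme]
        exact closure_minimal (Set.singleton_subset_iff.2 hm) i.isClosedEmbedding.isClosed_range))
      obtain ⟨d', rfl⟩ : ∃ d', d = d' + 1 := ⟨d - 1, by omega⟩
      have hle : topologicalKrullDim (Set.range i) ≤ (d' : WithBot ℕ∞) :=
        dim_le_of_notMem (η := genericPoint Z.subscheme) i.isClosedEmbedding.isClosed_range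
          ((genericPoint_closure Z.subscheme).symm ▸ Set.subset_univ _) hη
          ((Topology.IsInducing.subtypeVal.topologicalKrullDim_le).trans hd.le)
      have hle' : topologicalKrullDim W ≤ (d' : WithBot ℕ∞) :=
        ((i.isEmbedding.toHomeomorph).isHomeomorph.topologicalKrullDim_eq _).trans_le hle
      let j := i ≫ Z.subschemeι
      obtain ⟨e, he⟩ := exists_iso_subscheme j
      haveI : Nonempty j.ker.subscheme := ⟨e.hom.base (Classical.arbitrary W)⟩
      haveI : IsIntegral j.ker.subscheme := isIntegral_of_isOpenImmersion e.inv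
      have hdim : topologicalKrullDim j.ker.subscheme = topologicalKrullDim W :=
        e.inv.isOpenEmbedding.isEmbedding.isInducing.topologicalKrullDim_le.antisymm
          e.hom.isOpenEmbedding.isEmbedding.isInducing.topologicalKrullDim_le
      haveI : Nonempty (IrreducibleCloseds W) :=
        ⟨⟨closure {Classical.arbitrary _}, isIrreducible_singleton.closure, isClosed_closure⟩⟩
      obtain ⟨c, hc⟩ := AmpleFin18.mem_natCast_or_top (topologicalKrullDim W) d' Order.krullDim_nonneg hle'
      have hcd : c ≤ d' := by exact_mod_cast hc ▸ hle'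
      have hamp := IH c (by omega) j.ker inferInstance (hdim.trans hc)
      rw [RA.isAmple_pullback_comp_iff]
      change CohB1.IsAmple ((Scheme.Modules.pullback j).obj L)
      refine AmpleFin18.isAmple_pullback_of_range_subset j j.ker ?_ hamp
      rw [← Scheme.IdealSheafData.range_subschemeι]
      rintro _ ⟨w, rfl⟩
      exact ⟨e.hom.base w, by rw [← Scheme.Hom.comp_apply, he]⟩
    · rw [hd] at e
      exact_mod_cast e
  refine AmpleFin18.isAmple_of_integral (X ↘ (Spec (CommRingCat.of k))) hL fun W i hi hW => ?_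
  haveI := hi
  haveI := hW
  obtain ⟨e, he⟩ := exists_iso_subscheme i
  haveI : Nonempty i.ker.subscheme := ⟨e.hom.base (Classical.arbitrary W)⟩
  haveI : IsIntegral i.ker.subscheme := isIntegral_of_isOpenImmersion e.inv
  letI : i.ker.subscheme.Over (Spec (CommRingCat.of k)) := ⟨i.ker.subschemeι ≫ (X ↘ (Spec (CommRingCat.of k)))⟩
  haveI : IsProper (i.ker.subscheme ↘ (Spec (CommRingCat.of k))) :=
    inferInstanceAs (IsProper (i.ker.subschemeι ≫ (X ↘ (Spec (CommRingCat.of k)))))
  obtain ⟨N, hN⟩ := Snapper.exists_dim_le k i.ker.subscheme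
  haveI : Nonempty (IrreducibleCloseds i.ker.subscheme) :=
    ⟨⟨closure {Classical.arbitrary _}, isIrreducible_singleton.closure, isClosed_closure⟩⟩
  obtain ⟨d, hd⟩ := AmpleFin18.mem_natCast_or_top (topologicalKrullDim i.ker.subscheme) N Order.krullDim_nonneg hN
  refine AmpleFin18.isAmple_pullback_of_range_subset i i.ker ?_ (key d i.ker inferInstance hd)
  rw [← Scheme.IdealSheafData.range_subschemeι]
  rintro _ ⟨w, rfl⟩
  exact ⟨e.hom.base w, by rw [← Scheme.Hom.comp_apply, he]⟩

/-- Degree is nonnegative for nef modules in dimension one. -/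
theorem deg_nonneg_of_nef_dim_one (hdim : topologicalKrullDim X ≤ 1) {L : X.Modules} (hL : PicF.IsInvertible L)
    (hnef : ∀ C : X.IdealSheafData, IsIntegral C.subscheme → topologicalKrullDim (C.support : Set X) = 1 →
      0 ≤ cdeg k L (ClSub.quotMod C)) :
    0 ≤ Curv2.deg k X L 1 := by
  haveI : IsNoetherian X := CohFound.isNoetherian_of_isProper (X ↘ (Spec (CommRingCat.of k)))
  have h : 0 ≤ cdeg k L (Coh.structureModule X) :=
    md_rel_of_integral k (fun a _ => 0 ≤ a) le_rfl (fun _ _ _ _ a b => add_nonneg a b)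
      (fun c _ _ hc a => mul_nonneg hc a) (L := fun _ : Fin 1 => L) (L' := fun _ : Fin 1 => L) (fun _ => hL)
      (fun _ => hL) (fun ξ hξ => hnef _ (isIntegral_pt ξ).1 (by
        rw [show ((ptIdeal ξ).support : Set X) = closure {ξ} from Scheme.IdealSheafData.coe_support_vanishingIdeal _]
        simpa using hξ))
      (M1.isCoh_structureModule X) (by simpa using (Topology.IsInducing.subtypeVal.topologicalKrullDim_le).trans hdim)
  rw [cdeg_eq, CurveCoh17.euler_iso (M2.tensorLUnit L)] at h
  rw [Curv2.deg, Nat.cast_one, one_mul]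
  exact_mod_cast h

end Groth.Agent.NumPoly18
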