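import Groth.Agent.Lib.NumPoly18.Apps
import Groth.Agent.Lib.Snapper.Hilb
import Groth.Agent.Lib.CohFound.RelVan
import Groth.Agent.Lib.CohGab13.Basic
import Mathlib.Algebra.Group.ForwardDiff

/-!
# Asymptotic Riemann–Roch
-/

set_option autoImplicit false
set_option linter.style.haveILetI false
set_option maxHeartbeats 800000
set_option backward.isDefEq.respectTransparency false

universe u

open CategoryTheory CategoryTheory.Limits AlgebraicGeometry TopologicalSpace Opposite

namespace Groth.Agent.NumPoly18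

open Groth.Agent Groth.Agent.Snapper
open scoped Nat

/-- The top forward difference of a polynomial of degree at most `d`. -/
theorem fwdDiff_iter_eval_zero {P : Polynomial ℚ} {d : ℕ} (hP : P.natDegree ≤ d) :
    ((fwdDiff (1 : ℚ))^[d]) P.eval 0 = (d ! : ℚ) * P.coeff d := by
  rcases hP.lt_or_eq with h | h
  · rw [Polynomial.fwdDiff_iter_eq_zero_of_degree_lt h, Polynomial.coeff_eq_zero_of_natDegree_lt h]
    simp
  · subst h
    rw [Polynomial.fwdDiff_iter_degree_eq_factorial]
    simp only [Pi.smul_apply, Pi.natCast_apply, smul_eq_mul, Polynomial.leadingCoeff]; ring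

/-- The mixed difference of a function of the total degree. -/
theorem mixedDiff_of_eval_sum {d : ℕ} (f : (Fin d → ℕ) → ℚ) (P : Polynomial ℚ) (hP : P.natDegree ≤ d)
    (hf : ∀ I : Finset (Fin d), f (ind I) = P.eval (I.card : ℚ)) :
    mixedDiff f = (d ! : ℚ) * P.coeff d := by
  rw [← fwdDiff_iter_eval_zero hP, fwdDiff_iter_eq_sum_shift, mixedDiff]
  simp only [hf]
  rw [← Finset.powerset_univ, Finset.sum_powerset_apply_card (fun j => (-1 : ℚ) ^ (d - j) * P.eval (j : ℚ))]
  simp only [Finset.card_univ, Fintype.card_fin, nsmul_eq_mul, zsmul_eq_mul, Nat.cast_ofNat]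
  refine Finset.sum_congr rfl fun j _ => ?_
  push_cast
  simp
  ring

variable {X : Scheme.{u}}

/-- Powers of one module. -/
theorem nonempty_multiTwist_const (L : X.Modules) : ∀ {d : ℕ} (n : Fin d → ℕ),
    Nonempty (FGA.multiTwist (fun _ : Fin d => L) n ≅ CohB1.tensorPow L (∑ i, n i))
  | 0, n => ⟨eqToIso (by simp [FGA.multiTwist, FGA.tensorList]; rfl)⟩
  | d + 1, n => by
    obtain ⟨e⟩ := Snapper.nonempty_multiTwist_cons L (fun _ : Fin d => L) (n 0) (Fin.tail n)
    obtain ⟨e'⟩ := nonempty_multiTwist_const L (Fin.tail n)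
    rw [Fin.cons_self_tail, show (Fin.cons L (fun _ : Fin d => L) : Fin (d + 1) → X.Modules) = fun _ => L from
      funext fun i => Fin.cases (by simp) (fun j => by simp) i] at e
    rw [Fin.sum_univ_succ]
    exact ⟨e ≪≫ M2.tensorIso (Iso.refl _) e' ≪≫ (M2.tensorPowAdd L _ _).symm⟩

variable {k : Type u} [Field k] [X.Over (Spec (CommRingCat.of k))] [IsProper (X ↘ Spec (CommRingCat.of k))]

variable (k) in
/-- Asymptotic Riemann–Roch for an ample module. -/
theorem asymptotic_rr {d : ℕ} (hX : topologicalKrullDim X = (d : WithBot ℕ∞)) {L : X.Modules}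
    (hL : CohB1.IsAmple L) :
    0 < mixedDiff (chi k (fun _ : Fin d => L) (Coh.structureModule X)) ∧
      ∃ C : ℚ, ∀ n : ℕ,
        |(Module.finrank k (Coh.HH X (CohB1.tensorPow L n) 0) : ℚ) -
            mixedDiff (chi k (fun _ : Fin d => L) (Coh.structureModule X)) / (d ! : ℚ) * (n : ℚ) ^ d| ≤
          C * ((n : ℚ) + 1) ^ (d - 1) := by
  haveI : IsNoetherian X := CohFound.isNoetherian_of_isProper (X ↘ (Spec (CommRingCat.of k)))
  have hO : Coh.IsCoh (Coh.structureModule X) := M1.isCoh_structureModule X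
  have hsupp : topologicalKrullDim (CohB1.support (Coh.structureModule X)) = (d : WithBot ℕ∞) := by
    rw [Set.eq_univ_of_forall (CohGab13.mem_support_structureModule (X := X)), ← hX]
    exact IsHomeomorph.topologicalKrullDim_eq _ (Homeomorph.Set.univ X).isHomeomorph
  obtain ⟨Q, hQ, hQd, hQp⟩ := exists_isHilbPoly_dim k hL.1 hO hsupp.le
  have hQpos := (hQp hL).2 hsupp
  have hmd : mixedDiff (chi k (fun _ : Fin d => L) (Coh.structureModule X)) = (d ! : ℚ) * Q.coeff d := by
    refine mixedDiff_of_eval_sum _ Q hQd fun I => ?_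
    obtain ⟨e⟩ := nonempty_multiTwist_const L (ind I)
    rw [chi, ← hQ I.card, show (∑ i, ind I i) = I.card from by
      simp [ind, Finset.filter_mem_eq_inter]] at *
    rw [CurveCoh17.euler_iso (M2.tensorIso (Iso.refl _) e)]
    rfl
  have hfac : (0 : ℚ) < (d ! : ℚ) := by exact_mod_cast d.factorial_pos
  rw [hmd, mul_div_cancel_left₀ _ hfac.ne']
  refine ⟨mul_pos hfac hQpos, ?_⟩
  obtain ⟨n₀, hn₀⟩ := CohFound.exists_vanishing_all (X ↘ Spec (CommRingCat.of k)) hL hO
  have hlarge : ∀ n, n₀ ≤ n → (Module.finrank k (Coh.HH X (CohB1.tensorPow L n) 0) : ℚ) = Q.eval (n : ℚ) := by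
    intro n hn
    rw [← hQ n]
    have e : ShStab.twist X L (Coh.structureModule X) n ≅ CohB1.tensorPow L n := M2.tensorLUnit _
    rw [CurveCoh17.euler_iso e, Curv2.euler, finsum_eq_single _ 0 fun p hp => by
      haveI : Subsingleton (Coh.HH X (CohB1.tensorPow L n) p) := (CohFound.subsingleton_HH_iff _ p).2
        (CohFound.subsingleton_hc_of_iso (M2.tensorLUnit _) p _ (hn₀ n hn p (Nat.pos_of_ne_zero hp)))
      simp [Module.finrank_zero_of_subsingleton]]
    simp
  let D : ℕ → ℚ := fun n =>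
    |(Module.finrank k (Coh.HH X (CohB1.tensorPow L n) 0) : ℚ) - Q.coeff d * (n : ℚ) ^ d|
  refine ⟨(∑ i ∈ Finset.range d, |Q.coeff i|) + ∑ n ∈ Finset.range n₀, D n, fun n => ?_⟩
  have h1 : (1 : ℚ) ≤ (n : ℚ) + 1 := by simp
  have hpow : (1 : ℚ) ≤ ((n : ℚ) + 1) ^ (d - 1) := one_le_pow₀ h1
  have hA : 0 ≤ ∑ i ∈ Finset.range d, |Q.coeff i| := Finset.sum_nonneg fun i _ => abs_nonneg _
  have hB : 0 ≤ ∑ n ∈ Finset.range n₀, D n := Finset.sum_nonneg fun i _ => abs_nonneg _
  rw [add_mul]
  rcases Nat.lt_or_ge n n₀ with hn | hn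
  · refine le_trans ?_ (le_add_of_nonneg_left (mul_nonneg hA (zero_le_one.trans hpow)))
    exact (Finset.single_le_sum (f := D) (fun i _ => abs_nonneg _) (Finset.mem_range.2 hn)).trans
      (le_mul_of_one_le_right hB hpow)
  · refine le_trans ?_ (le_add_of_nonneg_right (mul_nonneg hB (zero_le_one.trans hpow)))
    rw [hlarge n hn, Polynomial.eval_eq_sum_range' (Nat.lt_succ_of_le hQd), Finset.sum_range_succ,
      add_sub_cancel_right, Finset.sum_mul]
    refine (Finset.abs_sum_le_sum_abs _ _).trans (Finset.sum_le_sum fun i hi => ?_)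
    rw [abs_mul]
    refine mul_le_mul_of_nonneg_left ?_ (abs_nonneg _)
    rw [abs_of_nonneg (by positivity)]
    exact (pow_le_pow_left₀ (Nat.cast_nonneg n) (by simp) i).trans
      (pow_le_pow_right₀ h1 (by have := Finset.mem_range.1 hi; omega))

end Groth.Agent.NumPoly18
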