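import Groth.Agent.Lib.AmpleFin18.Nakai
import Groth.Agent.Lib.NumPoly18.RR
import Mathlib.Analysis.Polynomial.Basic

/-!
# The Nakai criterion
-/

set_option autoImplicit false
set_option linter.style.haveILetI false
set_option maxHeartbeats 1000000
set_option backward.isDefEq.respectTransparency false

universe u

open CategoryTheory CategoryTheory.Limits AlgebraicGeometry TopologicalSpace Opposite Filter

namespace Groth.Agent.NumPoly18

open Groth.Agent Groth.Agent.Snapper

variable {X : Scheme.{u}} {k : Type u} [Field k] [X.Over (Spec (CommRingCat.of k))]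

/-- Projection formula for the twisted Euler characteristics. -/
theorem chi_push {C : Scheme.{u}} [C.Over (Spec (CommRingCat.of k))] (i : C ⟶ X) [IsAffineHom i]
    (hi : i ≫ (X ↘ Spec (CommRingCat.of k)) = C ↘ Spec (CommRingCat.of k)) {r : ℕ} {L : Fin r → X.Modules}
    (hL : ∀ j, PicF.IsInvertible (L j)) (F : C.Modules) (hF : Coh.IsQCoh F) (n : Fin r → ℕ) :
    chi k L ((Scheme.Modules.pushforward i).obj F) n = chi k (fun j => (Scheme.Modules.pullback i).obj (L j)) F n := by
  have hT := isInvertible_multiTwist hL n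
  haveI := AmpleFin18.isIso_projHom_of_ofRank i (FGA.multiTwist L n) F
    ((M2.isInvertible_iff_isFinLocFreeOfRank_one _).1 hT)
  obtain ⟨e₁⟩ := nonempty_tensorPows_iso (Coh.structureModule X) r L n
  obtain ⟨e₂⟩ := nonempty_pullback_tensorPows i (Coh.structureModule X) r L n
  obtain ⟨a⟩ := nonempty_tensorPows_iso ((Scheme.Modules.pullback i).obj (Coh.structureModule X)) r
    (fun j => (Scheme.Modules.pullback i).obj (L j)) n
  let e : (Scheme.Modules.pullback i).obj (FGA.multiTwist L n) ≅
      FGA.multiTwist (fun j => (Scheme.Modules.pullback i).obj (L j)) n :=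
    (Scheme.Modules.pullback i).mapIso ((M2.tensorLUnit _).symm ≪≫ e₁.symm) ≪≫ e₂ ≪≫ a ≪≫
      M2.tensorIso (Twist.pullbackUnitIso i) (Iso.refl _) ≪≫ M2.tensorLUnit _
  have hQ : Coh.IsQCoh (CohB1.tensorMod ((Scheme.Modules.pullback i).obj (FGA.multiTwist L n)) F) :=
    M2.isQCoh_tensor (M1.isQCoh_pullback i (isCoh_of_isInvertible hT).1) hF
  rw [chi, chi, CurveCoh17.euler_iso (M2.tensorComm _ _ ≪≫ asIso (AmpleFin18.projHom i (FGA.multiTwist L n) F)),
    AmpleFin18.euler_push i hi _ hQ, CurveCoh17.euler_iso (M2.tensorIso e (Iso.refl F) ≪≫ M2.tensorComm _ _)]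

/-- An isomorphism pushes the structure sheaf to the structure sheaf. -/
theorem nonempty_push_unit_of_isIso {Z W : Scheme.{u}} (e : Z ⟶ W) [IsIso e] :
    Nonempty ((Scheme.Modules.pushforward e).obj (Coh.structureModule Z) ≅ Coh.structureModule W) := by
  haveI := M1.isIso_unit_of_ker_smul e (Coh.structureModule W) (M1.isQCoh_structureModule W) fun U a ha s => by
    rw [Scheme.Hom.ker_apply, RingHom.mem_ker] at ha
    have h0 : a = 0 := (ConcreteCategory.bijective_of_isIso (e.app U.1)).1 (ha.trans (map_zero _).symm)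
    rw [h0, zero_smul]
  exact ⟨((asIso ((Scheme.Modules.pullbackPushforwardAdjunction e).unit.app (Coh.structureModule W))) ≪≫
    (Scheme.Modules.pushforward e).mapIso (Twist.pullbackUnitIso e)).symm⟩

/-- A closed subscheme is the one cut out by its ideal. -/
theorem exists_iso_subscheme {Z : Scheme.{u}} (i : Z ⟶ X) [IsClosedImmersion i] :
    ∃ e : Z ≅ i.ker.subscheme, e.hom ≫ i.ker.subschemeι = i := by
  let a := IsClosedImmersion.lift i.ker.subschemeι i (le_of_eq (Scheme.IdealSheafData.ker_subschemeι _))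
  let b := IsClosedImmersion.lift i i.ker.subschemeι (le_of_eq (Scheme.IdealSheafData.ker_subschemeι _).symm)
  have ha : a ≫ i.ker.subschemeι = i := IsClosedImmersion.lift_fac _ _ _
  have hb : b ≫ i = i.ker.subschemeι := IsClosedImmersion.lift_fac _ _ _
  refine ⟨⟨a, b, ?_, ?_⟩, ha⟩
  · rw [← cancel_mono i, Category.assoc, hb, ha, Category.id_comp]
  · rw [← cancel_mono i.ker.subschemeι, Category.assoc, ha, hb, Category.id_comp]

theorem nonempty_quotMod_ker {Z : Scheme.{u}} (i : Z ⟶ X) [IsClosedImmersion i] :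
    Nonempty (ClSub.quotMod i.ker ≅ (Scheme.Modules.pushforward i).obj (Coh.structureModule Z)) := by
  obtain ⟨e, he⟩ := exists_iso_subscheme i
  obtain ⟨u⟩ := nonempty_push_unit_of_isIso e.hom
  exact ⟨(Scheme.Modules.pushforward i.ker.subschemeι).mapIso u.symm ≪≫
    (Scheme.Modules.pushforwardComp e.hom i.ker.subschemeι).app _ ≪≫
    (Scheme.Modules.pushforwardCongr he).app _⟩

variable (k) in
/-- Positivity of the self intersection on every integral closed subscheme of positive dimension. -/
def NakaiPos (X : Scheme.{u}) [X.Over (Spec (CommRingCat.of k))] (L : X.Modules) : Prop :=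
  ∀ (Z : Scheme.{u}) (i : Z ⟶ X), IsClosedImmersion i → IsIntegral Z → ∀ d : ℕ, 0 < d →
    topologicalKrullDim Z = (d : WithBot ℕ∞) →
      0 < mixedDiff (chi k (fun _ : Fin d => L) ((Scheme.Modules.pushforward i).obj (Coh.structureModule Z)))

theorem NakaiPos.pullback {Y : Scheme.{u}} [Y.Over (Spec (CommRingCat.of k))] (j : Y ⟶ X) [IsClosedImmersion j]
    (hj : j ≫ (X ↘ Spec (CommRingCat.of k)) = Y ↘ Spec (CommRingCat.of k)) [IsLocallyNoetherian X]
    {L : X.Modules} (hL : PicF.IsInvertible L) (h : NakaiPos k X L) :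
    NakaiPos k Y ((Scheme.Modules.pullback j).obj L) := by
  intro Z i hi hZ d hd hZd
  haveI := hi
  have h0 := h Z (i ≫ j) inferInstance hZ d hd hZd
  have hQ : Coh.IsQCoh ((Scheme.Modules.pushforward i).obj (Coh.structureModule Z)) :=
    M1.isQCoh_push i (M1.isQCoh_structureModule Z)
  refine lt_of_lt_of_eq h0 (congrArg mixedDiff (funext fun n => ?_))
  rw [← chi_push j hj (fun _ => hL) _ hQ n]
  exact (chi_iso _ ((Scheme.Modules.pushforwardComp i j).app _) n).symm

variable [IsProper (X ↘ Spec (CommRingCat.of k))]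

variable (k) in
/-- The self intersection is the leading coefficient of the Hilbert polynomial. -/
theorem exists_poly_self {d : ℕ} (hX : topologicalKrullDim X = (d : WithBot ℕ∞)) {L : X.Modules}
    (hL : PicF.IsInvertible L) :
    ∃ Q : Polynomial ℚ, Q.natDegree ≤ d ∧
      (∀ m : ℕ, (Curv2.euler k X (CohB1.tensorPow L m) : ℚ) = Q.eval (m : ℚ)) ∧
      mixedDiff (chi k (fun _ : Fin d => L) (Coh.structureModule X)) = (d.factorial : ℚ) * Q.coeff d := by
  have hO : Coh.IsCoh (Coh.structureModule X) := by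
    haveI : IsNoetherian X := CohFound.isNoetherian_of_isProper (X ↘ (Spec (CommRingCat.of k)))
    exact M1.isCoh_structureModule X
  obtain ⟨Q, hQ, hQd, -⟩ := exists_isHilbPoly_dim k hL hO
    ((Topology.IsInducing.subtypeVal.topologicalKrullDim_le).trans hX.le)
  have hQ' : ∀ m : ℕ, (Curv2.euler k X (CohB1.tensorPow L m) : ℚ) = Q.eval (m : ℚ) := fun m => by
    rw [← hQ m, ShStab.twist, CurveCoh17.euler_iso (M2.tensorLUnit _)]
  refine ⟨Q, hQd, hQ', mixedDiff_of_eval_sum _ Q hQd fun I => ?_⟩
  obtain ⟨e⟩ := nonempty_multiTwist_const L (ind I)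
  rw [show (∑ i, ind I i) = I.card from by simp [ind, Finset.filter_mem_eq_inter]] at e
  rw [← hQ' I.card, chi, CurveCoh17.euler_iso (M2.tensorLUnit _ ≪≫ e)]

variable (k) in
/-- The Nakai criterion for integral schemes, by induction on the dimension. -/
theorem isAmple_of_nakaiPos_integral : ∀ (d : ℕ) (Y : Scheme.{u}) [Y.Over (Spec (CommRingCat.of k))]
    [IsProper (Y ↘ Spec (CommRingCat.of k))] [IsIntegral Y] (L : Y.Modules),
    topologicalKrullDim Y = (d : WithBot ℕ∞) → PicF.IsInvertible L → NakaiPos k Y L → CohB1.IsAmple L := by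
  intro d
  induction d using Nat.strong_induction_on with
  | _ d IH =>
  intro Y _ _ _ L hd hL h
  haveI : IsNoetherian Y := CohFound.isNoetherian_of_isProper (Y ↘ (Spec (CommRingCat.of k)))
  rcases Nat.eq_zero_or_pos d with rfl | hd0
  · haveI : IsAffine Y := AmpleFin18.isAffine_of_dim_le_zero (by simpa using hd.le)
    exact AmpleFin18.isAmple_of_isAffine hL
  obtain ⟨Q, hQd, hQ, hc⟩ := exists_poly_self k hd hL
  have hpos : 0 < mixedDiff (chi k (fun _ : Fin d => L) (Coh.structureModule Y)) := by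
    refine lt_of_lt_of_eq (h Y (𝟙 Y) inferInstance inferInstance d hd0 hd) (congrArg mixedDiff (funext fun n => ?_))
    exact chi_iso _ (nonempty_push_unit_of_isIso (𝟙 Y)).some n
  rw [hc] at hpos
  have hcoef : 0 < Q.coeff d := pos_of_mul_pos_right hpos (Nat.cast_nonneg _)
  have hdeg : Q.natDegree = d := le_antisymm hQd (Polynomial.le_natDegree_of_ne_zero hcoef.ne')
  by_cases h1 : d = 1
  · subst h1
    have hd' : topologicalKrullDim Y = 1 := by simpa using hd
    refine CurveAmple18.isAmple_of_deg_pos (k := k) hd'.le hL ?_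
    have e0 : Curv2.euler k Y (CohB1.tensorPow L 0) = Curv2.euler k Y (Coh.structureModule Y) := rfl
    have e1 : Curv2.euler k Y (CohB1.tensorPow L 1) = Curv2.euler k Y L :=
      CurveCoh17.euler_iso (M2.tensorPowOne L)
    have a0 := hQ 0
    have a1 := hQ 1
    rw [Polynomial.eval_eq_sum_range' (Nat.lt_succ_of_le hQd)] at a0 a1
    simp only [e0, e1, Finset.sum_range_succ, Finset.sum_range_zero] at a0 a1
    push_cast at a0 a1
    simp only [pow_zero, pow_one, mul_one, mul_zero, zero_add, add_zero] at a0 a1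
    have : (0 : ℚ) < (Curv2.deg k Y L 1 : ℚ) := by
      rw [Curv2.deg]
      push_cast
      linarith
    exact_mod_cast this
  refine AmpleFin18.isAmple_of_tendsto k hL (fun Z i hi hZ hr => ?_) (fun e => h1 ?_) ?_
  · haveI := hi
    letI : Z.Over (Spec (CommRingCat.of k)) := ⟨i ≫ (Y ↘ (Spec (CommRingCat.of k)))⟩
    haveI : IsProper (Z ↘ (Spec (CommRingCat.of k))) :=
      inferInstanceAs (IsProper (i ≫ (Y ↘ (Spec (CommRingCat.of k)))))
    haveI := hZ
    have hη : genericPoint Y ∉ Set.range i := fun hm => hr (Set.eq_univ_of_univ_subset (by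
      rw [← genericPoint_closure Y]
      exact closure_minimal (Set.singleton_subset_iff.2 hm) i.isClosedEmbedding.isClosed_range))
    obtain ⟨d', hd'⟩ : ∃ d', d = d' + 1 := ⟨d - 1, by omega⟩
    have hle : topologicalKrullDim (Set.range i) ≤ (d' : WithBot ℕ∞) :=
      dim_le_of_notMem (η := genericPoint Y) i.isClosedEmbedding.isClosed_range
        ((genericPoint_closure Y).symm ▸ Set.subset_univ _) hη
        ((Topology.IsInducing.subtypeVal.topologicalKrullDim_le).trans (hd.le.trans_eq (by rw [hd'])))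
    have hle' : topologicalKrullDim Z ≤ (d' : WithBot ℕ∞) :=
      ((i.isEmbedding.toHomeomorph).isHomeomorph.topologicalKrullDim_eq _).trans_le hle
    haveI : Nonempty (IrreducibleCloseds Z) :=
      ⟨⟨closure {Classical.arbitrary _}, isIrreducible_singleton.closure, isClosed_closure⟩⟩
    obtain ⟨e, he⟩ := AmpleFin18.mem_natCast_or_top (topologicalKrullDim Z) d' Order.krullDim_nonneg hle'
    have hed : e ≤ d' := by exact_mod_cast he ▸ hle'
    exact IH e (by omega) Z _ he (Twist.isInvertible_pullback i hL) (NakaiPos.pullback i rfl hL h)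
  · rw [hd] at e
    exact_mod_cast e
  · have h0 : 0 < Q.degree := Polynomial.natDegree_pos_iff_degree_pos.1 (hdeg.symm ▸ hd0)
    have hl : 0 ≤ Q.leadingCoeff := by rw [Polynomial.leadingCoeff, hdeg]; exact hcoef.le
    refine ((Polynomial.tendsto_atTop_of_leadingCoeff_nonneg Q h0 hl).comp tendsto_natCast_atTop_atTop).congr
      fun n => (hQ n).symm

/-- The Nakai criterion. -/
theorem isAmple_iff_nakaiPos {L : X.Modules} (hL : PicF.IsInvertible L) :
    CohB1.IsAmple L ↔ NakaiPos k X L := by
  haveI : IsNoetherian X := CohFound.isNoetherian_of_isProper (X ↘ (Spec (CommRingCat.of k)))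
  refine ⟨fun hA Z i hi hZ d _ hZd => ?_, fun h => AmpleFin18.isAmple_of_integral
    (X ↘ (Spec (CommRingCat.of k))) hL fun Z i hi hZ => ?_⟩
  all_goals
    haveI := hi
    letI : Z.Over (Spec (CommRingCat.of k)) := ⟨i ≫ (X ↘ (Spec (CommRingCat.of k)))⟩
    haveI : IsProper (Z ↘ (Spec (CommRingCat.of k))) :=
      inferInstanceAs (IsProper (i ≫ (X ↘ (Spec (CommRingCat.of k)))))
    haveI := hZ
  · refine lt_of_lt_of_eq (asymptotic_rr k hZd (Amp.isAmple_pullback_of_isAffineHom i hA)).1
      (congrArg mixedDiff (funext fun n => ?_))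
    exact (chi_push i rfl (fun _ => hL) _ (M1.isQCoh_structureModule Z) n).symm
  · obtain ⟨N, hN⟩ := Snapper.exists_dim_le k Z
    haveI : Nonempty (IrreducibleCloseds Z) :=
      ⟨⟨closure {Classical.arbitrary _}, isIrreducible_singleton.closure, isClosed_closure⟩⟩
    obtain ⟨d, hd⟩ := AmpleFin18.mem_natCast_or_top (topologicalKrullDim Z) N Order.krullDim_nonneg hN
    exact isAmple_of_nakaiPos_integral k d Z _ hd (Twist.isInvertible_pullback i hL) (NakaiPos.pullback i rfl hL h)

end Groth.Agent.NumPoly18
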