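import Groth.Agent.Lib.NumPoly18.StrictNef

/-!
# Intersection numbers on surfaces
-/

set_option autoImplicit false
set_option linter.style.haveILetI false
set_option maxHeartbeats 800000
set_option backward.isDefEq.respectTransparency false

universe u

open CategoryTheory CategoryTheory.Limits AlgebraicGeometry TopologicalSpace Opposite

namespace Groth.Agent.NumPoly18

open Groth.Agent Groth.Agent.Snapper

variable {X : Scheme.{u}} {k : Type u} [Field k] [X.Over (Spec (CommRingCat.of k))]
  [IsProper (X ↘ Spec (CommRingCat.of k))] {r : ℕ}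

theorem md_cons_unit (M : Fin r → X.Modules) (F : X.Modules) :
    md k (Fin.cons (Coh.structureModule X) M : Fin (r + 1) → X.Modules) F = 0 := by
  rw [md_cons, md_iso M (M2.tensorRUnit F), sub_self]

/-- An inverse in the first slot changes the sign. -/
theorem md_cons_inverse {A A' : X.Modules} (hA : PicF.IsInvertible A) (hA' : PicF.IsInvertible A')
    (e : CohB1.tensorMod A A' ≅ Coh.structureModule X) {M : Fin r → X.Modules} (hM : ∀ i, PicF.IsInvertible (M i))
    {F : X.Modules} (hF : Coh.IsCoh F) (hr : topologicalKrullDim (CohB1.support F) ≤ ((r + 1 : ℕ) : WithBot ℕ∞)) :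
    md k (Fin.cons A' M : Fin (r + 1) → X.Modules) F = - md k (Fin.cons A M : Fin (r + 1) → X.Modules) F := by
  have h := md_cons_tensor (k := k) hA hA' hM hF hr
  rw [md_cons (CohB1.tensorMod A A'), md_iso M (M2.tensorIso (Iso.refl F) e ≪≫ M2.tensorRUnit F), sub_self] at h
  linarith

/-- Powers in the first slot. -/
theorem md_cons_pow {A : X.Modules} (hA : PicF.IsInvertible A) {M : Fin r → X.Modules}
    (hM : ∀ i, PicF.IsInvertible (M i)) {F : X.Modules} (hF : Coh.IsCoh F)
    (hr : topologicalKrullDim (CohB1.support F) ≤ ((r + 1 : ℕ) : WithBot ℕ∞)) : ∀ n : ℕ,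
    md k (Fin.cons (CohB1.tensorPow A n) M : Fin (r + 1) → X.Modules) F =
      n * md k (Fin.cons A M : Fin (r + 1) → X.Modules) F
  | 0 => by
    rw [show CohB1.tensorPow A 0 = Coh.structureModule X from rfl, md_cons_unit, Nat.cast_zero, zero_mul]
  | n + 1 => by
    rw [show CohB1.tensorPow A (n + 1) = CohB1.tensorMod (CohB1.tensorPow A n) A from rfl,
      md_cons_tensor (M2.isInvertible_tensorPow hA n) hA hM hF hr, md_cons_pow hA hM hF hr n]
    push_cast
    ring

/-- The intersection with the module of a section is the intersection on its cokernel. -/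
theorem md_cons_of_section {A : X.Modules} (hA : PicF.IsInvertible A) (φ : Coh.structureModule X ⟶ A) [Mono φ]
    {M : Fin r → X.Modules} (hM : ∀ i, PicF.IsInvertible (M i)) :
    md k (Fin.cons A M : Fin (r + 1) → X.Modules) (Coh.structureModule X) = md k M (cokernel φ) := by
  haveI : IsNoetherian X := CohFound.isNoetherian_of_isProper (X ↘ (Spec (CommRingCat.of k)))
  have hO : Coh.IsCoh (Coh.structureModule X) := M1.isCoh_structureModule X
  have hA' := isCoh_of_isInvertible hA
  rw [md_cons, md_iso M (M2.tensorLUnit A),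
    md_shortExact (k := k) hM (S := ShortComplex.mk φ (cokernel.π φ) (cokernel.condition _))
      { exact := ShortComplex.exact_cokernel φ } hO hA' (M1.isCoh_cokernel hO.1 hA' φ)]
  simp

/-- An ample module is positive on one-dimensional coherent modules. -/
theorem cdeg_pos_of_dim_one {H : X.Modules} (hH : CohB1.IsAmple H) {F : X.Modules} (hF : Coh.IsCoh F)
    (hd : topologicalKrullDim (CohB1.support F) = 1) : 0 < cdeg k H F := by
  have hd' : topologicalKrullDim (CohB1.support F) = ((1 : ℕ) : WithBot ℕ∞) := by simpa using hd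
  obtain ⟨P, hP, hPd, hPp⟩ := exists_isHilbPoly_dim k hH.1 hF hd'.le
  have hpos := (hPp hH).2 hd'
  have h0 := hP 0
  have h1 := hP 1
  simp only [ShStab.twist] at h0 h1
  rw [CurveCoh17.euler_iso (show CohB1.tensorMod F (CohB1.tensorPow H 0) ≅ F from M2.tensorRUnit F)] at h0
  rw [CurveCoh17.euler_iso (M2.tensorIso (Iso.refl F) (M2.tensorPowOne H))] at h1
  rw [Polynomial.eval_eq_sum_range' (Nat.lt_succ_of_le hPd)] at h0 h1
  simp only [Finset.sum_range_succ, Finset.sum_range_zero] at h0 h1
  push_cast at h0 h1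
  simp only [pow_zero, pow_one, mul_one, mul_zero, zero_add, add_zero] at h0 h1
  rw [cdeg_eq]
  linarith

theorem vec2_eq_cons (A B : X.Modules) : (![A, B] : Fin 2 → X.Modules) = Fin.cons A (fun _ : Fin 1 => B) :=
  funext fun i => by fin_cases i <;> rfl

/-- A big effective module is positive on ample modules. -/
theorem intNum_ample_pos_of_section [IsIntegral X] (hd : topologicalKrullDim X ≤ ((2 : ℕ) : WithBot ℕ∞))
    {N N' : X.Modules} (hN : PicF.IsInvertible N) (hN' : PicF.IsInvertible N')
    (e : CohB1.tensorMod N N' ≅ Coh.structureModule X)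
    (hpos : 0 < FGA.intNum k X 2 ![N', N'] (Coh.structureModule X)) {n : ℕ} (hn : 0 < n)
    (s : Γ(CohB1.tensorPow N n, (⊤ : X.Opens))) (hs : s ≠ 0) {H H' : X.Modules} (hH : CohB1.IsAmple H)
    (hH' : PicF.IsInvertible H') (e' : CohB1.tensorMod H H' ≅ Coh.structureModule X) :
    0 < FGA.intNum k X 2 ![N', H'] (Coh.structureModule X) := by
  haveI : IsNoetherian X := CohFound.isNoetherian_of_isProper (X ↘ (Spec (CommRingCat.of k)))
  have hO : Coh.IsCoh (Coh.structureModule X) := M1.isCoh_structureModule X
  have hsupp : topologicalKrullDim (CohB1.support (Coh.structureModule X)) ≤ ((2 : ℕ) : WithBot ℕ∞) :=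
    (Topology.IsInducing.subtypeVal.topologicalKrullDim_le).trans hd
  have hM2 : ∀ {A B : X.Modules}, PicF.IsInvertible A → PicF.IsInvertible B →
      (FGA.intNum k X 2 ![A, B] (Coh.structureModule X) : ℚ) =
        md k (Fin.cons A (fun _ : Fin 1 => B) : Fin 2 → X.Modules) (Coh.structureModule X) := fun {A B} hA hB => by
    rw [intNum_eq_mixedDiff hd (fun i => by fin_cases i <;> assumption) hO, vec2_eq_cons]
    simp [md]
  -- remove the inverses
  have inv : ∀ {B B' : X.Modules}, PicF.IsInvertible B → PicF.IsInvertible B' →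
      (CohB1.tensorMod B B' ≅ Coh.structureModule X) →
      md k (Fin.cons N' (fun _ : Fin 1 => B') : Fin 2 → X.Modules) (Coh.structureModule X) =
        md k (Fin.cons N (fun _ : Fin 1 => B) : Fin 2 → X.Modules) (Coh.structureModule X) :=
    fun {B B'} hB hB' eB => by
      rw [md_cons_inverse hN hN' e (fun _ => hB') hO hsupp, const_eq_cons (r := 0) B', const_eq_cons (r := 0) B,
        md_swap N B', md_swap N B, md_cons_inverse hB hB' eB (isInvertible_cons hN (fun i => Fin.elim0 i)) hO hsupp,
        neg_neg, Subsingleton.elim (fun _ : Fin 0 => B') (fun _ : Fin 0 => B)]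
  let A := CohB1.tensorPow N n
  have hA : PicF.IsInvertible A := M2.isInvertible_tensorPow hN n
  haveI : Mono (M1.secHom s) := (M1.mono_iff_stalk _).2
    (CurveCoh17.injective_stalk_secHom ((M2.isInvertible_iff_isFinLocFreeOfRank_one A).1 hA) hs)
  let Q := cokernel (M1.secHom s)
  have hQ : Coh.IsCoh Q := M1.isCoh_cokernel hO.1 (isCoh_of_isInvertible hA) _
  have hr1 := (M2.isInvertible_iff_isFinLocFreeOfRank_one A).1 hA
  have hη : genericPoint X ∉ CohB1.support Q := (M1.notMem_support_iff _ _).2
    (CurveCoh17.eq_zero_stalk_cokernel _ _ (CurveCoh17.surjective_stalkLin_genericPoint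
      (CurveCoh17.nonempty_stalk_equiv_structureModule _) (CurveCoh17.nonempty_stalk_equiv hr1 _) _
      (CurveCoh17.injective_stalk_secHom hr1 hs _)))
  have hQ1 : topologicalKrullDim (CohB1.support Q) ≤ ((1 : ℕ) : WithBot ℕ∞) :=
    dim_le_of_notMem (η := genericPoint X) (M1.isClosed_support hQ.2)
      ((genericPoint_closure X).symm ▸ Set.subset_univ _) hη
      ((Topology.IsInducing.subtypeVal.topologicalKrullDim_le).trans hd)
  have hcut : ∀ B : X.Modules, PicF.IsInvertible B →
      (n : ℚ) * md k (Fin.cons N (fun _ : Fin 1 => B) : Fin 2 → X.Modules) (Coh.structureModule X) = cdeg k B Q :=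
    fun B hB => by
      rw [← md_cons_pow hN (fun _ => hB) hO hsupp n]
      exact md_cons_of_section hA (M1.secHom s) (fun _ => hB)
  have hNN : (0 : ℚ) < cdeg k N Q := by
    rw [← hcut N hN]
    refine mul_pos (Nat.cast_pos.2 hn) ?_
    rw [← inv hN hN' e, ← hM2 hN' hN']
    exact_mod_cast hpos
  have hQ1' : topologicalKrullDim (CohB1.support Q) = 1 := by
    refine le_antisymm (by simpa using hQ1) (not_lt.1 fun hlt => ?_)
    have h0 : topologicalKrullDim (CohB1.support Q) ≤ ((0 : ℕ) : WithBot ℕ∞) :=
      le_of_lt_natCast_succ (by simpa using hlt)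
    rw [cdeg, md_eq_zero (fun _ => hN) hQ h0 Nat.zero_lt_one] at hNN
    exact lt_irrefl _ hNN
  have key := cdeg_pos_of_dim_one (k := k) hH hQ hQ1'
  rw [← hcut H hH.1] at key
  have key' := (mul_pos_iff_of_pos_left (Nat.cast_pos.2 hn)).1 key
  rw [← inv hH.1 hH' e', ← hM2 hN' hH'] at key'
  exact_mod_cast key'

end Groth.Agent.NumPoly18
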