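import Groth.Agent.Lib.NumPoly18.Big
import Groth.Agent.Lib.NumPoly18.Nakai
import Groth.Agent.Lib.NumPoly18.Pullback
import Groth.Agent.Lib.NumPoly18.Surf

/-!
# Nef invertible modules on projective schemes: Kleiman's theorem
-/

set_option autoImplicit false
set_option linter.style.haveILetI false
set_option maxHeartbeats 1600000
set_option backward.isDefEq.respectTransparency false

universe u

open CategoryTheory CategoryTheory.Limits AlgebraicGeometry TopologicalSpace Opposite

namespace Groth.Agent.NumPoly18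

open Groth.Agent Groth.Agent.Snapper

variable {X : Scheme.{u}} {k : Type u} [Field k] [X.Over (Spec (CommRingCat.of k))]

theorem md_push {Y : Scheme.{u}} [Y.Over (Spec (CommRingCat.of k))] (i : Y ⟶ X) [IsAffineHom i]
    (hi : i ≫ (X ↘ Spec (CommRingCat.of k)) = Y ↘ Spec (CommRingCat.of k)) {r : ℕ} {L : Fin r → X.Modules}
    (hL : ∀ j, PicF.IsInvertible (L j)) {F : Y.Modules} (hF : Coh.IsQCoh F) :
    md k L ((Scheme.Modules.pushforward i).obj F) = md k (fun j => (Scheme.Modules.pullback i).obj (L j)) F :=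
  congrArg mixedDiff (funext fun n => chi_push i hi hL F hF n)

/-- Intersection numbers depend on the isomorphism classes only. -/
theorem md_congr : ∀ {r : ℕ} {L L' : Fin r → X.Modules}, (∀ i, Nonempty (L i ≅ L' i)) → ∀ F : X.Modules,
    md k L F = md k L' F
  | 0, L, L', _, F => by rw [md_zero_vars, md_zero_vars]
  | r + 1, L, L', h, F => by
    rw [← Fin.cons_self_tail L, ← Fin.cons_self_tail L', md_cons, md_cons,
      md_congr (L := Fin.tail L) (L' := Fin.tail L') (fun i => h i.succ) _,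
      md_congr (L := Fin.tail L) (L' := Fin.tail L') (fun i => h i.succ) F,
      md_iso _ (M2.tensorIso (Iso.refl F) (h 0).some)]

variable (k) in
/-- Nonnegative degree on every curve. -/
def Nef (L : X.Modules) : Prop :=
  ∀ ξ : X, topologicalKrullDim (closure ({ξ} : Set X)) = 1 → 0 ≤ cdeg k L (ptMod ξ)

variable [IsProper (X ↘ Spec (CommRingCat.of k))]

theorem cdeg_nonneg_of_nef {L : X.Modules} (hL : PicF.IsInvertible L) (h : Nef k L) {F : X.Modules}
    (hF : Coh.IsCoh F) (hd : topologicalKrullDim (CohB1.support F) ≤ 1) : 0 ≤ cdeg k L F :=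
  md_rel_of_integral k (fun a _ => 0 ≤ a) le_rfl (fun _ _ _ _ a b => add_nonneg a b)
    (fun _ _ _ hc a => mul_nonneg hc a) (L := fun _ : Fin 1 => L) (L' := fun _ : Fin 1 => L) (fun _ => hL)
    (fun _ => hL) (fun ξ hξ => h ξ (by simpa using hξ)) hF (by simpa using hd)

theorem Nef.pullback {Y : Scheme.{u}} [Y.Over (Spec (CommRingCat.of k))] (i : Y ⟶ X) [IsClosedImmersion i]
    (hi : i ≫ (X ↘ Spec (CommRingCat.of k)) = Y ↘ Spec (CommRingCat.of k)) {L : X.Modules}
    (hL : PicF.IsInvertible L) (h : Nef k L) : Nef k ((Scheme.Modules.pullback i).obj L) := by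
  haveI : IsNoetherian X := CohFound.isNoetherian_of_isProper (X ↘ (Spec (CommRingCat.of k)))
  haveI : IsLocallyNoetherian Y := LocallyOfFiniteType.isLocallyNoetherian i
  intro ξ hξ
  haveI : IsProper (Y ↘ Spec (CommRingCat.of k)) := by rw [← hi]; infer_instance
  haveI : IsNoetherian Y := CohFound.isNoetherian_of_isProper (Y ↘ (Spec (CommRingCat.of k)))
  have hd : topologicalKrullDim (CohB1.support ((Scheme.Modules.pushforward i).obj (ptMod ξ))) ≤ 1 := by
    let e := (Scheme.Modules.pushforwardComp (ptIdeal ξ).subschemeι i).app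
      (Coh.structureModule (ptIdeal ξ).subscheme)
    exact (dim_le_of_subset (CohFound.support_subset_of_mono e.hom)
      ((dim_support_push ((ptIdeal ξ).subschemeι ≫ i) _).trans
        ((AmpleFin18.dim_subscheme _ (Scheme.IdealSheafData.coe_support_vanishingIdeal _)).trans hξ).le))
  have h0 := cdeg_nonneg_of_nef hL h (CohFound.isCoh_push_closedImm i (isCoh_ptMod ξ)) hd
  rwa [cdeg, md_push i hi (fun _ => hL) (isCoh_ptMod ξ).1] at h0

theorem Nef.of_iso {L L' : X.Modules} (h : Nef k L) (e : L ≅ L') : Nef k L' := fun ξ hξ => by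
  rw [cdeg, ← md_congr (L := fun _ => L) (fun _ => ⟨e⟩)]
  exact h ξ hξ

theorem Nef.tensor {L L' : X.Modules} (hL : PicF.IsInvertible L) (hL' : PicF.IsInvertible L') (h : Nef k L)
    (h' : Nef k L') : Nef k (CohB1.tensorMod L L') := fun ξ hξ => by
  haveI : IsNoetherian X := CohFound.isNoetherian_of_isProper (X ↘ (Spec (CommRingCat.of k)))
  have hd : topologicalKrullDim (CohB1.support (ptMod ξ)) ≤ ((0 + 1 : ℕ) : WithBot ℕ∞) := by
    simpa using dim_le_of_subset (support_ptMod ξ) hξ.le
  have e := md_cons_tensor (k := k) hL hL' (M := fun i : Fin 0 => i.elim0) (fun i => i.elim0) (isCoh_ptMod ξ) hd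
  have hc : ∀ A : X.Modules, (Fin.cons A (fun i : Fin 0 => i.elim0) : Fin (0 + 1) → X.Modules) = fun _ => A :=
    fun A => funext fun i => Fin.cases (by simp) (fun j => j.elim0) i
  simp only [hc] at e
  exact le_of_le_of_eq (add_nonneg (h ξ hξ) (h' ξ hξ)) e.symm

theorem nef_unit : Nef k (Coh.structureModule X) := fun ξ _ => by
  rw [cdeg, const_eq_cons, md_cons_unit]

theorem Nef.pow {L : X.Modules} (hL : PicF.IsInvertible L) (h : Nef k L) : ∀ n : ℕ, Nef k (CohB1.tensorPow L n)
  | 0 => nef_unit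
  | n + 1 => Nef.tensor (M2.isInvertible_tensorPow hL n) hL (h.pow hL n) h

theorem nef_of_isAmple {A : X.Modules} (hA : CohB1.IsAmple A) : Nef k A := fun ξ hξ => by
  haveI : IsNoetherian X := CohFound.isNoetherian_of_isProper (X ↘ (Spec (CommRingCat.of k)))
  haveI := (isIntegral_pt ξ).1
  have h := cdeg_pos_of_isAmple k (ptIdeal ξ) (by
    rw [show ((ptIdeal ξ).support : Set X) = closure {ξ} from Scheme.IdealSheafData.coe_support_vanishingIdeal _]
    exact hξ) hA
  exact (h).le

/-- A divisor of a multiple of an ample module. -/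
theorem exists_cut [IsIntegral X] {r : ℕ} (hd : topologicalKrullDim X ≤ ((r + 1 : ℕ) : WithBot ℕ∞))
    {A : X.Modules} (hA : CohB1.IsAmple A) :
    ∃ (N : ℕ) (Q : X.Modules), 0 < N ∧ Coh.IsCoh Q ∧ topologicalKrullDim (CohB1.support Q) ≤ (r : WithBot ℕ∞) ∧
      ∀ M : Fin r → X.Modules, (∀ i, PicF.IsInvertible (M i)) →
        (N : ℚ) * md k (Fin.cons A M : Fin (r + 1) → X.Modules) (Coh.structureModule X) = md k M Q := by
  haveI : IsNoetherian X := CohFound.isNoetherian_of_isProper (X ↘ (Spec (CommRingCat.of k)))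
  obtain ⟨q, hq⟩ := eventually_hasMonoSec k hA (PicLoc.isInvertible_structureModule X)
  obtain ⟨s, hs⟩ := (hq (q + 1) (Nat.le_succ _)).of_iso (M2.tensorLUnit _)
  haveI := hs
  have hAq := M2.isInvertible_tensorPow hA.1 (q + 1)
  have hO := M1.isCoh_structureModule X
  have hQ : Coh.IsCoh (cokernel s) := M1.isCoh_cokernel hO.1 (isCoh_of_isInvertible hAq) s
  have hr1 := (M2.isInvertible_iff_isFinLocFreeOfRank_one _).1 hAq
  have hη : genericPoint X ∉ CohB1.support (cokernel s) := (M1.notMem_support_iff _ _).2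
    (CurveCoh17.eq_zero_stalk_cokernel _ _ (CurveCoh17.surjective_stalkLin_genericPoint
      (CurveCoh17.nonempty_stalk_equiv_structureModule _) (CurveCoh17.nonempty_stalk_equiv hr1 _) _
      ((M1.mono_iff_stalk s).1 hs _)))
  refine ⟨q + 1, cokernel s, q.succ_pos, hQ, dim_le_of_notMem (M1.isClosed_support hQ.2)
    ((genericPoint_closure X).symm ▸ Set.subset_univ _) hη
    ((Topology.IsInducing.subtypeVal.topologicalKrullDim_le).trans hd), fun M hM => ?_⟩
  rw [← md_cons_pow (k := k) hA.1 hM hO ((Topology.IsInducing.subtypeVal.topologicalKrullDim_le).trans hd)]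
  exact md_cons_of_section hAq s hM

/-- The self intersection of `L ^ m ⊗ A ^ j` is homogeneous in `(m, j)`. -/
theorem exists_poly_two {L A : X.Modules} (hL : PicF.IsInvertible L) (hA : PicF.IsInvertible A) (d : ℕ)
    (hd : topologicalKrullDim X ≤ (d : WithBot ℕ∞)) :
    ∃ g : Polynomial ℚ, ∀ m j : ℕ, 0 < j →
      md k (fun _ : Fin d => CohB1.tensorMod (CohB1.tensorPow L m) (CohB1.tensorPow A j)) (Coh.structureModule X) =
        (j : ℚ) ^ d * g.eval ((m : ℚ) / (j : ℚ)) := by
  haveI : IsNoetherian X := CohFound.isNoetherian_of_isProper (X ↘ (Spec (CommRingCat.of k)))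
  classical
  have hO := M1.isCoh_structureModule X
  obtain ⟨P, hPd, hP⟩ := snapper X k d (Coh.structureModule X) hO
    ((Topology.IsInducing.subtypeVal.topologicalKrullDim_le).trans hd) 2 ![L, A]
    (fun i => by fin_cases i <;> simpa)
  let S := P.support.filter fun s => s 0 + s 1 = d
  refine ⟨Polynomial.C (d.factorial : ℚ) * ∑ s ∈ S, Polynomial.C (P.coeff s) * Polynomial.X ^ (s 0), fun m j hj => ?_⟩
  let Q : Polynomial ℚ := ∑ s ∈ P.support,
    Polynomial.C (P.coeff s * (m : ℚ) ^ (s 0) * (j : ℚ) ^ (s 1)) * Polynomial.X ^ (s 0 + s 1)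
  have hs : ∀ s ∈ P.support, s 0 + s 1 ≤ d := fun s hs => by
    refine le_trans ?_ ((MvPolynomial.le_totalDegree hs).trans hPd)
    rw [Finsupp.sum_fintype _ _ (fun _ => rfl), Fin.sum_univ_two]
  have hQd : Q.natDegree ≤ d := Polynomial.natDegree_sum_le_of_forall_le _ _ fun s h =>
    (Polynomial.natDegree_C_mul_X_pow_le _ _).trans (hs s h)
  have hQe : ∀ c : ℕ, Q.eval (c : ℚ) = MvPolynomial.eval (fun i => ((![m * c, j * c] i : ℕ) : ℚ)) P := fun c => by
    rw [MvPolynomial.eval_eq', Polynomial.eval_finsetSum]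
    refine Finset.sum_congr rfl fun s _ => ?_
    simp only [Polynomial.eval_mul, Polynomial.eval_C, Polynomial.eval_pow, Polynomial.eval_X, Fin.prod_univ_two,
      Matrix.cons_val_zero, Matrix.cons_val_one, Matrix.cons_val_fin_one, Nat.cast_mul, mul_pow, pow_add]
    ring
  rw [md, mixedDiff_of_eval_sum _ Q hQd fun I => ?_]
  · rw [show Q.coeff d = ∑ s ∈ S, P.coeff s * (m : ℚ) ^ (s 0) * (j : ℚ) ^ (s 1) from ?_]
    · rw [Finset.mul_sum, Polynomial.eval_mul, Polynomial.eval_C, Polynomial.eval_finsetSum, Finset.mul_sum,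
        Finset.mul_sum]
      refine Finset.sum_congr rfl fun s h => ?_
      simp only [Polynomial.eval_mul, Polynomial.eval_C, Polynomial.eval_pow, Polynomial.eval_X]
      rw [← (Finset.mem_filter.1 h).2, pow_add, div_pow]
      field_simp
    · simp only [Q, S, Polynomial.finsetSum_coeff, Polynomial.coeff_C_mul_X_pow, Finset.sum_filter]
      exact Finset.sum_congr rfl fun s _ => by simp only [eq_comm]
  · obtain ⟨e⟩ := nonempty_multiTwist_const (CohB1.tensorMod (CohB1.tensorPow L m) (CohB1.tensorPow A j)) (ind I)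
    rw [show (∑ i, ind I i) = I.card from by simp [ind, Finset.filter_mem_eq_inter]] at e
    obtain ⟨e₂⟩ := Snapper.nonempty_multiTwist_cons L (fun _ : Fin 1 => A) (m * I.card) (fun _ => j * I.card)
    obtain ⟨e₁⟩ := Snapper.nonempty_multiTwist_cons A (fun i : Fin 0 => i.elim0) (j * I.card) (fun i => i.elim0)
    rw [hQe, ← hP, chi]
    congr 1
    refine CurveCoh17.euler_iso (M2.tensorIso (Iso.refl _) (e ≪≫ M2.tensorPowMul _ _ _ ≪≫
      M2.tensorIso (M2.tensorPowPow L m _) (M2.tensorPowPow A j _ ≪≫ (M2.tensorRUnit _).symm ≪≫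
        M2.tensorIso (Iso.refl _) (eqToIso (by simp [FGA.multiTwist, FGA.tensorList])) ≪≫ e₁.symm ≪≫
        eqToIso ?_) ≪≫ e₂.symm ≪≫ eqToIso ?_))
    · congr 1 <;> funext i <;> fin_cases i <;> rfl
    · congr 1 <;> funext i <;> fin_cases i <;> rfl

theorem ci_isIso_of_dim [IsIntegral X] {Z : Scheme.{u}} (i : Z ⟶ X) [IsClosedImmersion i] {r : ℕ}
    (hd : topologicalKrullDim X ≤ ((r + 1 : ℕ) : WithBot ℕ∞))
    (hZ : topologicalKrullDim Z = ((r + 1 : ℕ) : WithBot ℕ∞)) : IsIso i := by
  have h : genericPoint X ∈ Set.range i := by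
    by_contra hη
    have := dim_le_of_notMem (η := genericPoint X) i.isClosedEmbedding.isClosed_range
      ((genericPoint_closure X).symm ▸ Set.subset_univ _) hη
      ((Topology.IsInducing.subtypeVal.topologicalKrullDim_le).trans hd)
    rw [← i.isEmbedding.toHomeomorph.isHomeomorph.topologicalKrullDim_eq, hZ, Nat.cast_le] at this
    omega
  haveI : Surjective i := ⟨Set.range_eq_univ.1 (Set.eq_univ_of_univ_subset (by
    rw [← genericPoint_closure X]
    exact closure_minimal (Set.singleton_subset_iff.2 h) i.isClosedEmbedding.isClosed_range))⟩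
  exact isIso_of_isClosedImmersion_of_surjective i

variable (k) in
/-- The statements of Kleiman's theorem in dimension `r`. -/
def KleimanAt (r : ℕ) : Prop :=
  ∀ (X : Scheme.{u}) [X.Over (Spec (CommRingCat.of k))] [IsProper (X ↘ Spec (CommRingCat.of k))] (A : X.Modules),
    CohB1.IsAmple A →
    (∀ M : Fin r → X.Modules, (∀ i, PicF.IsInvertible (M i)) → (∀ i, Nef k (M i)) →
      ∀ F : X.Modules, Coh.IsCoh F → topologicalKrullDim (CohB1.support F) ≤ (r : WithBot ℕ∞) → 0 ≤ md k M F) ∧
    ∀ L : X.Modules, PicF.IsInvertible L → Nef k L →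
      ∀ F : X.Modules, Coh.IsCoh F → topologicalKrullDim (CohB1.support F) ≤ (r : WithBot ℕ∞) →
        md k (fun _ : Fin r => A) F ≤ md k (fun _ : Fin r => CohB1.tensorMod A L) F

/-- A positive self intersection makes `A ⊗ L` ample and bounds it below. -/
theorem kleiman_aux [IsIntegral X] {r : ℕ} (ih : ∀ e, e ≤ r → KleimanAt.{u} k e)
    (hd : topologicalKrullDim X = ((r + 1 : ℕ) : WithBot ℕ∞)) {A L : X.Modules} (hA : CohB1.IsAmple A)
    (hL : PicF.IsInvertible L) (hn : Nef k L)
    (hpos : 0 < md k (fun _ : Fin (r + 1) => CohB1.tensorMod A L) (Coh.structureModule X)) :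
    CohB1.IsAmple (CohB1.tensorMod A L) ∧ md k (fun _ : Fin (r + 1) => A) (Coh.structureModule X) ≤
      md k (fun _ : Fin (r + 1) => CohB1.tensorMod A L) (Coh.structureModule X) := by
  haveI : IsNoetherian X := CohFound.isNoetherian_of_isProper (X ↘ (Spec (CommRingCat.of k)))
  have hO := M1.isCoh_structureModule X
  have hC := M2.isInvertible_tensor hA.1 hL
  have hd' : topologicalKrullDim X ≤ ((r + 1 : ℕ) : WithBot ℕ∞) := hd.le
  have hamp : CohB1.IsAmple (CohB1.tensorMod A L) := by
    refine (isAmple_iff_nakaiPos (k := k) hC).2 fun Z i hi hZ e he hZe => ?_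
    haveI := hi
    haveI := hZ
    haveI : IsLocallyNoetherian Z := LocallyOfFiniteType.isLocallyNoetherian i
    have hle : e ≤ r + 1 := by
      have h := i.isEmbedding.isInducing.topologicalKrullDim_le.trans hd'
      rw [hZe, Nat.cast_le] at h
      exact h
    rcases hle.lt_or_eq with h | rfl
    · exact lt_of_lt_of_le ((isAmple_iff_nakaiPos (k := k) hA.1).1 hA Z i hi hZ e he hZe)
        ((ih e (Nat.le_of_lt_succ h) X A hA).2 L hL hn _ (CohFound.isCoh_push_closedImm i (M1.isCoh_structureModule Z))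
          ((dim_support_push i _).trans hZe.le))
    · haveI := ci_isIso_of_dim i hd' hZe
      exact lt_of_lt_of_eq hpos (md_iso _ (nonempty_push_unit_of_isIso i).some).symm
  refine ⟨hamp, ?_⟩
  have h0 : 0 ≤ md k (Fin.cons L (fun _ : Fin r => CohB1.tensorMod A L) : Fin (r + 1) → X.Modules)
      (Coh.structureModule X) := by
    rcases r with _ | r
    · rw [show (Fin.cons L (fun _ : Fin 0 => CohB1.tensorMod A L) : Fin (0 + 1) → X.Modules) = fun _ => L from
        funext fun i => Fin.cases (by simp) (fun j => j.elim0) i]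
      exact cdeg_nonneg_of_nef hL hn hO ((Topology.IsInducing.subtypeVal.topologicalKrullDim_le).trans
        (hd'.trans (by simp)))
    · rw [const_eq_cons (CohB1.tensorMod A L) (r := r), md_swap]
      obtain ⟨N, Q, hN, hQ, hQd, hcut⟩ := exists_cut (k := k) hd' hamp
      refine nonneg_of_mul_nonneg_right ((hcut _ (isInvertible_cons hL fun _ => hC)).symm ▸ ?_) (Nat.cast_pos.2 hN)
      refine (ih (r + 1) le_rfl X A hA).1 _ (isInvertible_cons hL fun _ => hC) (fun i => ?_) Q hQ hQd
      exact Fin.cases (by simpa using hn) (fun j => by simpa using nef_of_isAmple hamp) i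
  obtain ⟨N, Q, hN, hQ, hQd, hcut⟩ := exists_cut (k := k) hd' hA
  have h1 : md k (Fin.cons A (fun _ : Fin r => A) : Fin (r + 1) → X.Modules) (Coh.structureModule X) ≤
      md k (Fin.cons A (fun _ : Fin r => CohB1.tensorMod A L) : Fin (r + 1) → X.Modules) (Coh.structureModule X) := by
    refine le_of_mul_le_mul_left ?_ (Nat.cast_pos.2 hN : (0 : ℚ) < N)
    rw [hcut _ (fun _ => hA.1), hcut _ (fun _ => hC)]
    exact (ih r le_rfl X A hA).2 L hL hn Q hQ hQd
  rw [const_eq_cons A, const_eq_cons (CohB1.tensorMod A L), md_cons_tensor hA.1 hL (fun _ => hC) hO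
    ((Topology.IsInducing.subtypeVal.topologicalKrullDim_le).trans hd')]
  exact h1.trans (le_add_of_nonneg_right h0)

/-- Every `L ^ m ⊗ A ^ j` is ample. -/
theorem kleiman_step [IsIntegral X] {r : ℕ} (ih : ∀ e, e ≤ r → KleimanAt.{u} k e)
    (hd : topologicalKrullDim X = ((r + 1 : ℕ) : WithBot ℕ∞)) {A L : X.Modules} (hA : CohB1.IsAmple A)
    (hL : PicF.IsInvertible L) (hn : Nef k L) (m : ℕ) :
    CohB1.IsAmple (CohB1.tensorMod A (CohB1.tensorPow L m)) ∧ md k (fun _ : Fin (r + 1) => A) (Coh.structureModule X) ≤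
      md k (fun _ : Fin (r + 1) => CohB1.tensorMod A (CohB1.tensorPow L m)) (Coh.structureModule X) := by
  obtain ⟨g, hg⟩ := exists_poly_two (k := k) hL hA.1 (r + 1) hd.le
  have hc : 0 < g.eval 0 := by
    have h := hg 0 1 one_pos
    rw [md_congr (L := fun _ => CohB1.tensorMod (CohB1.tensorPow L 0) (CohB1.tensorPow A 1)) (L' := fun _ => A)
      (fun _ => ⟨M2.tensorLUnit _ ≪≫ M2.tensorPowOne A⟩)] at h
    have h1 : 0 < md k (fun _ : Fin (r + 1) => A) (Coh.structureModule X) := (asymptotic_rr k hd hA).1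
    simpa [h] using h1
  have key : ∀ s : ℚ, 0 ≤ s → 0 < g.eval s → g.eval 0 ≤ g.eval s := by
    intro s hs0 hs
    obtain ⟨a, ha⟩ : ∃ a : ℕ, (a : ℤ) = s.num := ⟨s.num.toNat, Int.toNat_of_nonneg (Rat.num_nonneg.2 hs0)⟩
    have hs' : (a : ℚ) / (s.den : ℚ) = s := by rw [show (a : ℚ) = (s.num : ℚ) from by exact_mod_cast ha, Rat.num_div_den]
    have h1 := hg a s.den s.den_pos
    rw [hs', md_congr (L' := fun _ => CohB1.tensorMod (CohB1.tensorPow A s.den) (CohB1.tensorPow L a))
      (fun _ => ⟨M2.tensorComm _ _⟩)] at h1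
    have h2 := hg 0 s.den s.den_pos
    rw [Nat.cast_zero, zero_div, md_congr (L := fun _ => CohB1.tensorMod (CohB1.tensorPow L 0) (CohB1.tensorPow A s.den))
      (L' := fun _ => CohB1.tensorPow A s.den)
      (fun _ => ⟨M2.tensorLUnit _⟩)] at h2
    have hp : (0 : ℚ) < (s.den : ℚ) ^ (r + 1) := pow_pos (Nat.cast_pos.2 s.den_pos) _
    have h3 := (kleiman_aux ih hd ((Amp.isAmple_tensorPow_iff hA.1 s.den_pos).2 hA) (M2.isInvertible_tensorPow hL a)
      (hn.pow hL a) (h1 ▸ mul_pos hp hs)).2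
    rw [h1, h2] at h3
    exact le_of_mul_le_mul_left h3 hp
  have hpos : ∀ s : ℚ, 0 ≤ s → 0 < g.eval s := by
    intro s hs
    by_contra hle
    push Not at hle
    let f : ℝ → ℝ := fun x => Polynomial.aeval x g
    have hf : Continuous f := g.continuous_aeval
    have hfq : ∀ q : ℚ, f (q : ℝ) = ((g.eval q : ℚ) : ℝ) := fun q => by
      have h := Polynomial.aeval_algebraMap_apply ℝ q g
      simp only [eq_ratCast, Polynomial.coe_aeval_eq_eval] at h
      exact h
    have hf0 : f 0 = ((g.eval 0 : ℚ) : ℝ) := by simpa using hfq 0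
    have hc' : (0 : ℝ) < ((g.eval 0 : ℚ) : ℝ) := Rat.cast_pos.2 hc
    obtain ⟨x, hx, hfx⟩ := intermediate_value_Icc' (show (0 : ℝ) ≤ (s : ℝ) by exact_mod_cast hs) hf.continuousOn
      (show ((g.eval 0 : ℚ) : ℝ) / 2 ∈ Set.Icc (f (s : ℝ)) (f 0) from by
        rw [hfq, hf0]
        exact ⟨le_trans (Rat.cast_nonpos.2 hle) (by linarith), by linarith⟩)
    have hx0 : 0 < x := hx.1.lt_of_ne fun h => by
      rw [← h, hf0] at hfx
      linarith
    obtain ⟨q, hq₁, hq₂⟩ := Rat.denseRange_cast.exists_mem_open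
      ((isOpen_Ioo.preimage hf).inter (isOpen_Ioi (a := (0 : ℝ))))
      ⟨x, show f x ∈ Set.Ioo (0 : ℝ) ((g.eval 0 : ℚ) : ℝ) by
        rw [hfx]; exact ⟨by linarith, by linarith⟩, hx0⟩
    rw [Set.mem_preimage, hfq, Set.mem_Ioo, Rat.cast_pos, Rat.cast_lt] at hq₁
    exact absurd (key q (Rat.cast_nonneg.1 (le_of_lt (Set.mem_Ioi.1 hq₂))) hq₁.1) (not_le.2 hq₁.2)
  have h1 := hg m 1 one_pos
  have e : CohB1.tensorMod (CohB1.tensorPow L m) (CohB1.tensorPow A 1) ≅ CohB1.tensorMod A (CohB1.tensorPow L m) :=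
    M2.tensorComm _ _ ≪≫ M2.tensorIso (M2.tensorPowOne A) (Iso.refl _)
  rw [md_congr (L' := fun _ => CohB1.tensorMod A (CohB1.tensorPow L m)) (fun _ => ⟨e⟩)] at h1
  refine kleiman_aux ih hd hA (M2.isInvertible_tensorPow hL m) (hn.pow hL m) ?_
  rw [h1]
  simpa using hpos _ (div_nonneg (Nat.cast_nonneg m) zero_le_one)

variable (k) in
/-- Kleiman's theorem in every dimension. -/
theorem kleimanAt : ∀ r : ℕ, KleimanAt.{u} k r := by
  intro r
  induction r using Nat.strong_induction_on with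
  | _ r IH =>
  intro X _ _ A hA
  haveI : IsNoetherian X := CohFound.isNoetherian_of_isProper (X ↘ (Spec (CommRingCat.of k)))
  have key : ∀ ξ : X, topologicalKrullDim (closure ({ξ} : Set X)) = (r : WithBot ℕ∞) →
      (∀ M : Fin r → X.Modules, (∀ i, PicF.IsInvertible (M i)) → (∀ i, Nef k (M i)) → 0 ≤ md k M (ptMod ξ)) ∧
      ∀ L : X.Modules, PicF.IsInvertible L → Nef k L →
        md k (fun _ : Fin r => A) (ptMod ξ) ≤ md k (fun _ : Fin r => CohB1.tensorMod A L) (ptMod ξ) := by
    intro ξ hξ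
    let ι := (ptIdeal ξ).subschemeι
    letI : (ptIdeal ξ).subscheme.Over (Spec (CommRingCat.of k)) := ⟨ι ≫ (X ↘ (Spec (CommRingCat.of k)))⟩
    haveI : IsProper ((ptIdeal ξ).subscheme ↘ (Spec (CommRingCat.of k))) :=
      inferInstanceAs (IsProper (ι ≫ (X ↘ (Spec (CommRingCat.of k)))))
    haveI := (isIntegral_pt ξ).1
    haveI : IsNoetherian (ptIdeal ξ).subscheme :=
      CohFound.isNoetherian_of_isProper ((ptIdeal ξ).subscheme ↘ (Spec (CommRingCat.of k)))
    have hY : topologicalKrullDim (ptIdeal ξ).subscheme = (r : WithBot ℕ∞) :=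
      (AmpleFin18.dim_subscheme _ (Scheme.IdealSheafData.coe_support_vanishingIdeal _)).trans hξ
    have hAY : CohB1.IsAmple ((Scheme.Modules.pullback ι).obj A) := Amp.isAmple_pullback_of_isAffineHom ι hA
    have hpush : ∀ {M : Fin r → X.Modules}, (∀ i, PicF.IsInvertible (M i)) → md k M (ptMod ξ) =
        md k (fun i => (Scheme.Modules.pullback ι).obj (M i)) (Coh.structureModule (ptIdeal ξ).subscheme) :=
      fun {M} hM => md_push ι rfl hM (M1.isQCoh_structureModule _)
    rcases r with _ | r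
    · refine ⟨fun M hM _ => ?_, fun L _ _ => le_of_eq (md_congr (fun i => i.elim0) _)⟩
      rw [hpush hM, md_zero_vars]
      exact_mod_cast (euler_pos_of_dim_zero (k := k) (M1.isCoh_structureModule _)
        ((Topology.IsInducing.subtypeVal.topologicalKrullDim_le).trans (hY.le.trans (by simp)))
        ⟨genericPoint _, fun h => not_subsingleton _ ((CurveCoh17.nonempty_stalk_equiv_structureModule
          (genericPoint (ptIdeal ξ).subscheme)).some.toEquiv.subsingleton_congr.1 h)⟩).le
    have ih : ∀ e, e ≤ r → KleimanAt.{u} k e := fun e he => IH e (Nat.lt_succ_of_le he)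
    have hd' : topologicalKrullDim (ptIdeal ξ).subscheme ≤ ((r + 1 : ℕ) : WithBot ℕ∞) := hY.le
    refine ⟨fun M hM hn => ?_, fun L hL hn => ?_⟩
    · rw [hpush hM]
      have hM' := fun i => Twist.isInvertible_pullback ι (hM i)
      have hn' : ∀ i, Nef k ((Scheme.Modules.pullback ι).obj (M i)) := fun i => (hn i).pullback ι rfl (hM i)
      let N : Fin (r + 1) → (ptIdeal ξ).subscheme.Modules := fun i => (Scheme.Modules.pullback ι).obj (M i)
      change 0 ≤ md k N _
      rw [← Fin.cons_self_tail N]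
      let B := (Scheme.Modules.pullback ι).obj A
      have hlin : ∀ m : ℕ, 0 ≤ md k (Fin.cons B (Fin.tail N) : Fin (r + 1) → _) (Coh.structureModule _) +
          (m : ℚ) * md k (Fin.cons (N 0) (Fin.tail N) : Fin (r + 1) → _) (Coh.structureModule _) := fun m => by
        obtain ⟨hamp, -⟩ := kleiman_step ih hY hAY (hM' 0) (hn' 0) m
        obtain ⟨c, Q, hc, hQ, hQd, hcut⟩ := exists_cut (k := k) hd' hamp
        have hO := M1.isCoh_structureModule (ptIdeal ξ).subscheme
        have hdO := (Topology.IsInducing.subtypeVal.topologicalKrullDim_le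
          (f := ((↑) : CohB1.support (Coh.structureModule (ptIdeal ξ).subscheme) → _))).trans hd'
        rw [← md_cons_pow (k := k) (hM' 0) (M := Fin.tail N) (fun i => hM' i.succ) hO hdO,
          ← md_cons_tensor hAY.1 (M2.isInvertible_tensorPow (hM' 0) m) (M := Fin.tail N) (fun i => hM' i.succ) hO hdO]
        refine nonneg_of_mul_nonneg_right ((hcut _ (fun i => hM' i.succ)).symm ▸ ?_) (Nat.cast_pos.2 hc)
        exact ((ih r le_rfl) _ _ hAY).1 _ (fun i => hM' i.succ) (fun i => hn' i.succ) Q hQ hQd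
      by_contra hneg
      push Not at hneg
      obtain ⟨m, hm⟩ := exists_nat_gt (md k (Fin.cons B (Fin.tail N) : Fin (r + 1) → _) (Coh.structureModule _) /
        (- md k (Fin.cons (N 0) (Fin.tail N) : Fin (r + 1) → _) (Coh.structureModule _)))
      rw [div_lt_iff₀ (neg_pos.2 hneg)] at hm
      have := hlin m
      linarith
    · rw [hpush (fun _ => hA.1), hpush (fun _ => M2.isInvertible_tensor hA.1 hL)]
      refine le_of_le_of_eq (kleiman_step ih hY hAY (Twist.isInvertible_pullback ι hL) (hn.pullback ι rfl hL) 1).2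
        (md_congr (fun _ => ⟨?_⟩) _)
      exact M2.tensorIso (Iso.refl _) (M2.tensorPowOne _) ≪≫ (M2.pullTensorIso ι A L).symm
  refine ⟨fun M hM hn F hF hF' => ?_, fun L hL hn F hF hF' => ?_⟩
  · exact md_rel_of_integral k (fun a _ => 0 ≤ a) le_rfl (fun _ _ _ _ a b => add_nonneg a b)
      (fun _ _ _ hc a => mul_nonneg hc a) hM hM (fun ξ hξ => (key ξ hξ).1 M hM hn) hF hF'
  · exact md_rel_of_integral k (fun a b => a ≤ b) le_rfl (fun _ _ _ _ a b => add_le_add a b)
      (fun _ _ _ hc a => mul_le_mul_of_nonneg_left a hc) (fun _ => hA.1)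
      (fun _ => M2.isInvertible_tensor hA.1 hL) (fun ξ hξ => (key ξ hξ).2 L hL hn) hF hF'

/-- Kleiman: intersection numbers of nef modules on a projective scheme are nonnegative. -/
theorem md_nonneg_of_nef {A : X.Modules} (hA : CohB1.IsAmple A) {r : ℕ} {M : Fin r → X.Modules}
    (hM : ∀ i, PicF.IsInvertible (M i)) (hn : ∀ i, Nef k (M i)) {F : X.Modules} (hF : Coh.IsCoh F)
    (hd : topologicalKrullDim (CohB1.support F) ≤ (r : WithBot ℕ∞)) : 0 ≤ md k M F :=
  ((kleimanAt k r) X A hA).1 M hM hn F hF hd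

/-- Kleiman: the sum of an ample and a nef module is ample. -/
theorem isAmple_tensor_of_nef {A L : X.Modules} (hA : CohB1.IsAmple A) (hL : PicF.IsInvertible L) (hn : Nef k L) :
    CohB1.IsAmple (CohB1.tensorMod A L) := by
  haveI : IsNoetherian X := CohFound.isNoetherian_of_isProper (X ↘ (Spec (CommRingCat.of k)))
  refine (isAmple_iff_nakaiPos (k := k) (M2.isInvertible_tensor hA.1 hL)).2 fun Z i hi hZ e he hZe => ?_
  haveI := hi
  haveI : IsLocallyNoetherian Z := LocallyOfFiniteType.isLocallyNoetherian i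
  exact lt_of_lt_of_le ((isAmple_iff_nakaiPos (k := k) hA.1).1 hA Z i hi hZ e he hZe)
    (((kleimanAt k e) X A hA).2 L hL hn _ (CohFound.isCoh_push_closedImm i (M1.isCoh_structureModule Z))
      ((dim_support_push i _).trans hZe.le))

end Groth.Agent.NumPoly18
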