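import Groth.Agent.Lib.NumPoly18.BigNef
import Groth.Agent.Lib.Twist.Tensor
import Groth.Agent.Lib.Twist.ProjSpace
import Groth.Prelude.Def_Pic13
import Mathlib.Algebra.Group.ForwardDiff

/-!
# Hilbert coefficients in the binomial basis and intersection numbers
-/

set_option autoImplicit false
set_option linter.style.haveILetI false
set_option maxHeartbeats 1600000
set_option backward.isDefEq.respectTransparency false

universe u

open CategoryTheory CategoryTheory.Limits AlgebraicGeometry TopologicalSpace Opposite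

namespace Groth.Agent.NumPoly18

open Groth.Agent Groth.Agent.Snapper

theorem fwdDiff_choose_add : ∀ (s j : ℕ) (y : ℕ),
    ((fwdDiff 1)^[s] fun m : ℕ => ((m + j).choose j : ℚ)) y = if s ≤ j then (((y + j).choose (j - s) : ℕ) : ℚ) else 0 := by
  intro s
  induction s with
  | zero => intro j y; simp
  | succ s ih =>
    intro j y
    rw [Function.iterate_succ_apply', fwdDiff, ih j (y + 1), ih j y]
    rcases lt_trichotomy s j with h | h | h
    · rw [if_pos h.le, if_pos h.le, if_pos (show s + 1 ≤ j from h)]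
      obtain ⟨d, hd⟩ : ∃ d, j - s = d + 1 := ⟨j - s - 1, by omega⟩
      rw [hd, show j - (s + 1) = d by omega, show y + 1 + j = (y + j) + 1 by omega, Nat.choose_succ_succ']
      push_cast
      ring
    · subst h
      simp
    · rw [if_neg (by omega), if_neg (by omega), if_neg (by omega), sub_zero]

theorem fwdDiff_sum {ι : Type} (T : Finset ι) (f : ι → ℕ → ℚ) : ∀ (s : ℕ) (y : ℕ),
    ((fwdDiff 1)^[s] fun m => ∑ i ∈ T, f i m) y = ∑ i ∈ T, ((fwdDiff 1)^[s] (f i)) y := by
  intro s
  induction s with
  | zero => intro y; rfl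
  | succ s ih =>
    intro y
    rw [Function.iterate_succ_apply', fwdDiff, ih, ih, ← Finset.sum_sub_distrib]
    exact Finset.sum_congr rfl fun i _ => by rw [Function.iterate_succ_apply']; rfl

theorem fwdDiff_const_mul (c : ℚ) (f : ℕ → ℚ) : ∀ (s : ℕ) (y : ℕ),
    ((fwdDiff 1)^[s] fun m => c * f m) y = c * ((fwdDiff 1)^[s] f) y := by
  intro s
  induction s with
  | zero => intro y; rfl
  | succ s ih =>
    intro y
    rw [Function.iterate_succ_apply', Function.iterate_succ_apply', fwdDiff, fwdDiff, ih, ih, mul_sub]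

theorem fwdDiff_binom {r : ℕ} (a : Fin r → ℤ) (s y : ℕ) :
    ((fwdDiff 1)^[s] fun m : ℕ => ∑ j : Fin r, (a j : ℚ) * ((m + j).choose j : ℚ)) y =
      ∑ j : Fin r, (a j : ℚ) * (if s ≤ (j : ℕ) then (((y + j).choose ((j : ℕ) - s) : ℕ) : ℚ) else 0) := by
  rw [fwdDiff_sum]
  exact Finset.sum_congr rfl fun j _ => by rw [fwdDiff_const_mul, fwdDiff_choose_add]

variable {X : Scheme.{u}} {k : Type u} [Field k] [X.Over (Spec (CommRingCat.of k))]

/-- Self intersections are iterated differences. -/
theorem md_const_eq_fwdDiff (H : X.Modules) (g : ℕ → ℚ) : ∀ (s : ℕ) (F : X.Modules) (y : ℕ),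
    (∀ m, (Curv2.euler k X (CohB1.tensorMod F (CohB1.tensorPow H m)) : ℚ) = g (y + m)) →
    md k (fun _ : Fin s => H) F = ((fwdDiff 1)^[s] g) y := by
  intro s
  induction s with
  | zero =>
    intro F y h
    have h0 := h 0
    rw [add_zero] at h0
    rw [md_zero_vars]
    exact (congrArg (fun z : ℤ => (z : ℚ)) (CurveCoh17.euler_iso (M2.tensorRUnit F)).symm).trans h0
  | succ s ih =>
    intro F y h
    rw [const_eq_cons H, md_cons, Function.iterate_succ_apply', fwdDiff, ih F y h,
      ih (CohB1.tensorMod F H) (y + 1) fun m => ?_]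
    rw [show y + 1 + m = y + (m + 1) by omega, ← h (m + 1)]
    exact congrArg (fun z : ℤ => (z : ℚ)) (CurveCoh17.euler_iso (M2.tensorAssoc _ _ _ ≪≫
      M2.tensorIso (Iso.refl F) (M2.tensorComm H (CohB1.tensorPow H m))))

variable [IsProper (X ↘ Spec (CommRingCat.of k))]

/-- The two top binomial coefficients. -/
theorem binom_coeffs {s : ℕ} (hd : topologicalKrullDim X = ((s + 1 : ℕ) : WithBot ℕ∞)) {H L : X.Modules}
    (hH : PicF.IsInvertible H) (hL : PicF.IsInvertible L) (a e : Fin (s + 2) → ℤ)
    (ha : ∀ m : ℕ, (Curv2.euler k X (CohB1.tensorMod L (CohB1.tensorPow H m)) : ℚ) =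
      ∑ j : Fin (s + 2), (a j : ℚ) * ((m + j).choose j : ℚ))
    (he : ∀ m : ℕ, (Curv2.euler k X (CohB1.tensorMod (Coh.structureModule X) (CohB1.tensorPow H m)) : ℚ) =
      ∑ j : Fin (s + 2), (e j : ℚ) * ((m + j).choose j : ℚ)) :
    (a (Fin.last (s + 1)) : ℚ) = e (Fin.last (s + 1)) ∧
    (a (Fin.last (s + 1)) : ℚ) = md k (fun _ : Fin (s + 1) => H) (Coh.structureModule X) ∧
    (a (Fin.castSucc (Fin.last s)) : ℚ) - e (Fin.castSucc (Fin.last s)) =
      md k (Fin.cons L (fun _ : Fin s => H) : Fin (s + 1) → X.Modules) (Coh.structureModule X) := by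
  haveI : IsNoetherian X := CohFound.isNoetherian_of_isProper (X ↘ (Spec (CommRingCat.of k)))
  have hO := M1.isCoh_structureModule X
  have htop : ∀ (c : Fin (s + 2) → ℤ),
      (∑ j : Fin (s + 2), (c j : ℚ) * (if s + 1 ≤ (j : ℕ) then (((0 + (j : ℕ)).choose ((j : ℕ) - (s + 1)) : ℕ) : ℚ) else 0)) =
        c (Fin.last (s + 1)) := fun c => by
    rw [Fin.sum_univ_castSucc, Finset.sum_eq_zero fun j _ => by
      rw [if_neg (by have := j.isLt; simp <;> omega), mul_zero]]
    simp
  have hsub : ∀ (c : Fin (s + 2) → ℤ),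
      (∑ j : Fin (s + 2), (c j : ℚ) * (if s ≤ (j : ℕ) then (((0 + (j : ℕ)).choose ((j : ℕ) - s) : ℕ) : ℚ) else 0)) =
        c (Fin.castSucc (Fin.last s)) + ((s + 1 : ℕ) : ℚ) * c (Fin.last (s + 1)) := fun c => by
    rw [Fin.sum_univ_castSucc, Fin.sum_univ_castSucc, Finset.sum_eq_zero fun j _ => by
      rw [if_neg (by have := j.isLt; simp <;> omega), mul_zero]]
    simp [Nat.choose_one_right, mul_comm]
  have h1 : md k (fun _ : Fin (s + 1) => H) L = a (Fin.last (s + 1)) := by
    rw [md_const_eq_fwdDiff H _ (s + 1) L 0 (fun m => (ha m).trans (by rw [zero_add])), fwdDiff_binom, htop]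
  have h2 : md k (fun _ : Fin (s + 1) => H) (Coh.structureModule X) = e (Fin.last (s + 1)) := by
    rw [md_const_eq_fwdDiff H _ (s + 1) _ 0 (fun m => (he m).trans (by rw [zero_add])), fwdDiff_binom, htop]
  have h3 : md k (fun _ : Fin s => H) L =
      a (Fin.castSucc (Fin.last s)) + ((s + 1 : ℕ) : ℚ) * a (Fin.last (s + 1)) := by
    rw [md_const_eq_fwdDiff H _ s L 0 (fun m => (ha m).trans (by rw [zero_add])), fwdDiff_binom, hsub]
  have h4 : md k (fun _ : Fin s => H) (Coh.structureModule X) =
      e (Fin.castSucc (Fin.last s)) + ((s + 1 : ℕ) : ℚ) * e (Fin.last (s + 1)) := by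
    rw [md_const_eq_fwdDiff H _ s _ 0 (fun m => (he m).trans (by rw [zero_add])), fwdDiff_binom, hsub]
  have htens : ∀ r : ℕ, md k (Fin.cons L (fun _ : Fin r => H) : Fin (r + 1) → X.Modules) (Coh.structureModule X) =
      md k (fun _ : Fin r => H) L - md k (fun _ : Fin r => H) (Coh.structureModule X) := fun r => by
    rw [md_cons, md_iso _ (M2.tensorLUnit L)]
  have h5 : (a (Fin.last (s + 1)) : ℚ) = e (Fin.last (s + 1)) := by
    have h := htens (s + 1)
    rw [md_eq_zero (isInvertible_cons hL fun _ => hH) hO (dim_support_le hd.le _) (Nat.lt_succ_self _), h1, h2] at h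
    linarith
  refine ⟨h5, by rw [h2, h5], ?_⟩
  rw [htens s, h3, h4, h5]
  ring

noncomputable def twistPowIso (k : Type u) [Field k] (n : ℕ) : ∀ m : ℕ,
    CohB1.tensorPow (_root_.Twist.twistProjSpace n k 1) m ≅ _root_.Twist.twistProjSpace n k (m : ℤ)
  | 0 => (Twist.nonempty_twist_zero_iso (CohB1.polyGrading n k)).some.symm
  | m + 1 => M2.tensorIso (twistPowIso k n m) (Iso.refl _) ≪≫
      (Twist.nonempty_tensor_iso (CohB1.polyGrading n k) (m : ℤ) 1 (Twist.iSup_basicOpen_one n k)).some

noncomputable def twistNegIso (k : Type u) [Field k] (n : ℕ) :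
    CohB1.tensorMod (_root_.Twist.twistProjSpace n k 1) (_root_.Twist.twistProjSpace n k (-1)) ≅
      Coh.structureModule (CohB1.ProjSpace n k) :=
  (Twist.nonempty_tensor_iso (CohB1.polyGrading n k) 1 (-1) (Twist.iSup_basicOpen_one n k)).some ≪≫
    (Twist.nonempty_twist_zero_iso (CohB1.polyGrading n k)).some

/-- Twists along a map to projective space. -/
theorem euler_twistOn {n : ℕ} (i : X ⟶ CohB1.ProjSpace n k) (F : X.Modules) (m : ℕ) :
    Curv2.euler k X (Pic13.twistOn k i F (m : ℤ)) =
      Curv2.euler k X (CohB1.tensorMod F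
        (CohB1.tensorPow ((Scheme.Modules.pullback i).obj (_root_.Twist.twistProjSpace n k 1)) m)) :=
  CurveCoh17.euler_iso (M2.tensorIso (Iso.refl F)
    ((Scheme.Modules.pullback i).mapIso (twistPowIso k n m).symm ≪≫ M2.pullTensorPowIso i _ m))

/-- An inverse in any slot changes the sign. -/
theorem md_update_inverse {H H' : X.Modules} (hH : PicF.IsInvertible H) (hH' : PicF.IsInvertible H')
    (e : CohB1.tensorMod H H' ≅ Coh.structureModule X) {r : ℕ} {M : Fin (r + 1) → X.Modules}
    (hM : ∀ i, PicF.IsInvertible (M i)) (j : Fin (r + 1)) {F : X.Modules} (hF : Coh.IsCoh F)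
    (hr : topologicalKrullDim (CohB1.support F) ≤ ((r + 1 : ℕ) : WithBot ℕ∞)) :
    md k (Function.update M j H') F = - md k (Function.update M j H) F := by
  classical
  have h : ∀ N : X.Modules, md k (Function.update M j N) F =
      md k (Fin.cons N (fun l => M (Equiv.swap 0 j l.succ)) : Fin (r + 1) → X.Modules) F := fun N => by
    rw [← md_perm (Equiv.swap 0 j) (Function.update M j N)]
    refine congrArg (fun L => md k L F) (funext fun l => ?_)
    induction l using Fin.cases with
    | zero => simp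
    | succ l =>
      rw [Fin.cons_succ, Function.update_of_ne]
      intro hh
      exact Fin.succ_ne_zero l ((Equiv.swap 0 j).injective (hh.trans (Equiv.swap_apply_left 0 j).symm))
  rw [h, h, md_cons_inverse hH hH' e (fun l => hM _) hF hr]

/-- Inverses in all slots but the first. -/
theorem md_cons_const_inverse {A H H' : X.Modules} (hA : PicF.IsInvertible A) (hH : PicF.IsInvertible H)
    (hH' : PicF.IsInvertible H') (e : CohB1.tensorMod H H' ≅ Coh.structureModule X) {s : ℕ} {F : X.Modules}
    (hF : Coh.IsCoh F) (hr : topologicalKrullDim (CohB1.support F) ≤ ((s + 1 : ℕ) : WithBot ℕ∞)) :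
    md k (Fin.cons A (fun _ : Fin s => H') : Fin (s + 1) → X.Modules) F =
      (-1 : ℚ) ^ s * md k (Fin.cons A (fun _ : Fin s => H) : Fin (s + 1) → X.Modules) F := by
  classical
  let mix : ℕ → Fin s → X.Modules := fun i j => if (j : ℕ) < i then H' else H
  have key : ∀ i, i ≤ s → md k (Fin.cons A (mix i) : Fin (s + 1) → X.Modules) F =
      (-1 : ℚ) ^ i * md k (Fin.cons A (fun _ : Fin s => H) : Fin (s + 1) → X.Modules) F := by
    intro i
    induction i with
    | zero => intro _; simp [mix]
    | succ i ih =>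
      intro hi
      have hu : ∀ (N : X.Modules), (Function.update (Fin.cons A (mix i) : Fin (s + 1) → X.Modules)
          (Fin.succ ⟨i, hi⟩) N) = Fin.cons A (Function.update (mix i) ⟨i, hi⟩ N) := fun N =>
        (Fin.cons_update _ _ _ _).symm
      have h1 : Function.update (mix i) ⟨i, hi⟩ H' = mix (i + 1) := funext fun j => by
        rcases eq_or_ne j ⟨i, hi⟩ with rfl | hne
        · simp [mix]
        · have : (j : ℕ) ≠ i := fun h => hne (Fin.ext h)
          rw [Function.update_of_ne hne]
          simp only [mix]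
          exact if_congr (by omega) rfl rfl
      have h2 : Function.update (mix i) ⟨i, hi⟩ H = mix i := funext fun j => by
        rcases eq_or_ne j ⟨i, hi⟩ with rfl | hne
        · simp [mix]
        · rw [Function.update_of_ne hne]
      have h := md_update_inverse (k := k) hH hH' e (isInvertible_cons hA (M := mix i) fun j => by
        simp only [mix]
        split_ifs
        · exact hH'
        · exact hH) (Fin.succ ⟨i, hi⟩) hF hr
      rw [hu, hu, h1, h2, ih (Nat.le_of_succ_le hi)] at h
      rw [h, pow_succ]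
      ring
  have h := key s le_rfl
  rwa [show mix s = fun _ => H' from funext fun j => if_pos j.isLt] at h

end Groth.Agent.NumPoly18
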