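import Groth.Agent.Lib.NumPoly18.ProdCurves
import Groth.Agent.Lib.CurveAmple18.Basic
import Groth.Prelude.Def_Curve

/-!
# The Hodge index inequality on a product of two curves
-/

set_option autoImplicit false
set_option linter.style.haveILetI false
set_option maxHeartbeats 1000000
set_option backward.isDefEq.respectTransparency false

universe u

open CategoryTheory CategoryTheory.Limits AlgebraicGeometry TopologicalSpace Opposite

namespace Groth.Agent.NumPoly18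

open Groth.Agent Groth.Agent.Snapper

/-- The two fibre classes on a product of curves. -/
theorem exists_prod_classes (k : Type u) [Field k] [IsAlgClosed k] (C₁ C₂ : Scheme.{u})
    [C₁.Over (Spec (CommRingCat.of k))] [C₂.Over (Spec (CommRingCat.of k))]
    (h₁ : Curve.IsSmoothProperCurve k C₁ (C₁ ↘ Spec (CommRingCat.of k)))
    (h₂ : Curve.IsSmoothProperCurve k C₂ (C₂ ↘ Spec (CommRingCat.of k)))
    (x : Spec (CommRingCat.of k) ⟶ C₁) (hx : x ≫ (C₁ ↘ Spec (CommRingCat.of k)) = 𝟙 _)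
    (y : Spec (CommRingCat.of k) ⟶ C₂) (hy : y ≫ (C₂ ↘ Spec (CommRingCat.of k)) = 𝟙 _)
    (i₁ : C₁ ⟶ pullback (C₁ ↘ Spec (CommRingCat.of k)) (C₂ ↘ Spec (CommRingCat.of k)))
    (hi₁ : i₁ ≫ pullback.fst _ _ = 𝟙 C₁ ∧ i₁ ≫ pullback.snd _ _ = (C₁ ↘ Spec (CommRingCat.of k)) ≫ y)
    (i₂ : C₂ ⟶ pullback (C₁ ↘ Spec (CommRingCat.of k)) (C₂ ↘ Spec (CommRingCat.of k)))
    (hi₂ : i₂ ≫ pullback.snd _ _ = 𝟙 C₂ ∧ i₂ ≫ pullback.fst _ _ = (C₂ ↘ Spec (CommRingCat.of k)) ≫ x) :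
    letI X : Scheme.{u} := pullback (C₁ ↘ Spec (CommRingCat.of k)) (C₂ ↘ Spec (CommRingCat.of k))
    letI : X.Over (Spec (CommRingCat.of k)) := ⟨pullback.fst _ _ ≫ (C₁ ↘ Spec (CommRingCat.of k))⟩
    IsIntegral X ∧ IsProper (X ↘ Spec (CommRingCat.of k)) ∧ topologicalKrullDim X = ((2 : ℕ) : WithBot ℕ∞) ∧
      (∃ A : X.Modules, CohB1.IsAmple A) ∧ ∃ Q₁ Q₂ : X.Modules, PicF.IsInvertible Q₁ ∧ PicF.IsInvertible Q₂ ∧
        dot k Q₁ Q₁ = 0 ∧ dot k Q₂ Q₂ = 0 ∧ dot k Q₁ Q₂ = 1 ∧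
        (∀ W : X.Modules, PicF.IsInvertible W →
          dot k Q₁ W = (Curv2.deg k C₁ ((Scheme.Modules.pullback i₁).obj W) 1 : ℚ)) ∧
        ∀ W : X.Modules, PicF.IsInvertible W →
          dot k Q₂ W = (Curv2.deg k C₂ ((Scheme.Modules.pullback i₂).obj W) 1 : ℚ) := by
  obtain ⟨_, _, _, hd₁⟩ := h₁
  obtain ⟨_, _, _, hd₂⟩ := h₂
  let X : Scheme.{u} := pullback (C₁ ↘ Spec (CommRingCat.of k)) (C₂ ↘ Spec (CommRingCat.of k))
  letI : X.Over (Spec (CommRingCat.of k)) := ⟨pullback.fst _ _ ≫ (C₁ ↘ Spec (CommRingCat.of k))⟩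
  have hs : X ↘ Spec (CommRingCat.of k) = pullback.fst (C₁ ↘ Spec (CommRingCat.of k)) (C₂ ↘ Spec (CommRingCat.of k)) ≫ (C₁ ↘ Spec (CommRingCat.of k)) := rfl
  haveI hXp : IsProper (X ↘ Spec (CommRingCat.of k)) := inferInstanceAs (IsProper (pullback.fst (C₁ ↘ Spec (CommRingCat.of k)) (C₂ ↘ Spec (CommRingCat.of k)) ≫ (C₁ ↘ Spec (CommRingCat.of k))))
  haveI : Smooth (X ↘ Spec (CommRingCat.of k)) := inferInstanceAs (Smooth (pullback.fst (C₁ ↘ Spec (CommRingCat.of k)) (C₂ ↘ Spec (CommRingCat.of k)) ≫ (C₁ ↘ Spec (CommRingCat.of k))))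
  haveI : GeometricallyIrreducible (C₂ ↘ Spec (CommRingCat.of k)) := GeomIrr.geometricallyIrreducible_of_isSepClosed (C₂ ↘ Spec (CommRingCat.of k))
  haveI : IrreducibleSpace X := inferInstanceAs (IrreducibleSpace (pullback (C₁ ↘ Spec (CommRingCat.of k)) (C₂ ↘ Spec (CommRingCat.of k)) : Scheme.{u}))
  haveI : IsReduced X := OrbitTop19.isReduced_of_smooth (X ↘ Spec (CommRingCat.of k))
  haveI hXi : IsIntegral X := isIntegral_of_irreducibleSpace_of_isReduced _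
  have hg1 : VarDim.sdim (C₁ ↘ Spec (CommRingCat.of k)) (genericPoint C₁) = 1 := by
    have h := VarDim.dim_eq_sdim_genericPoint (C₁ ↘ Spec (CommRingCat.of k))
    rw [hd₁] at h
    exact_mod_cast h.symm
  have hg2 : VarDim.sdim (C₂ ↘ Spec (CommRingCat.of k)) (genericPoint C₂) = 1 := by
    have h := VarDim.dim_eq_sdim_genericPoint (C₂ ↘ Spec (CommRingCat.of k))
    rw [hd₂] at h
    exact_mod_cast h.symm
  have hd : topologicalKrullDim X = ((2 : ℕ) : WithBot ℕ∞) := by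
    rw [VarDim.dim_eq_iSup_sdim (pullback.fst (C₁ ↘ Spec (CommRingCat.of k)) (C₂ ↘ Spec (CommRingCat.of k)) ≫ (C₁ ↘ Spec (CommRingCat.of k)))]
    refine le_antisymm (iSup_le fun z => ?_) ?_
    · have h := (DimF18.sdim_prod (C₁ ↘ Spec (CommRingCat.of k)) (C₂ ↘ Spec (CommRingCat.of k)) z).1
      have hb : ∀ {C : Scheme.{u}} [IsIntegral C] (s : C ⟶ Spec (CommRingCat.of k)) [LocallyOfFiniteType s]
          (c : C), VarDim.sdim s c ≤ VarDim.sdim s (genericPoint C) := fun {C} _ s _ c => by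
        rcases eq_or_ne (genericPoint C) c with h | h
        · rw [h]
        · exact (VarDim.sdim_lt_of_specializes s ((genericPoint_spec C).specializes (Set.mem_univ c)) h).le
      have := hb (C₁ ↘ Spec (CommRingCat.of k)) (pullback.fst (C₁ ↘ Spec (CommRingCat.of k)) (C₂ ↘ Spec (CommRingCat.of k)) z)
      have := hb (C₂ ↘ Spec (CommRingCat.of k)) (pullback.snd (C₁ ↘ Spec (CommRingCat.of k)) (C₂ ↘ Spec (CommRingCat.of k)) z)
      exact Nat.cast_le.2 (by omega)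
    · obtain ⟨m, hm⟩ := DimF18.exists_prod_sdim (C₁ ↘ Spec (CommRingCat.of k)) (C₂ ↘ Spec (CommRingCat.of k)) (genericPoint C₁) (genericPoint C₂)
      exact le_iSup_of_le m (Nat.cast_le.2 (by omega))
  obtain ⟨A₁, hA₁⟩ : ∃ A : C₁.Modules, CohB1.IsAmple A := by
    obtain ⟨-, -, N, hN, -, hdeg⟩ := exists_point_class (k := k) hd₁ x hx
    exact ⟨N, CurveAmple18.isAmple_of_deg_pos (k := k) hd₁.le hN (by rw [hdeg]; exact one_pos)⟩
  obtain ⟨A₂, hA₂⟩ : ∃ A : C₂.Modules, CohB1.IsAmple A := by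
    obtain ⟨-, -, N, hN, -, hdeg⟩ := exists_point_class (k := k) hd₂ y hy
    exact ⟨N, CurveAmple18.isAmple_of_deg_pos (k := k) hd₂.le hN (by rw [hdeg]; exact one_pos)⟩
  refine ⟨hXi, hXp, hd, ⟨_, RA.isAmple_pullback_tensor (C₁ ↘ Spec (CommRingCat.of k)) (C₂ ↘ Spec (CommRingCat.of k)) hA₁ hA₂⟩, ?_⟩
  haveI hsec : IsClosedImmersion x ∧ IsClosedImmersion y :=
    ⟨(exists_point_class (k := k) hd₁ x hx).1, (exists_point_class (k := k) hd₂ y hy).1⟩
  obtain ⟨-, -, N₁, hN₁, ⟨e₁⟩, hdeg₁⟩ := exists_point_class (k := k) hd₁ x hx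
  obtain ⟨-, -, N₂, hN₂, ⟨e₂⟩, hdeg₂⟩ := exists_point_class (k := k) hd₂ y hy
  have sq₁ : IsPullback i₁ (C₁ ↘ Spec (CommRingCat.of k)) (pullback.snd (C₁ ↘ Spec (CommRingCat.of k)) (C₂ ↘ Spec (CommRingCat.of k))) y := by
    refine IsPullback.of_right (h₁₂ := pullback.fst (C₁ ↘ Spec (CommRingCat.of k)) (C₂ ↘ Spec (CommRingCat.of k))) (h₂₂ := (C₂ ↘ Spec (CommRingCat.of k))) ?_ hi₁.2 (IsPullback.of_hasPullback (C₁ ↘ Spec (CommRingCat.of k)) (C₂ ↘ Spec (CommRingCat.of k)))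
    rw [hi₁.1, hy]
    exact IsPullback.of_horiz_isIso ⟨by simp⟩
  have sq₂ : IsPullback i₂ (C₂ ↘ Spec (CommRingCat.of k)) (pullback.fst (C₁ ↘ Spec (CommRingCat.of k)) (C₂ ↘ Spec (CommRingCat.of k))) x := by
    refine IsPullback.of_right (h₁₂ := pullback.snd (C₁ ↘ Spec (CommRingCat.of k)) (C₂ ↘ Spec (CommRingCat.of k))) (h₂₂ := (C₁ ↘ Spec (CommRingCat.of k))) ?_ hi₂.2
      (IsPullback.of_hasPullback (C₁ ↘ Spec (CommRingCat.of k)) (C₂ ↘ Spec (CommRingCat.of k))).flip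
    rw [hi₂.1, hx]
    exact IsPullback.of_horiz_isIso ⟨by simp⟩
  have hk₁ : i₁ ≫ (X ↘ Spec (CommRingCat.of k)) = (C₁ ↘ Spec (CommRingCat.of k)) := by rw [hs, ← Category.assoc, hi₁.1, Category.id_comp]
  have hk₂ : i₂ ≫ (X ↘ Spec (CommRingCat.of k)) = (C₂ ↘ Spec (CommRingCat.of k)) := by
    rw [hs, pullback.condition, ← Category.assoc, hi₂.1, Category.id_comp]
  let Q₁ := (Scheme.Modules.pullback (pullback.snd (C₁ ↘ Spec (CommRingCat.of k)) (C₂ ↘ Spec (CommRingCat.of k)))).obj N₂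
  let Q₂ := (Scheme.Modules.pullback (pullback.fst (C₁ ↘ Spec (CommRingCat.of k)) (C₂ ↘ Spec (CommRingCat.of k)))).obj N₁
  have hQ₁ : PicF.IsInvertible Q₁ := Twist.isInvertible_pullback _ hN₂
  have hQ₂ : PicF.IsInvertible Q₂ := Twist.isInvertible_pullback _ hN₁
  have f₁ : ∀ W : X.Modules, PicF.IsInvertible W →
      dot k Q₁ W = (Curv2.deg k C₁ ((Scheme.Modules.pullback i₁).obj W) 1 : ℚ) := fun W hW =>
    dot_pullback_point hd hd₂ y hy hN₂ e₂ (pullback.snd (C₁ ↘ Spec (CommRingCat.of k)) (C₂ ↘ Spec (CommRingCat.of k))) i₁ hk₁ sq₁ hW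
  have f₂ : ∀ W : X.Modules, PicF.IsInvertible W →
      dot k Q₂ W = (Curv2.deg k C₂ ((Scheme.Modules.pullback i₂).obj W) 1 : ℚ) := fun W hW =>
    dot_pullback_point hd hd₁ x hx hN₁ e₁ (pullback.fst (C₁ ↘ Spec (CommRingCat.of k)) (C₂ ↘ Spec (CommRingCat.of k))) i₂ hk₂ sq₂ hW
  refine ⟨Q₁, Q₂, hQ₁, hQ₂, ?_, ?_, ?_, f₁, f₂⟩
  · obtain ⟨u⟩ := nonempty_iso_unit_of_subsingleton (Twist.isInvertible_pullback y hN₂)
    rw [f₁ Q₁ hQ₁, CurveCoh17.deg_iso (show (Scheme.Modules.pullback i₁).obj Q₁ ≅ Coh.structureModule C₁ from (Scheme.Modules.pullbackComp i₁ (pullback.snd (C₁ ↘ Spec (CommRingCat.of k)) (C₂ ↘ Spec (CommRingCat.of k)))).app N₂ ≪≫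
      (Scheme.Modules.pullbackCongr hi₁.2).app N₂ ≪≫ ((Scheme.Modules.pullbackComp (C₁ ↘ Spec (CommRingCat.of k)) y).app N₂).symm ≪≫
      (Scheme.Modules.pullback (C₁ ↘ Spec (CommRingCat.of k))).mapIso u ≪≫ Twist.pullbackUnitIso (C₁ ↘ Spec (CommRingCat.of k))), CurveCoh17.deg_structureModule,
      Int.cast_zero]
  · obtain ⟨u⟩ := nonempty_iso_unit_of_subsingleton (Twist.isInvertible_pullback x hN₁)
    rw [f₂ Q₂ hQ₂, CurveCoh17.deg_iso (show (Scheme.Modules.pullback i₂).obj Q₂ ≅ Coh.structureModule C₂ from (Scheme.Modules.pullbackComp i₂ (pullback.fst (C₁ ↘ Spec (CommRingCat.of k)) (C₂ ↘ Spec (CommRingCat.of k)))).app N₁ ≪≫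
      (Scheme.Modules.pullbackCongr hi₂.2).app N₁ ≪≫ ((Scheme.Modules.pullbackComp (C₂ ↘ Spec (CommRingCat.of k)) x).app N₁).symm ≪≫
      (Scheme.Modules.pullback (C₂ ↘ Spec (CommRingCat.of k))).mapIso u ≪≫ Twist.pullbackUnitIso (C₂ ↘ Spec (CommRingCat.of k))), CurveCoh17.deg_structureModule,
      Int.cast_zero]
  · rw [f₁ Q₂ hQ₂, CurveCoh17.deg_iso (show (Scheme.Modules.pullback i₁).obj Q₂ ≅ N₁ from (Scheme.Modules.pullbackComp i₁ (pullback.fst (C₁ ↘ Spec (CommRingCat.of k)) (C₂ ↘ Spec (CommRingCat.of k)))).app N₁ ≪≫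
      (Scheme.Modules.pullbackCongr hi₁.1).app N₁ ≪≫ (Scheme.Modules.pullbackId C₁).app N₁), hdeg₁, Int.cast_one]

/-- The inequality on the orthogonal of a hyperbolic plane. -/
theorem prod_ineq {X : Scheme.{u}} {k : Type u} [Field k] [X.Over (Spec (CommRingCat.of k))]
    [IsProper (X ↘ Spec (CommRingCat.of k))] [IsIntegral X] (hd : topologicalKrullDim X = ((2 : ℕ) : WithBot ℕ∞))
    {A P Q : X.Modules} (hA : CohB1.IsAmple A) (hP : PicF.IsInvertible P) (hQ : PicF.IsInvertible Q)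
    (hPP : dot k P P = 0) (hQQ : dot k Q Q = 0) (hPQ : dot k P Q = 1) {D D' : X.Modules} (hD : PicF.IsInvertible D)
    (hD' : PicF.IsInvertible D') :
    dot k D D ≤ 2 * dot k P D * dot k Q D ∧
      (dot k D D' - dot k P D * dot k Q D' - dot k Q D * dot k P D') ^ 2 ≤
        (2 * dot k P D * dot k Q D - dot k D D) * (2 * dot k P D' * dot k Q D' - dot k D' D') := by
  obtain ⟨H, hH, hHe⟩ := exists_comb (k := k) hd.le hP hQ 1 1
  have hHP : dot k H P = 1 := by rw [hHe P hP, hPP, dot_comm Q P, hPQ]; norm_num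
  have hHQ : dot k H Q = 1 := by rw [hHe Q hQ, hPQ, hQQ]; norm_num
  have hHH : 0 < dot k H H := by rw [hHe H hH, dot_comm P H, dot_comm Q H, hHP, hHQ]; norm_num
  -- the orthogonal component of a class
  have key : ∀ G, PicF.IsInvertible G → ∃ E, PicF.IsInvertible E ∧ ∀ W, PicF.IsInvertible W →
      dot k E W = dot k G W - dot k Q G * dot k P W - dot k P G * dot k Q W := fun G hG => by
    obtain ⟨a, ha⟩ := dot_int (k := k) hd.le hP hG
    obtain ⟨b, hb⟩ := dot_int (k := k) hd.le hQ hG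
    obtain ⟨U, hU, hUe⟩ := exists_comb (k := k) hd.le hP hQ (-b) (-a)
    refine ⟨_, M2.isInvertible_tensor hG hU, fun W hW => ?_⟩
    rw [dot_tensor hd.le hG hU hW, hUe W hW, ha, hb]
    push_cast
    ring
  obtain ⟨E, hE, hEe⟩ := key D hD
  obtain ⟨E', hE', hEe'⟩ := key D' hD'
  have hzero : ∀ {G F : X.Modules}, PicF.IsInvertible G → (∀ W, PicF.IsInvertible W →
      dot k F W = dot k G W - dot k Q G * dot k P W - dot k P G * dot k Q W) →
      dot k F P = 0 ∧ dot k F Q = 0 := fun {G F} hG h => by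
    constructor
    · rw [h P hP, hPP, dot_comm G P, dot_comm Q P, hPQ]; ring
    · rw [h Q hQ, hQQ, hPQ, dot_comm G Q]; ring
  obtain ⟨hEP, hEQ⟩ := hzero hD hEe
  obtain ⟨hEP', hEQ'⟩ := hzero hD' hEe'
  have hEE : dot k E E = dot k D D - 2 * dot k P D * dot k Q D := by
    rw [hEe E hE, dot_comm P E, hEP, dot_comm Q E, hEQ, dot_comm D E, hEe D hD]; ring
  have hEE' : dot k E' E' = dot k D' D' - 2 * dot k P D' * dot k Q D' := by
    rw [hEe' E' hE', dot_comm P E', hEP', dot_comm Q E', hEQ', dot_comm D' E', hEe' D' hD']; ring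
  have hX : dot k E E' = dot k D D' - dot k P D * dot k Q D' - dot k Q D * dot k P D' := by
    rw [hEe E' hE', dot_comm P E', hEP', dot_comm Q E', hEQ', dot_comm D E', hEe' D hD, dot_comm D' D]; ring
  have horth : ∀ u v : ℤ, (u : ℚ) ^ 2 * dot k E E + 2 * u * v * dot k E E' + (v : ℚ) ^ 2 * dot k E' E' ≤ 0 := by
    intro u v
    obtain ⟨F, hF, hFe⟩ := exists_comb (k := k) hd.le hE hE' u v
    have h := orth (k := k) hd hA hH hF hHH (by
      rw [hHe F hF, dot_comm P F, dot_comm Q F, hFe P hP, hFe Q hQ, hEP, hEQ, hEP', hEQ']; ring)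
    rw [hFe F hF, dot_comm E F, dot_comm E' F, hFe E hE, hFe E' hE', dot_comm E' E] at h
    linarith
  obtain ⟨e, he⟩ := dot_int (k := k) hd.le hE hE
  obtain ⟨g, hg⟩ := dot_int (k := k) hd.le hE hE'
  have h10 := horth 1 0
  simp only [Int.cast_one, one_pow, one_mul, Int.cast_zero, mul_zero, zero_mul, add_zero, ne_eq,
    OfNat.ofNat_ne_zero, not_false_eq_true, zero_pow] at h10
  refine ⟨by linarith, ?_⟩
  rw [← hX, show 2 * dot k P D * dot k Q D - dot k D D = - dot k E E by rw [hEE]; ring,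
    show 2 * dot k P D' * dot k Q D' - dot k D' D' = - dot k E' E' by rw [hEE']; ring]
  rcases h10.lt_or_eq with hlt | heq
  · have h := horth g (-e)
    rw [he, hg] at h
    push_cast at h
    rw [he, hg]
    rw [he] at hlt
    by_contra hneg
    push Not at hneg
    nlinarith [mul_neg_of_neg_of_pos hlt (sub_pos.2 hneg)]
  · obtain ⟨N, hN⟩ := exists_nat_gt (- dot k E' E')
    have hg0 : dot k E E' = 0 := by
      by_contra hne
      have hsq : (1 : ℚ) ≤ (g : ℚ) ^ 2 := by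
        have : (1 : ℤ) ≤ g ^ 2 := by
          have hg' : g ≠ 0 := fun h0 => hne (by rw [hg, h0, Int.cast_zero])
          have := mul_self_pos.2 hg'
          nlinarith
        exact_mod_cast this
      have h := horth (g * N) 1
      rw [heq, hg] at h
      push_cast at h
      nlinarith [mul_le_mul_of_nonneg_left hsq (Nat.cast_nonneg N : (0 : ℚ) ≤ N)]
    rw [hg0, heq]
    norm_num

end Groth.Agent.NumPoly18
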