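import Groth.Agent.Lib.NumPoly18.HodgeIndex
import Groth.Agent.Lib.NumPoly18.Surf
import Groth.Agent.Lib.NumPoly18.Trans

/-!
# The intersection form of a projective surface

Integer combinations, signature consequences of the Hodge index theorem, and its radical.
-/

set_option autoImplicit false
set_option linter.style.haveILetI false
set_option maxHeartbeats 800000
set_option backward.isDefEq.respectTransparency false

universe u

open CategoryTheory CategoryTheory.Limits AlgebraicGeometry TopologicalSpace Opposite Filter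

namespace Groth.Agent.NumPoly18

open Groth.Agent Groth.Agent.Snapper

variable {X : Scheme.{u}} {k : Type u} [Field k] [X.Over (Spec (CommRingCat.of k))]
  [IsProper (X ↘ Spec (CommRingCat.of k))]

theorem intNum2 (hd : topologicalKrullDim X ≤ ((2 : ℕ) : WithBot ℕ∞)) {A B : X.Modules}
    (hA : PicF.IsInvertible A) (hB : PicF.IsInvertible B) :
    (FGA.intNum k X 2 ![A, B] (Coh.structureModule X) : ℚ) = dot k A B := by
  rw [intNum_eq_mixedDiff hd (M := ![A, B]) (fun i => by fin_cases i <;> assumption) (M1.isCoh_structureModule X),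
    dot, ← vec2_eq_cons, md]
  ring

theorem intNum2_inverse (hd : topologicalKrullDim X ≤ ((2 : ℕ) : WithBot ℕ∞)) {A A' B B' : X.Modules}
    (hA : PicF.IsInvertible A) (hA' : PicF.IsInvertible A') (e : CohB1.tensorMod A A' ≅ Coh.structureModule X)
    (hB : PicF.IsInvertible B) (hB' : PicF.IsInvertible B') (e' : CohB1.tensorMod B B' ≅ Coh.structureModule X) :
    (FGA.intNum k X 2 ![A', B'] (Coh.structureModule X) : ℚ) = dot k A B := by
  rw [intNum2 hd hA' hB', dot_inverse hd hA hA' e hB', dot_comm, dot_inverse hd hB hB' e' hA, dot_comm B, neg_neg]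

theorem dot_int (hd : topologicalKrullDim X ≤ ((2 : ℕ) : WithBot ℕ∞)) {A B : X.Modules}
    (hA : PicF.IsInvertible A) (hB : PicF.IsInvertible B) : ∃ z : ℤ, dot k A B = z :=
  ⟨_, (intNum2 hd hA hB).symm⟩

/-- An integer multiple. -/
theorem exists_smul (hd : topologicalKrullDim X ≤ ((2 : ℕ) : WithBot ℕ∞)) {L : X.Modules}
    (hL : PicF.IsInvertible L) (u : ℤ) :
    ∃ U : X.Modules, PicF.IsInvertible U ∧ ∀ Z, PicF.IsInvertible Z → dot k U Z = (u : ℚ) * dot k L Z := by
  obtain ⟨n, rfl | rfl⟩ := Int.eq_nat_or_neg u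
  · exact ⟨CohB1.tensorPow L n, M2.isInvertible_tensorPow hL n, fun Z hZ => by rw [dot_pow hd hL hZ]; norm_num⟩
  · obtain ⟨L', hL', ⟨e⟩⟩ := M2.exists_inverse hL
    exact ⟨CohB1.tensorPow L' n, M2.isInvertible_tensorPow hL' n, fun Z hZ => by
      rw [dot_pow hd hL' hZ, dot_inverse hd hL hL' e hZ]; push_cast; ring⟩

/-- An integer combination. -/
theorem exists_comb (hd : topologicalKrullDim X ≤ ((2 : ℕ) : WithBot ℕ∞)) {L M : X.Modules}
    (hL : PicF.IsInvertible L) (hM : PicF.IsInvertible M) (u v : ℤ) :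
    ∃ C : X.Modules, PicF.IsInvertible C ∧
      ∀ Z, PicF.IsInvertible Z → dot k C Z = (u : ℚ) * dot k L Z + (v : ℚ) * dot k M Z := by
  obtain ⟨U, hU, hUe⟩ := exists_smul (k := k) hd hL u
  obtain ⟨V, hV, hVe⟩ := exists_smul (k := k) hd hM v
  exact ⟨CohB1.tensorMod U V, M2.isInvertible_tensor hU hV, fun Z hZ => by
    rw [dot_tensor hd hU hV hZ, hUe Z hZ, hVe Z hZ]⟩

section

variable [IsIntegral X] (hd : topologicalKrullDim X = ((2 : ℕ) : WithBot ℕ∞))
include hd

/-- `L² H² ≤ (L H)²`. -/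
theorem sq_le {A L : X.Modules} (hA : CohB1.IsAmple A) (hL : PicF.IsInvertible L) :
    dot k L L * dot k A A ≤ dot k L A ^ 2 := by
  obtain ⟨a, ha⟩ := dot_int (k := k) hd.le hA.1 hA.1
  obtain ⟨b, hb⟩ := dot_int (k := k) hd.le hL hA.1
  have ha0 : 0 ≤ a := by
    have h := (dot_self_pos (k := k) hd hA).le
    rw [ha] at h
    exact_mod_cast h
  exact dot_mul_le_sq hd hA hL (a := a.toNat) (b := b.natAbs)
    (by rw [ha, ← Int.cast_natCast (R := ℚ), Int.toNat_of_nonneg ha0])
    (by rw [hb, Nat.cast_natAbs, Int.cast_abs])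

theorem dot_ne_zero {A L : X.Modules} (hA : CohB1.IsAmple A) (hL : PicF.IsInvertible L) (h : 0 < dot k L L) :
    dot k L A ≠ 0 := fun h0 => (hodge_index hd hA hL h0).not_gt h

/-- The orthogonal of a class with positive square is negative semidefinite. -/
theorem orth {A L M : X.Modules} (hA : CohB1.IsAmple A) (hL : PicF.IsInvertible L) (hM : PicF.IsInvertible M)
    (hLL : 0 < dot k L L) (hLM : dot k L M = 0) : dot k M M ≤ 0 := by
  obtain ⟨p, hp⟩ := dot_int (k := k) hd.le hM hA.1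
  obtain ⟨q, hq⟩ := dot_int (k := k) hd.le hL hA.1
  obtain ⟨C, hC, hCe⟩ := exists_comb (k := k) hd.le hL hM (-p) q
  have h0 := hodge_index (k := k) hd hA hC (by rw [hCe A hA.1, hp, hq]; push_cast; ring)
  rw [hCe C hC, dot_comm L C, dot_comm M C, hCe L hL, hCe M hM, dot_comm M L, hLM] at h0
  have hq0 : (q : ℚ) ≠ 0 := hq ▸ dot_ne_zero hd hA hL hLL
  by_contra hneg
  push Not at hneg
  push_cast at h0
  nlinarith [mul_pos (lt_of_le_of_ne (sq_nonneg (q : ℚ)) (Ne.symm (pow_ne_zero 2 hq0))) hneg,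
    mul_nonneg (sq_nonneg (p : ℚ)) hLL.le]

/-- `L² M² ≤ (L M)²` when `L² > 0`. -/
theorem mul_le_sq {A L M : X.Modules} (hA : CohB1.IsAmple A) (hL : PicF.IsInvertible L) (hM : PicF.IsInvertible M)
    (hLL : 0 < dot k L L) : dot k L L * dot k M M ≤ dot k L M ^ 2 := by
  obtain ⟨p, hp⟩ := dot_int (k := k) hd.le hL hM
  obtain ⟨q, hq⟩ := dot_int (k := k) hd.le hL hL
  obtain ⟨C, hC, hCe⟩ := exists_comb (k := k) hd.le hL hM (-p) q
  have hLC : dot k L C = 0 := by
    rw [dot_comm, hCe L hL, dot_comm M L, hp, hq]; push_cast; ring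
  have h0 := orth (k := k) hd hA hL hC hLL hLC
  rw [hCe C hC, hLC, dot_comm M C, hCe M hM] at h0
  push_cast at h0
  rw [hq] at hLL ⊢
  rw [hp] at h0 ⊢
  by_contra hneg
  push Not at hneg
  nlinarith [mul_pos hLL (sub_pos.2 hneg)]

/-- The radical: an isotropic class orthogonal to a positive one is numerically trivial. -/
theorem radical {A L M : X.Modules} (hA : CohB1.IsAmple A) (hL : PicF.IsInvertible L) (hM : PicF.IsInvertible M)
    (hLL : 0 < dot k L L) (hLM : dot k L M = 0) (hMM : dot k M M = 0) {Z : X.Modules} (hZ : PicF.IsInvertible Z) :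
    dot k M Z = 0 := by
  obtain ⟨a, ha⟩ := dot_int (k := k) hd.le hL hZ
  obtain ⟨q, hq⟩ := dot_int (k := k) hd.le hL hL
  obtain ⟨z, hz⟩ := dot_int (k := k) hd.le hM hZ
  obtain ⟨C, hC, hCe⟩ := exists_comb (k := k) hd.le hL hZ (-a) q
  have hCL : dot k C L = 0 := by
    rw [hCe L hL, dot_comm Z L, ha, hq]; push_cast; ring
  have hCM : dot k C M = q * z := by
    rw [hCe M hM, hLM, dot_comm Z M, hz]; push_cast; ring
  by_contra hne
  have hq' : (0 : ℚ) < q := hq ▸ hLL
  have hz0 : (0 : ℚ) < (z : ℚ) ^ 2 := lt_of_le_of_ne (sq_nonneg _) (Ne.symm (pow_ne_zero 2 (hz ▸ hne)))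
  obtain ⟨N, hN⟩ := exists_nat_gt ((- dot k C C) / (2 * q * (z : ℚ) ^ 2))
  rw [div_lt_iff₀ (by positivity)] at hN
  obtain ⟨D, hD, hDe⟩ := exists_comb (k := k) hd.le hM hC ((N : ℤ) * z) 1
  have h0 := orth (k := k) hd hA hL hD hLL (by rw [dot_comm, hDe L hL, dot_comm M L, hLM, hCL]; ring)
  rw [hDe D hD, dot_comm M D, dot_comm C D, hDe M hM, hDe C hC, hMM, dot_comm M C, hCM] at h0
  push_cast at h0
  linarith

/-- With positive square, positive degree amounts to having sections of all large powers. -/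
theorem eventually_sections {A L : X.Modules} (hA : CohB1.IsAmple A) (hL : PicF.IsInvertible L)
    (hLL : 0 < dot k L L) (h : 0 < dot k L A) :
    ∃ c : ℚ, 0 < c ∧ ∃ n₀ : ℕ, ∀ n : ℕ, n₀ ≤ n →
      c * (n : ℚ) ^ 2 < (Module.finrank k (Coh.HH X (CohB1.tensorPow L n) 0) : ℚ) := by
  obtain ⟨m, φ, hm, hφ⟩ := big_of_dot_pos hd hA hL hLL h.le
  haveI := hφ
  obtain ⟨C, hC, n₁, hn₁⟩ := growth_of_mono k hd hA hL hm φ
  refine ⟨C / 2, half_pos hC, n₁ + 1, fun n hn => lt_of_lt_of_le ?_ (hn₁ n (by omega))⟩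
  have : (0 : ℚ) < (n : ℚ) ^ 2 := pow_pos (Nat.cast_pos.2 (by omega)) 2
  nlinarith

end

end Groth.Agent.NumPoly18
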