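import Groth.Agent.Lib.NumPoly18.FamilyEuler
import Groth.Agent.Lib.VarDim.Irred

/-!
# Classes τ-equivalent to zero
-/

set_option autoImplicit false
set_option linter.style.haveILetI false
set_option maxHeartbeats 1600000
set_option backward.isDefEq.respectTransparency false

universe u

open CategoryTheory CategoryTheory.Limits AlgebraicGeometry TopologicalSpace Opposite

namespace Groth.Agent.NumPoly18

open Groth.Agent Groth.Agent.Snapper

variable {k : Type u} [Field k] {X : Scheme.{u}} [X.Over (Spec (CommRingCat.of k))]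
  [IsProper (X ↘ Spec (CommRingCat.of k))]

noncomputable def powUnitIso : ∀ m : ℕ, CohB1.tensorPow (Coh.structureModule X) m ≅ Coh.structureModule X
  | 0 => Iso.refl _
  | m + 1 => M2.tensorIso (powUnitIso m) (Iso.refl _) ≪≫ M2.tensorLUnit _

/-- All powers of a class τ-equivalent to zero preserve Euler characteristics. -/
theorem euler_tensorPow_eq_of_tau {d : ℕ} (hd : topologicalKrullDim X ≤ (d : WithBot ℕ∞)) {L : X.Modules}
    (hL : PicF.IsInvertible L) (h : Pic13.IsTauEquivZero k X L) {F : X.Modules} (hF : Coh.IsCoh F) (m : ℕ) :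
    Curv2.euler k X (CohB1.tensorMod F (CohB1.tensorPow L m)) = Curv2.euler k X F := by
  obtain ⟨n, hn, halg⟩ := h
  have hcoh : ∀ i, Coh.IsCoh (CohB1.tensorMod F (CohB1.tensorPow L i)) := fun i =>
    CurveCoh17.isCoh_tensor hF (isCoh_of_isInvertible (M2.isInvertible_tensorPow hL i))
  have step : ∀ j : ℕ, Curv2.euler k X (CohB1.tensorMod F (CohB1.tensorPow L (n * j))) = Curv2.euler k X F := by
    intro j
    induction j with
    | zero => exact CurveCoh17.euler_iso (M2.tensorRUnit F)
    | succ j ih =>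
      refine Eq.trans ?_ ((euler_tensor_eq_of_isAlgEquivZero halg (hcoh (n * j))).trans ih)
      exact CurveCoh17.euler_iso (M2.tensorIso (Iso.refl F) (M2.tensorPowAdd L (n * j) n) ≪≫
        (M2.tensorAssoc F _ _).symm)
  obtain ⟨Q, hQ, -, -⟩ := exists_isHilbPoly_dim k hL hF (dim_support_le hd F)
  have hQ' : ∀ i : ℕ, (Curv2.euler k X (CohB1.tensorMod F (CohB1.tensorPow L i)) : ℚ) = Q.eval (i : ℚ) :=
    fun i => hQ i
  have hQc : Q - Polynomial.C ((Curv2.euler k X F : ℤ) : ℚ) = 0 := by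
    refine Polynomial.eq_zero_of_infinite_isRoot _ (Set.Infinite.mono ?_
      (Set.infinite_range_of_injective (f := fun j : ℕ => (((n * j : ℕ)) : ℚ)) fun a b hab => ?_))
    · rintro _ ⟨j, rfl⟩
      simp only [Set.mem_setOf_eq, Polynomial.IsRoot.def, Polynomial.eval_sub, Polynomial.eval_C]
      rw [← hQ' (n * j), step j, sub_self]
    · exact Nat.eq_of_mul_eq_mul_left hn (Nat.cast_injective hab)
  have h1 := hQ' m
  rw [sub_eq_zero.1 hQc, Polynomial.eval_C] at h1
  exact Int.cast_injective h1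

theorem euler_tensor_eq_of_tau {d : ℕ} (hd : topologicalKrullDim X ≤ (d : WithBot ℕ∞)) {L : X.Modules}
    (hL : PicF.IsInvertible L) (h : Pic13.IsTauEquivZero k X L) {F : X.Modules} (hF : Coh.IsCoh F) :
    Curv2.euler k X (CohB1.tensorMod F L) = Curv2.euler k X F :=
  (CurveCoh17.euler_iso (M2.tensorIso (Iso.refl F) (M2.tensorPowOne L).symm)).trans
    (euler_tensorPow_eq_of_tau hd hL h hF 1)

/-- Negative powers too. -/
theorem euler_tensorPow_inverse_eq_of_tau {d : ℕ} (hd : topologicalKrullDim X ≤ (d : WithBot ℕ∞)) {L L' : X.Modules}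
    (hL : PicF.IsInvertible L) (hL' : PicF.IsInvertible L') (e : CohB1.tensorMod L L' ≅ Coh.structureModule X)
    (h : Pic13.IsTauEquivZero k X L) {F : X.Modules} (hF : Coh.IsCoh F) (m : ℕ) :
    Curv2.euler k X (CohB1.tensorMod F (CohB1.tensorPow L' m)) = Curv2.euler k X F := by
  rw [← euler_tensorPow_eq_of_tau hd hL h
    (CurveCoh17.isCoh_tensor hF (isCoh_of_isInvertible (M2.isInvertible_tensorPow hL' m))) m]
  exact CurveCoh17.euler_iso (M2.tensorAssoc _ _ _ ≪≫ M2.tensorIso (Iso.refl F)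
    ((M2.tensorPowMul L' L m).symm ≪≫ M2.tensorPowIso (M2.tensorComm L' L ≪≫ e) m ≪≫ powUnitIso m) ≪≫
      M2.tensorRUnit F)

/-- Classes τ-equivalent to zero have degree zero on one-dimensional coherent modules. -/
theorem cdeg_eq_zero_of_tau {d : ℕ} (hd : topologicalKrullDim X ≤ (d : WithBot ℕ∞)) {L : X.Modules}
    (hL : PicF.IsInvertible L) (h : Pic13.IsTauEquivZero k X L) {F : X.Modules} (hF : Coh.IsCoh F) :
    cdeg k L F = 0 := by
  show md k (fun _ : Fin (0 + 1) => L) F = 0
  rw [const_eq_cons L, md_cons, md_zero_vars, md_zero_vars]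
  have h1 := euler_tensor_eq_of_tau hd hL h hF
  rw [h1, sub_self]

theorem isNumEquivZero_of_tau {d : ℕ} (hd : topologicalKrullDim X ≤ (d : WithBot ℕ∞)) {L : X.Modules}
    (hL : PicF.IsInvertible L) (h : Pic13.IsTauEquivZero k X L) : Pic13.IsNumEquivZero k X L := by
  intro Y i _ hY hd1
  haveI : IsNoetherian X := CohFound.isNoetherian_of_isProper (X ↘ (Spec (CommRingCat.of k)))
  haveI : IsLocallyNoetherian Y := LocallyOfFiniteType.isLocallyNoetherian i
  have h0 := cdeg_eq_zero_of_tau hd hL h (CohFound.isCoh_push_closedImm i (M1.isCoh_structureModule Y))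
  rw [← curveDeg_eq_cdeg i hd1.le hL] at h0
  exact Int.cast_eq_zero.1 h0

theorem nef_of_tau {d : ℕ} (hd : topologicalKrullDim X ≤ (d : WithBot ℕ∞)) {L : X.Modules}
    (hL : PicF.IsInvertible L) (h : Pic13.IsTauEquivZero k X L) : Nef k L := fun ξ _ => by
  haveI : IsNoetherian X := CohFound.isNoetherian_of_isProper (X ↘ (Spec (CommRingCat.of k)))
  exact (cdeg_eq_zero_of_tau hd hL h (isCoh_ptMod ξ)).ge

theorem nef_inverse_of_tau {d : ℕ} (hd : topologicalKrullDim X ≤ (d : WithBot ℕ∞)) {L L' : X.Modules}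
    (hL : PicF.IsInvertible L) (hL' : PicF.IsInvertible L') (e : CohB1.tensorMod L L' ≅ Coh.structureModule X)
    (h : Pic13.IsTauEquivZero k X L) : Nef k L' := fun ξ _ => by
  haveI : IsNoetherian X := CohFound.isNoetherian_of_isProper (X ↘ (Spec (CommRingCat.of k)))
  have h1 := euler_tensorPow_inverse_eq_of_tau hd hL hL' e h (isCoh_ptMod ξ) 1
  rw [CurveCoh17.euler_iso (M2.tensorIso (Iso.refl (ptMod ξ)) (M2.tensorPowOne L'))] at h1
  show 0 ≤ md k (fun _ : Fin (0 + 1) => L') (ptMod ξ)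
  rw [const_eq_cons L', md_cons, md_zero_vars, md_zero_vars, h1, sub_self]

/-- A scheme proper over a field has finite dimension. -/
theorem exists_dim_le (k : Type u) [Field k] (X : Scheme.{u}) [X.Over (Spec (CommRingCat.of k))]
    [IsProper (X ↘ Spec (CommRingCat.of k))] : ∃ N : ℕ, topologicalKrullDim X ≤ (N : WithBot ℕ∞) := by
  by_cases h : Nonempty X
  · obtain ⟨x, hx, -⟩ := VarDim.exists_dim_eq (X ↘ Spec (CommRingCat.of k))
    exact ⟨_, hx.le⟩
  · haveI := not_nonempty_iff.mp h
    exact ⟨0, by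
      haveI : IsEmpty (IrreducibleCloseds X) := ⟨fun s => (IsEmpty.false (α := X) s.isIrreducible'.nonempty.some)⟩
      exact (le_of_eq Order.krullDim_eq_bot).trans bot_le⟩

end Groth.Agent.NumPoly18
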