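import Groth.Agent.Lib.NumPoly18.Kleiman
import Groth.Agent.Lib.CohFound.FiniteFibre
import Groth.Agent.Lib.CohFound.RpushCoh
import Groth.Agent.Lib.CohFound.ModulesInst
import Groth.Agent.Lib.H12.Dim
import Groth.Agent.Lib.AmpleFin18.Birational

/-!
# Intersection numbers and direct images along proper morphisms
-/

set_option autoImplicit false
set_option linter.style.haveILetI false
set_option maxHeartbeats 800000
set_option backward.isDefEq.respectTransparency false

universe u

open CategoryTheory CategoryTheory.Limits AlgebraicGeometry TopologicalSpace Opposite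

namespace Groth.Agent.NumPoly18

open Groth.Agent Groth.Agent.Snapper Groth.Agent.CohFound

section Top

variable {X X' : Scheme.{u}} (f : X' ⟶ X)

/-- The image of a closed set under a proper map has at most its dimension. -/
theorem dim_image_le [IsProper f] {Z : Set X'} (hZ : IsClosed Z) :
    topologicalKrullDim (f '' Z : Set X) ≤ topologicalKrullDim Z := by
  haveI : QuasiSober Z := hZ.isClosedEmbedding_subtypeVal.quasiSober
  haveI : QuasiSober (f '' Z : Set X) := (f.isClosedMap _ hZ).isClosedEmbedding_subtypeVal.quasiSober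
  let g : Z → (f '' Z : Set X) := fun z => ⟨f z, ⟨z, z.2, rfl⟩⟩
  refine H12.topologicalKrullDim_le_of_surjective_of_lift g ?_ (Or.inl ?_)
  · rintro ⟨_, z, hz, rfl⟩
    exact ⟨⟨z, hz⟩, rfl⟩
  · refine IsClosedMap.specializingMap fun C hC => ?_
    rw [(f.isClosedMap _ hZ).isClosedEmbedding_subtypeVal.isClosed_iff_image_isClosed, ← Set.image_comp]
    show IsClosed ((fun z : Z => f z) '' C)
    rw [show (fun z : Z => f z) = f ∘ Subtype.val from rfl, Set.image_comp]
    exact f.isClosedMap _ ((hZ.isClosedEmbedding_subtypeVal.isClosed_iff_image_isClosed).1 hC)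

theorem dim_closure_image_le [IsProper f] {Z : Set X'} (hZ : IsClosed Z) {η : X'} (hη : η ∈ Z) :
    topologicalKrullDim (closure ({f η} : Set X)) ≤ topologicalKrullDim Z :=
  (dim_le_of_subset ((f.isClosedMap _ hZ).closure_subset_iff.2
    (Set.singleton_subset_iff.2 ⟨η, hη, rfl⟩)) le_rfl).trans (dim_image_le f hZ)

/-- Dimensions are detected by points. -/
theorem dim_le_of_points {C : Set X} (hC : IsClosed C) {d : WithBot ℕ∞}
    (h : ∀ x ∈ C, topologicalKrullDim (closure ({x} : Set X)) ≤ d) : topologicalKrullDim C ≤ d := by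
  haveI : QuasiSober C := hC.isClosedEmbedding_subtypeVal.quasiSober
  rw [H12.topologicalKrullDim_eq_krullDim_specializationOrder]
  refine iSup_le fun p => ?_
  let o := (specializationOrder C).toPreorder
  let top : C := p.last
  refine le_trans ?_ (h top.1 top.2)
  let Z : Set X := closure ({top.1} : Set X)
  haveI : QuasiSober Z := isClosed_closure.isClosedEmbedding_subtypeVal.quasiSober
  change _ ≤ topologicalKrullDim Z
  rw [H12.topologicalKrullDim_eq_krullDim_specializationOrder]
  have hle : ∀ i, top ⤳ p.toFun i := fun i => @LTSeries.monotone C o p _ _ (Fin.le_last i)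
  have hmem : ∀ i, (p.toFun i).1 ∈ Z := fun i =>
    specializes_iff_mem_closure.1 ((hle i).map continuous_subtype_val)
  refine le_iSup_of_le ⟨p.length, fun i => (⟨(p.toFun i).1, hmem i⟩ : Z), fun i => ?_⟩ le_rfl
  have hlt := (@lt_iff_le_not_ge C o _ _).1 (p.step i)
  refine (@lt_iff_le_not_ge Z (specializationOrder Z).toPreorder _ _).2 ⟨?_, fun e => hlt.2 ?_⟩
  · exact Topology.IsInducing.subtypeVal.specializes_iff.1
      ((show p.toFun i.succ ⤳ p.toFun i.castSucc from hlt.1).map continuous_subtype_val)
  · exact Topology.IsInducing.subtypeVal.specializes_iff.1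
      ((show (⟨(p.toFun i.castSucc).1, hmem _⟩ : Z) ⤳ ⟨(p.toFun i.succ).1, hmem _⟩ from e).map continuous_subtype_val)

theorem support_push_subset_image {Z : Set X'} {F : X'.Modules} (hF : CohB1.support F ⊆ Z)
    (hZ : IsClosed (f '' Z)) : CohB1.support ((Scheme.Modules.pushforward f).obj F) ⊆ f '' Z := by
  intro x hx
  by_contra hxZ
  refine hx ⟨fun a b => ?_⟩
  have key : ∀ a : ((Scheme.Modules.pushforward f).obj F).presheaf.stalk x, a = 0 := fun a => by
    obtain ⟨W, hW, s, rfl⟩ := TopCat.Presheaf.exists_germ_eq _ a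
    let W' : X.Opens := W ⊓ ⟨_, hZ.isOpen_compl⟩
    have hxW' : x ∈ W' := ⟨hW, hxZ⟩
    have h0 : M1.mres ((Scheme.Modules.pushforward f).obj F) (inf_le_left : W' ≤ W) s = 0 := by
      refine M1.section_ext (M := F) (U := f ⁻¹ᵁ W') _ _ fun y hy => ?_
      have hy' : y ∉ CohB1.support F := fun h => hy.2 ⟨y, hF h, rfl⟩
      exact @Subsingleton.elim _ (not_not.1 hy') _ _
    rw [← M1.germ_mres _ (inf_le_left : W' ≤ W) hxW' s, h0, map_zero]
  rw [key a, key b]

/-- Sections of an isomorphism. -/
theorem bijective_app_iso {M N : X'.Modules} (φ : M ⟶ N) [IsIso φ] (U : X'.Opens) :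
    Function.Bijective (φ.app U) := by
  refine Function.bijective_iff_has_inverse.2 ⟨(inv φ).app U, fun a => ?_, fun a => ?_⟩
  · exact ConcreteCategory.congr_hom (congrArg (fun z => Scheme.Modules.Hom.app z U) (IsIso.hom_inv_id φ)) a
  · exact ConcreteCategory.congr_hom (congrArg (fun z => Scheme.Modules.Hom.app z U) (IsIso.inv_hom_id φ)) a

/-- Direct images are exact at the points over which the support is finite. -/
theorem notMem_support_coker_push [IsProper f] [IsLocallyNoetherian X] [IsNoetherian X'] {A B : X'.Modules}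
    (v : A ⟶ B) [Epi v] (hA : Coh.IsCoh A) (hB : Coh.IsCoh B) {x : X}
    (hx : (CohB1.support A ∩ f ⁻¹' {x}).Finite) :
    x ∉ CohB1.support (cokernel ((Scheme.Modules.pushforward f).map v)) := by
  let J := M1.annSheaf hA.1 hA.2
  let j := J.subschemeι
  haveI := hA.1
  haveI := hB.1
  have hkA : ∀ (U : X'.affineOpens) (a : Γ(X', U.1)), a ∈ j.ker.ideal U → ∀ s : Γ(A, U.1), a • s = 0 :=
    fun U a ha s => by
      rw [Scheme.IdealSheafData.ker_subschemeι, M1.annSheaf_ideal] at ha
      exact Module.mem_annihilator.1 ha s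
  have hkB : ∀ (U : X'.affineOpens) (a : Γ(X', U.1)), a ∈ j.ker.ideal U → ∀ s : Γ(B, U.1), a • s = 0 :=
    fun U a ha s => by
      obtain ⟨t, rfl⟩ := M1.app_surjective_affine_of_isQCoh hA.1 hB.1 v U.2 s
      rw [← Scheme.Modules.Hom.app_smul, hkA U a ha t, map_zero]
  let adj := Scheme.Modules.pullbackPushforwardAdjunction j
  haveI := M1.isIso_unit_of_ker_smul j A hA.1 hkA
  haveI := M1.isIso_unit_of_ker_smul j B hB.1 hkB
  let v' := (Scheme.Modules.pullback j).map v
  haveI : Epi v' := inferInstance
  have hr : Set.range j = CohB1.support A := by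
    rw [Scheme.IdealSheafData.range_subschemeι]
    exact M1.support_annSheaf hA.1 hA.2
  have hfin : ((j ≫ f).base ⁻¹' {x}).Finite := by
    refine Set.Finite.of_finite_image ?_ j.isClosedEmbedding.injective.injOn
    refine hx.subset ?_
    rintro _ ⟨z, hz, rfl⟩
    exact ⟨hr.le ⟨z, rfl⟩, (Scheme.Hom.comp_apply j f z).symm.trans hz⟩
  obtain ⟨V, hxV, hV⟩ := exists_isAffineOpen_preimage_of_finite_fibre (j ≫ f) x hfin
  obtain ⟨W, hW, hxW, hWV⟩ := exists_isAffineOpen_mem_and_subset (U := V) hxV
  refine (M1.notMem_support_iff _ _).2 (CurveCoh17.eq_zero_stalk_cokernel _ _ fun a => ?_)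
  obtain ⟨U, hxU, s, rfl⟩ := TopCat.Presheaf.exists_germ_eq _ a
  obtain ⟨W', hW', hxW', hW'U⟩ := exists_isAffineOpen_mem_and_subset (U := U ⊓ W) (x := x) ⟨hxU, hxW⟩
  have haff : IsAffineOpen (j ⁻¹ᵁ (f ⁻¹ᵁ W')) :=
    Scheme.Hom.comp_preimage j f W' ▸ hV W' hW' ((hW'U.trans inf_le_right).trans hWV)
  have hnat := adj.unit.naturality v
  obtain ⟨t, ht⟩ := M1.app_surjective_affine_of_isQCoh (M1.isQCoh_pullback j hA.1) (M1.isQCoh_pullback j hB.1) v' haff
    ((adj.unit.app B).app (f ⁻¹ᵁ W') (M1.mres B (f.preimage_mono (hW'U.trans inf_le_left)) s))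
  obtain ⟨t₀, rfl⟩ := (bijective_app_iso (adj.unit.app A) (f ⁻¹ᵁ W')).2 t
  have hv : v.app (f ⁻¹ᵁ W') t₀ = M1.mres B (f.preimage_mono (hW'U.trans inf_le_left)) s :=
    (bijective_app_iso (adj.unit.app B) (f ⁻¹ᵁ W')).1
      ((ConcreteCategory.congr_hom (congrArg (fun z => Scheme.Modules.Hom.app z (f ⁻¹ᵁ W')) hnat) t₀).trans ht)
  refine ⟨((Scheme.Modules.pushforward f).obj A).presheaf.germ W' x hxW' t₀, ?_⟩
  rw [CurveCoh17.stalkLin_apply]
  refine (TopCat.Presheaf.stalkFunctor_map_germ_apply W' x hxW' ((Scheme.Modules.pushforward f).map v).mapPresheaf t₀).trans ?_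
  refine (congrArg _ hv).trans ?_
  exact M1.germ_mres ((Scheme.Modules.pushforward f).obj B) (hW'U.trans inf_le_left) hxW' s

end Top

section Push

variable {X X' : Scheme.{u}} {k : Type u} [Field k] [X.Over (Spec (CommRingCat.of k))]
  [X'.Over (Spec (CommRingCat.of k))] [IsProper (X ↘ Spec (CommRingCat.of k))]
  [IsProper (X' ↘ Spec (CommRingCat.of k))] (f : X' ⟶ X) [IsProper f]

include k in
theorem isCoh_push_proper {F : X'.Modules} (hF : Coh.IsCoh F) :
    Coh.IsCoh ((Scheme.Modules.pushforward f).obj F) := by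
  haveI : IsNoetherian X := CohFound.isNoetherian_of_isProper (X ↘ (Spec (CommRingCat.of k)))
  haveI : (Scheme.Modules.pushforward f).IsRightAdjoint :=
    (Scheme.Modules.pullbackPushforwardAdjunction f).isRightAdjoint
  haveI : PreservesFiniteLimits (Scheme.Modules.pushforward f) := inferInstance
  exact CohFound.isCoh_of_iso ((Functor.rightDerivedZeroIsoSelf _).app F) (CohFound.isCoh_rpush f hF 0)

omit [X'.Over (Spec (CommRingCat.of k))] [IsProper f] in
/-- Numbers of modules without top-dimensional support vanish. -/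
theorem md_eq_zero_of_points {r : ℕ} {M : Fin r → X.Modules} (hM : ∀ i, PicF.IsInvertible (M i))
    {G : X.Modules} (hG : Coh.IsCoh G)
    (h : ∀ x ∈ CohB1.support G, topologicalKrullDim (closure ({x} : Set X)) < (r : WithBot ℕ∞)) :
    md k M G = 0 := by
  rw [md_eq_sum hM (M1.isClosed_support hG.2) (dim_le_of_points (M1.isClosed_support hG.2) fun x hx => (h x hx).le) ∅
    (fun ξ => ⟨fun h' => absurd h' (Finset.notMem_empty ξ), fun h' => absurd h'.2 (h ξ h'.1).ne⟩) hG subset_rfl,
    Finset.sum_empty]

variable (k) in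
/-- The defect of compatibility with direct images. -/
noncomputable def defect {r : ℕ} (M : Fin r → X.Modules) (F : X'.Modules) : ℚ :=
  md k (fun i => (Scheme.Modules.pullback f).obj (M i)) F - md k M ((Scheme.Modules.pushforward f).obj F)

theorem defect_iso {r : ℕ} (M : Fin r → X.Modules) {F G : X'.Modules} (e : F ≅ G) :
    defect k f M F = defect k f M G := by
  simp only [defect]
  rw [md_iso _ e, md_iso _ ((Scheme.Modules.pushforward f).mapIso e)]

/-- The fibres in `Z` over the points of dimension at least `r` are finite. -/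
def FibFin (Z : Set X') (r : ℕ) : Prop :=
  ∀ x : X, (r : WithBot ℕ∞) ≤ topologicalKrullDim (closure ({x} : Set X)) → (Z ∩ f ⁻¹' {x}).Finite

theorem defect_shortExact {r : ℕ} {M : Fin r → X.Modules} (hM : ∀ i, PicF.IsInvertible (M i)) {Z : Set X'}
    (hfin : FibFin f Z r) {S : ShortComplex X'.Modules} (hS : S.ShortExact) (h₁ : Coh.IsCoh S.X₁)
    (h₂ : Coh.IsCoh S.X₂) (h₃ : Coh.IsCoh S.X₃) (hsup : CohB1.support S.X₂ ⊆ Z) :
    defect k f M S.X₂ = defect k f M S.X₁ + defect k f M S.X₃ := by
  haveI : IsNoetherian X := CohFound.isNoetherian_of_isProper (X ↘ (Spec (CommRingCat.of k)))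
  haveI : IsNoetherian X' := CohFound.isNoetherian_of_isProper (X' ↘ (Spec (CommRingCat.of k)))
  haveI := hS.epi_g
  haveI := hS.mono_f
  let P := Scheme.Modules.pushforward f
  have hshort := hS
  haveI : P.IsRightAdjoint := (Scheme.Modules.pullbackPushforwardAdjunction f).isRightAdjoint
  haveI : PreservesFiniteLimits P := inferInstance
  have p₁ := isCoh_push_proper (k := k) f h₁
  have p₂ := isCoh_push_proper (k := k) f h₂
  have p₃ := isCoh_push_proper (k := k) f h₃
  have eK : kernel (P.map S.g) ≅ P.obj S.X₁ :=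
    (PreservesKernel.iso P S.g).symm ≪≫
      P.mapIso (IsLimit.conePointUniqueUpToIso (kernelIsKernel S.g) hS.exact.fIsKernel)
  have h0 : md k M (cokernel (P.map S.g)) = 0 :=
    md_eq_zero_of_points hM (M1.isCoh_cokernel p₂.1 p₃ _) fun x hx => by
      by_contra hd
      exact notMem_support_coker_push f S.g h₂ h₃ ((hfin x (not_lt.1 hd)).subset
        (Set.inter_subset_inter_left _ hsup)) hx
  have h := md_hom (k := k) hM (P.map S.g) p₂ p₃
  rw [h0, md_iso M eK] at h
  have h' := md_shortExact (k := k) (L := fun i => (Scheme.Modules.pullback f).obj (M i))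
    (fun i => Twist.isInvertible_pullback f (hM i)) hS h₁ h₂ h₃
  simp only [defect]
  linarith

/-- Dévissage along a homomorphism. -/
theorem defect_hom {r : ℕ} {M : Fin r → X.Modules} (hM : ∀ i, PicF.IsInvertible (M i)) {Z : Set X'}
    (hfin : FibFin f Z r) {W G : X'.Modules} (φ : W ⟶ G) (hW : Coh.IsCoh W) (hG : Coh.IsCoh G)
    (hsup : CohB1.support G ⊆ Z) (hker : CohB1.support (kernel φ) ⊆ Z) :
    defect k f M G = defect k f M W + defect k f M (cokernel φ) - defect k f M (kernel φ) := by
  haveI : IsNoetherian X' := CohFound.isNoetherian_of_isProper (X' ↘ (Spec (CommRingCat.of k)))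
  have hI : Coh.IsCoh (Abelian.image φ) := CurveCoh17.isCoh_kernel hG (M1.isCoh_cokernel hW.1 hG φ).1 _
  let S₀ := ShortComplex.mk (kernel.ι φ) (Abelian.factorThruImage φ)
      (by rw [← cancel_mono (Abelian.image.ι φ)]; simp)
  have hS₀ : S₀.ShortExact :=
    { exact := ShortComplex.exact_of_f_is_kernel _ (KernelFork.IsLimit.ofι _ _ (fun g hg => kernel.lift φ g (by
        rw [← Abelian.image.fac φ, ← Category.assoc, hg, zero_comp]))
        (fun g hg => kernel.lift_ι _ _ _) (fun g hg m hm => by rw [← cancel_mono (kernel.ι φ), hm, kernel.lift_ι])) }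
  have hsupW : CohB1.support W ⊆ Z := by
    rw [show CohB1.support W = CohB1.support S₀.X₂ from rfl, CohGab13.support_mid hS₀]
    exact Set.union_subset hker ((support_subset_of_mono (Abelian.image.ι φ)).trans hsup)
  have h1 := defect_shortExact (k := k) f hM hfin hS₀ (CurveCoh17.isCoh_kernel hW hG.1 φ) hW hI hsupW
  have h2 := defect_shortExact (k := k) f hM hfin
    (S := ShortComplex.mk (Abelian.image.ι φ) (cokernel.π φ) (kernel.condition _))
    { exact := ShortComplex.exact_of_f_is_kernel _ (kernelIsKernel _) }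
    hI hG (M1.isCoh_cokernel hW.1 hG φ) hsup
  simp only [S₀] at h1 h2
  linarith

/-- Dévissage of the defect. -/
theorem defect_eq_zero {r : ℕ} {M : Fin r → X.Modules} (hM : ∀ i, PicF.IsInvertible (M i)) {Z : Set X'}
    (hfin : FibFin f Z r) (hpt : ∀ η ∈ Z, defect k f M (ptMod η) = 0) {F : X'.Modules} (hF : Coh.IsCoh F)
    (hFZ : CohB1.support F ⊆ Z) : defect k f M F = 0 := by
  haveI : IsNoetherian X' := CohFound.isNoetherian_of_isProper (X' ↘ (Spec (CommRingCat.of k)))
  let P : X'.Modules → Prop := fun G => defect k f M G = 0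
  have hiso : ∀ A B : X'.Modules, Nonempty (A ≅ B) → P A → P B := fun A B ⟨e⟩ h => (defect_iso f M e).symm.trans h
  have hP : TwoOfThreeOn P Z :=
    { of_isZero := fun A hA hz => by
        
        show defect k f M A = 0
        rw [defect, md_eq_zero_of_points hM (isCoh_push_proper (k := k) f hA) (fun x hx => absurd
          ((Scheme.Modules.pushforward f).map_isZero hz) fun hz' =>
            hx (AddCommGrpCat.subsingleton_of_isZero ((M1.stalkAb x).map_isZero hz'))),
          md_eq_zero_of_points (fun i => Twist.isInvertible_pullback f (hM i)) hA (fun x hx => absurd hz fun hz' =>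
            hx (AddCommGrpCat.subsingleton_of_isZero ((M1.stalkAb x).map_isZero hz'))), sub_zero]
      mid := fun S hS a b c hs p q => by
        show defect k f M S.X₂ = 0
        rw [defect_shortExact f hM hfin hS a b c hs, p, q, add_zero]
      left := fun S hS a b c hs p q => by
        have h := defect_shortExact (k := k) f hM hfin hS a b c hs
        rw [p, q, add_zero] at h
        exact h.symm
      right := fun S hS a b c hs p q => by
        have h := defect_shortExact (k := k) f hM hfin hS a b c hs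
        rw [p, q, zero_add] at h
        exact h.symm }
  exact hP.holds (fun η hη => nonempty_model hiso η (hpt η hη)) hF hFZ

include k in
theorem fibFin_of_dim {Z : Set X'} (hZ : IsClosed Z) {r : ℕ}
    (hd : topologicalKrullDim Z ≤ (r : WithBot ℕ∞)) : FibFin f Z r := by
  intro x hx
  haveI : IsNoetherian X' := CohFound.isNoetherian_of_isProper (X' ↘ (Spec (CommRingCat.of k)))
  obtain ⟨T, hT⟩ := exists_finset_top hZ hd
  refine T.finite_toSet.subset ?_
  rintro η ⟨hη, rfl⟩
  refine (hT η).2 ⟨hη, le_antisymm (dim_le_of_subset (hZ.closure_subset_iff.2 (Set.singleton_subset_iff.2 hη)) hd)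
    (hx.trans (dim_closure_image_le f isClosed_closure (subset_closure rfl)))⟩

/-- A twist is trivial over the preimage of a neighbourhood, up to smaller modules. -/
theorem exists_zigzag' (hX : X'.IsSeparated) [IsLocallyNoetherian X'] {G G' : X'.Modules} (hG : Coh.IsCoh G)
    (hG' : Coh.IsCoh G') {η : X'} (hs : CohB1.support G ⊆ closure {η})
    (hs' : CohB1.support G' ⊆ closure {η}) {U : X'.Opens} [IsAffineHom U.ι]
    (e : G'.restrict U.ι ≅ G.restrict U.ι) :
    ∃ (W : X'.Modules) (φ : W ⟶ G) (ψ : W ⟶ G'), Coh.IsCoh W ∧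
      CohB1.support (kernel φ) ⊆ closure {η} \ (U : Set X') ∧
      CohB1.support (cokernel φ) ⊆ closure {η} \ (U : Set X') ∧
      CohB1.support (kernel ψ) ⊆ closure {η} \ (U : Set X') ∧
      CohB1.support (cokernel ψ) ⊆ closure {η} \ (U : Set X') := by
  let P := (Scheme.Modules.pushforward U.ι).obj (G.restrict U.ι)
  have hP : Coh.IsQCoh P := PushFin12.isQCoh_pushforward U.ι (G.restrict U.ι) (M1.isQCoh_restrict hG.1 U.ι)
  let a : G ⟶ P := (Scheme.Modules.restrictAdjunction U.ι).unit.app G
  let b : G' ⟶ P := (Scheme.Modules.restrictAdjunction U.ι).unit.app _ ≫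
    (Scheme.Modules.pushforward U.ι).map e.hom
  have ha : IsIso ((Scheme.Modules.restrictFunctor U.ι).map a) := M1.isIso_restrict_unit U.ι G
  have hb : IsIso ((Scheme.Modules.restrictFunctor U.ι).map b) := by
    haveI := M1.isIso_restrict_unit U.ι G'
    simp only [b, Functor.map_comp]
    infer_instance
  have hfst := (Twist.isIso_restrict_map_iff _ U).1 (M1.isIso_restrict_fst a b U.ι hb)
  have hsnd := (Twist.isIso_restrict_map_iff _ U).1 (M1.isIso_restrict_snd a b U.ι ha)
  have hW : CohB1.support (pullback a b) ⊆ closure {η} := by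
    haveI : Mono (biprod.lift (pullback.fst a b) (pullback.snd a b)) :=
      ⟨fun g h he => pullback.hom_ext
        (by simpa using congrArg (fun t => t ≫ biprod.fst) he)
        (by simpa using congrArg (fun t => t ≫ biprod.snd) he)⟩
    refine (support_subset_of_mono (biprod.lift (pullback.fst a b) (pullback.snd a b))).trans ?_
    rw [CohGab13.support_mid (ShortComplex.Splitting.ofHasBinaryBiproduct G G').shortExact]
    exact Set.union_subset hs hs'
  have key : ∀ {N : X'.Modules} (φ : pullback a b ⟶ N), CohB1.support N ⊆ closure {η} →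
      (∀ V : X'.Opens, V ≤ U → Function.Bijective (φ.app V)) →
      CohB1.support (kernel φ) ⊆ closure {η} \ (U : Set X') ∧
        CohB1.support (cokernel φ) ⊆ closure {η} \ (U : Set X') := by
    intro N φ hN hφ
    refine ⟨fun x hx => ⟨hW (support_subset_of_mono (kernel.ι φ) hx), fun hxU => hx ?_⟩,
      fun x hx => ⟨hN (support_subset_of_epi (cokernel.π φ) hx), fun hxU => hx ?_⟩⟩
    · exact ⟨fun s t => (CurveCoh17.eq_zero_stalk_kernel φ x
        (CurveCoh17.bijective_stalkMap_of_app φ U hφ hxU).1 s).trans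
        (CurveCoh17.eq_zero_stalk_kernel φ x (CurveCoh17.bijective_stalkMap_of_app φ U hφ hxU).1 t).symm⟩
    · exact ⟨fun s t => (CurveCoh17.eq_zero_stalk_cokernel φ x
        (CurveCoh17.bijective_stalkMap_of_app φ U hφ hxU).2 s).trans
        (CurveCoh17.eq_zero_stalk_cokernel φ x (CurveCoh17.bijective_stalkMap_of_app φ U hφ hxU).2 t).symm⟩
  obtain ⟨h1, h2⟩ := key (pullback.fst a b) hs hfst
  obtain ⟨h3, h4⟩ := key (pullback.snd a b) hs' hsnd
  exact ⟨_, _, _, M1.isCoh_fibreProd hG hG' hP a b, h1, h2, h3, h4⟩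

variable (hf : f ≫ (X ↘ Spec (CommRingCat.of k)) = X' ↘ Spec (CommRingCat.of k))
include hf

/-- `(f^*M · F) = (M · f_*F)` for supports of dimension at most the number of modules. -/
theorem md_push_proper : ∀ {r : ℕ} (M : Fin r → X.Modules), (∀ i, PicF.IsInvertible (M i)) →
    ∀ (F : X'.Modules), Coh.IsCoh F → topologicalKrullDim (CohB1.support F) ≤ (r : WithBot ℕ∞) →
      defect k f M F = 0 := by
  haveI : IsNoetherian X := CohFound.isNoetherian_of_isProper (X ↘ (Spec (CommRingCat.of k)))
  haveI : IsNoetherian X' := CohFound.isNoetherian_of_isProper (X' ↘ (Spec (CommRingCat.of k)))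
  intro r
  induction r with
  | zero =>
    intro M hM F hF hd
    refine defect_eq_zero f hM (fibFin_of_dim (k := k) f (M1.isClosed_support hF.2) hd) (fun η hη => ?_) hF subset_rfl
    have hcl : IsClosed ({η} : Set X') :=
      Snapper.isClosed_point_of_dim_le_zero (M1.isClosed_support hF.2) (by simpa using hd) hη
    haveI : Subsingleton (ptIdeal η).subscheme := ⟨fun a b => (ptIdeal η).subschemeι.isClosedEmbedding.injective (by
      have h : ∀ a, (ptIdeal η).subschemeι a = η := fun a => by
        have h' := (range_ptι η).le (Set.mem_range_self a)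
        rwa [hcl.closure_eq] at h'
      rw [h a, h b])⟩
    haveI : IsIntegral (ptIdeal η).subscheme := (isIntegral_pt η).1
    haveI : IsAffine (ptIdeal η).subscheme := by
      obtain ⟨U, hU, hxU, -⟩ := exists_isAffineOpen_mem_and_subset
        (x := genericPoint (ptIdeal η).subscheme) (U := ⊤) trivial
      have htop : U = ⊤ := top_le_iff.1 fun y _ => Subsingleton.elim (genericPoint _) y ▸ hxU
      subst htop
      haveI : IsAffine ((⊤ : (ptIdeal η).subscheme.Opens).toScheme) := hU
      exact IsAffine.of_isIso (ptIdeal η).subscheme.topIso.inv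
    haveI : X.IsSeparated := CurveAmple18.isSeparated k X
    haveI : X'.IsSeparated := CurveAmple18.isSeparated k X'
    let ι := (ptIdeal η).subschemeι
    haveI : IsAffineHom (ι ≫ f) := by
      haveI : IsAffineHom ((ι ≫ f) ≫ terminal.from X) := by rw [terminal.comp_from]; infer_instance
      exact IsAffineHom.of_comp (ι ≫ f) (terminal.from X)
    letI : (ptIdeal η).subscheme.Over (Spec (CommRingCat.of k)) := ⟨ι ≫ (X' ↘ (Spec (CommRingCat.of k)))⟩
    simp only [defect, md_zero_vars]
    rw [show ptMod η = (Scheme.Modules.pushforward ι).obj (Coh.structureModule (ptIdeal η).subscheme) from rfl,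
      CurveCoh17.euler_iso (M := (Scheme.Modules.pushforward f).obj ((Scheme.Modules.pushforward ι).obj _))
        ((Scheme.Modules.pushforwardComp ι f).app _),
      AmpleFin18.euler_push ι rfl _ (M1.isQCoh_structureModule _),
      AmpleFin18.euler_push (ι ≫ f) (by rw [Category.assoc, hf]; rfl) _ (M1.isQCoh_structureModule _), sub_self]
  | succ r ih =>
    intro M hM F hF hd
    refine defect_eq_zero f hM (fibFin_of_dim (k := k) f (M1.isClosed_support hF.2) hd) (fun ξ hξF => ?_) hF subset_rfl
    have hdξ : topologicalKrullDim (closure ({ξ} : Set X')) ≤ ((r + 1 : ℕ) : WithBot ℕ∞) :=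
      dim_le_of_subset ((M1.isClosed_support hF.2).closure_subset_iff.2 (Set.singleton_subset_iff.2 hξF)) hd
    have hpt : Coh.IsCoh (ptMod ξ) := isCoh_ptMod ξ
    rw [← Fin.cons_self_tail M]
    have hL : PicF.IsInvertible (M 0) := hM 0
    have hN : ∀ i, PicF.IsInvertible (Fin.tail M i) := fun i => hM i.succ
    generalize M 0 = L, Fin.tail M = N at hL hN ⊢
    have hpL : PicF.IsInvertible ((Scheme.Modules.pullback f).obj L) := Twist.isInvertible_pullback f hL
    have hG : Coh.IsCoh (CohB1.tensorMod (ptMod ξ) ((Scheme.Modules.pullback f).obj L)) :=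
      CurveCoh17.isCoh_tensor hpt (isCoh_of_isInvertible hpL)
    have hGs : CohB1.support (CohB1.tensorMod (ptMod ξ) ((Scheme.Modules.pullback f).obj L)) ⊆ closure {ξ} :=
      (support_tensor_subset _ _).trans (support_ptMod ξ)
    have hcons : (fun i => (Scheme.Modules.pullback f).obj ((Fin.cons L N : Fin (r + 1) → X.Modules) i)) =
        Fin.cons ((Scheme.Modules.pullback f).obj L) (fun i => (Scheme.Modules.pullback f).obj (N i)) :=
      funext fun i => Fin.cases rfl (fun j => rfl) i
    haveI : IsIso (AmpleFin18.projHom f L (ptMod ξ)) := AmpleFin18.isIso_projHom_of_ofRank f L (ptMod ξ)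
      ((M2.isInvertible_iff_isFinLocFreeOfRank_one _).1 hL)
    have eP : (Scheme.Modules.pushforward f).obj (CohB1.tensorMod (ptMod ξ) ((Scheme.Modules.pullback f).obj L)) ≅
        CohB1.tensorMod ((Scheme.Modules.pushforward f).obj (ptMod ξ)) L :=
      (Scheme.Modules.pushforward f).mapIso (M2.tensorComm _ _) ≪≫ (asIso (AmpleFin18.projHom f L (ptMod ξ))).symm ≪≫
        M2.tensorComm _ _
    have hd' : topologicalKrullDim (closure ({f ξ} : Set X)) ≤ ((r + 1 : ℕ) : WithBot ℕ∞) :=
      (dim_closure_image_le f (Z := closure ({ξ} : Set X')) isClosed_closure (subset_closure rfl)).trans hdξ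
    have himg : f '' closure ({ξ} : Set X') ⊆ closure {f ξ} := by
      rintro _ ⟨y, hy, rfl⟩
      exact map_mem_closure f.continuous hy (by simp)
    have hsplit : defect k f (Fin.cons L N) (ptMod ξ) =
        defect k f N (CohB1.tensorMod (ptMod ξ) ((Scheme.Modules.pullback f).obj L)) - defect k f N (ptMod ξ) := by
      simp only [defect]
      rw [hcons, md_cons, md_cons, md_iso N eP]
      ring
    by_cases htop : topologicalKrullDim (closure ({f ξ} : Set X)) = ((r + 1 : ℕ) : WithBot ℕ∞)
    · have hfin : FibFin f (closure ({ξ} : Set X')) r := by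
        intro x hx
        by_cases hxe : f ξ ∈ closure ({x} : Set X)
        · refine (Set.finite_singleton ξ).subset ?_
          rintro η ⟨hη, hηx : f η = x⟩
          have h1 : f ξ ⤳ f η := specializes_iff_mem_closure.2 (himg ⟨η, hη, rfl⟩)
          have h2 : x = f ξ := by
            refine ((specializes_iff_mem_closure.2 hxe).antisymm ?_).eq
            rwa [hηx] at h1
          have hle : ((r + 1 : ℕ) : WithBot ℕ∞) ≤ topologicalKrullDim (closure ({η} : Set X')) := by
            rw [← htop, ← h2, ← hηx]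
            exact dim_closure_image_le f isClosed_closure (subset_closure rfl)
          exact (eq_of_specializes_of_dim isClosed_closure hdξ (subset_closure rfl)
            (le_antisymm ((dim_le_of_subset (isClosed_closure.closure_subset_iff.2
              (Set.singleton_subset_iff.2 hη)) hdξ)) hle) (specializes_iff_mem_closure.2 hη)).symm
        · have hC : IsClosed (closure ({ξ} : Set X') ∩ f ⁻¹' closure {x}) :=
            isClosed_closure.inter (isClosed_closure.preimage f.continuous)
          refine (fibFin_of_dim (k := k) f hC (dim_le_of_notMem hC Set.inter_subset_left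
            (fun h => hxe h.2) hdξ) x hx).subset ?_
          rintro η ⟨hη, hηx : f η = x⟩
          exact ⟨⟨hη, hηx ▸ subset_closure (rfl : f η = f η)⟩, hηx⟩
      obtain ⟨D, hD, ⟨eD⟩⟩ := hpL ξ
      obtain ⟨U, hU, hξU, hUD⟩ := exists_isAffineOpen_mem_and_subset (U := D) hD
      obtain ⟨eU⟩ := M2.nonempty_trivial_mono hUD eD
      obtain ⟨W, φ, ψ, hW, k1, c1, k2, c2⟩ := exists_zigzag (CurveAmple18.isSeparated k X') hpt hG
        (support_ptMod ξ) hGs hU hξU
        (M2.restrictTensorIso U.ι (ptMod ξ) _ ≪≫ M2.tensorIso (Iso.refl _) eU ≪≫ M2.tensorRUnit _)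
      have hsm : ∀ {K : X'.Modules}, Coh.IsCoh K → CohB1.support K ⊆ closure {ξ} \ (U : Set X') →
          defect k f N K = 0 := fun {K} hK hKs => ih N hN K hK (dim_le_of_subset hKs
            (dim_le_of_notMem (isClosed_closure.sdiff U.isOpen) Set.sdiff_subset (fun h => h.2 hξU) hdξ))
      rw [hsplit, defect_hom f hN hfin ψ hW hG hGs (k2.trans Set.sdiff_subset),
        defect_hom f hN hfin φ hW hpt (support_ptMod ξ) (k1.trans Set.sdiff_subset),
        hsm (M1.isCoh_cokernel hW.1 hG ψ) c2, hsm (CurveCoh17.isCoh_kernel hW hG.1 ψ) k2,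
        hsm (M1.isCoh_cokernel hW.1 hpt φ) c1, hsm (CurveCoh17.isCoh_kernel hW hpt.1 φ) k1]
      ring
    · have hlt : topologicalKrullDim (closure ({f ξ} : Set X)) < ((r + 1 : ℕ) : WithBot ℕ∞) := lt_of_le_of_ne hd' htop
      have hle : topologicalKrullDim (closure ({f ξ} : Set X)) ≤ (r : WithBot ℕ∞) :=
        ENat.WithBot.lt_add_one_iff.1 (by simpa using hlt)
      have hR : md k (Fin.cons L N : Fin (r + 1) → X.Modules) ((Scheme.Modules.pushforward f).obj (ptMod ξ)) = 0 := by
        refine md_eq_zero (isInvertible_cons hL hN) (isCoh_push_proper (k := k) f hpt) (e := r) ?_ (Nat.lt_succ_self r)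
        exact dim_le_of_subset ((support_push_subset_image f (support_ptMod ξ)
          (f.isClosedMap _ isClosed_closure)).trans himg) hle
      obtain ⟨D, hD, ⟨eD⟩⟩ := hL (f ξ)
      obtain ⟨V, hV, hξV, hVD⟩ := exists_isAffineOpen_mem_and_subset (U := D) hD
      obtain ⟨eV⟩ := M2.nonempty_trivial_mono hVD eD
      let U : X'.Opens := f ⁻¹ᵁ V
      haveI : IsAffineHom V.ι := by
        haveI : X.IsSeparated := CurveAmple18.isSeparated k X
        exact CurveCoh17.isAffineHom_ι hV
      haveI : IsAffineHom U.ι :=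
        MorphismProperty.of_isPullback (isPullback_morphismRestrict f V) ‹IsAffineHom V.ι›
      let eU : ((Scheme.Modules.pullback f).obj L).restrict U.ι ≅ _ :=
        Twist.pullbackRestrictIso f L V ≪≫ (Scheme.Modules.pullback (f ∣_ V)).mapIso eV ≪≫
          Twist.pullbackUnitIso (f ∣_ V)
      obtain ⟨W, φ, ψ, hW, k1, c1, k2, c2⟩ := exists_zigzag' (CurveAmple18.isSeparated k X') hpt hG
        (support_ptMod ξ) hGs (U := U)
        (M2.restrictTensorIso U.ι (ptMod ξ) _ ≪≫ M2.tensorIso (Iso.refl _) eU ≪≫ M2.tensorRUnit _)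
      have hsm : ∀ {K : X'.Modules}, Coh.IsCoh K → CohB1.support K ⊆ closure {ξ} \ (U : Set X') →
          md k (fun i => (Scheme.Modules.pullback f).obj (N i)) K = 0 := fun {K} hK hKs => by
        have hKd : topologicalKrullDim (CohB1.support K) ≤ (r : WithBot ℕ∞) := dim_le_of_subset hKs
          (dim_le_of_notMem (isClosed_closure.sdiff U.isOpen) Set.sdiff_subset
            (fun h => h.2 (show f ξ ∈ V from hξV)) hdξ)
        have h1 := ih N hN K hK hKd
        rw [defect, md_eq_zero_of_points hN (isCoh_push_proper (k := k) f hK) fun x hx => ?_, sub_zero] at h1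
        · exact h1
        · obtain ⟨y, hy, rfl⟩ := support_push_subset_image f hKs
            (f.isClosedMap _ (isClosed_closure.sdiff U.isOpen)) hx
          have hyc : f y ∈ closure ({f ξ} : Set X) := himg ⟨y, hy.1, rfl⟩
          refine lt_of_le_of_ne (dim_le_of_subset (isClosed_closure.closure_subset_iff.2
            (Set.singleton_subset_iff.2 hyc)) hle) fun heq => hy.2 ?_
          show f y ∈ V
          rw [← eq_of_specializes_of_dim isClosed_closure hle (subset_closure rfl) heq
            (specializes_iff_mem_closure.2 hyc)]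
          exact hξV
      have hN' : ∀ i, PicF.IsInvertible ((Scheme.Modules.pullback f).obj (N i)) :=
        fun i => Twist.isInvertible_pullback f (hN i)
      rw [defect, hR, sub_zero, hcons, md_cons, md_hom hN' ψ hW hG, md_hom hN' φ hW hpt,
        hsm (M1.isCoh_cokernel hW.1 hG ψ) c2, hsm (CurveCoh17.isCoh_kernel hW hG.1 ψ) k2,
        hsm (M1.isCoh_cokernel hW.1 hpt φ) c1, hsm (CurveCoh17.isCoh_kernel hW hpt.1 φ) k1]
      ring

end Push

end Groth.Agent.NumPoly18
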