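import Groth.Agent.Lib.NumPoly18.SurfProj
import Groth.Agent.Lib.NumPoly18.Surf
import Groth.Agent.Lib.NumPoly18.HodgeIndex
import Groth.Agent.Lib.CurveCoh17.IdealPow
import Groth.Agent.Lib.CurveAmple18.Hom
import Groth.Agent.Lib.NumPoly18.PushInv
import Groth.Agent.Lib.Ample18.Gen
import Groth.Agent.Lib.Cyc26.Stalk
import Groth.Agent.Lib.Depth.CM
import Groth.Agent.S5758

/-!
# Intersection numbers of divisors with finite intersection
-/

set_option autoImplicit false
set_option linter.style.haveILetI false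
set_option maxHeartbeats 800000
set_option backward.isDefEq.respectTransparency false

universe u

open scoped Pointwise
open CategoryTheory CategoryTheory.Limits AlgebraicGeometry TopologicalSpace Opposite TensorProduct

namespace Groth.Agent.InterLen

open Groth.Agent Groth.Agent.NumPoly18 Groth.Agent.Snapper

variable {X : Scheme.{u}}

/-- The stalk of an ideal. -/
noncomputable def idealSt (I : X.IdealSheafData) (x : X) : Ideal (X.presheaf.stalk x) :=
  Ideal.span {z | ∃ (U : X.Opens) (hx : x ∈ U) (a : Γ(ClSub.idealMod I, U)),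
    X.presheaf.germ U x hx (M2.idealIncl I a) = z}

theorem germ_mem_idealSt (I : X.IdealSheafData) (x : X) (U : X.affineOpens) (hx : x ∈ U.1) {s : Γ(X, U.1)}
    (hs : s ∈ I.ideal U) : X.presheaf.germ U.1 x hx s ∈ idealSt I x := by
  obtain ⟨a, rfl⟩ := (M2.range_idealIncl I U).ge hs
  exact Ideal.subset_span ⟨U.1, hx, a, rfl⟩

theorem idealSt_eq_map (I : X.IdealSheafData) (x : X) (U : X.affineOpens) (hx : x ∈ U.1) :
    idealSt I x = (I.ideal U).map (X.presheaf.germ U.1 x hx).hom := by
  refine le_antisymm (Ideal.span_le.2 ?_) (Ideal.map_le_iff_le_comap.2 fun s hs => germ_mem_idealSt I x U hx hs)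
  rintro _ ⟨V, hV, a, rfl⟩
  obtain ⟨W, hW, hxW, hWV⟩ := exists_isAffineOpen_mem_and_subset (x := x) (U := V ⊓ U.1) ⟨hV, hx⟩
  have h1 : W ≤ V := fun z hz => (hWV hz).1
  have h2 : (⟨W, hW⟩ : X.affineOpens) ≤ U := fun z hz => (hWV hz).2
  have hmem : M2.idealIncl I (M2.res _ h1 a) ∈ I.ideal ⟨W, hW⟩ := (M2.range_idealIncl I ⟨W, hW⟩).le ⟨_, rfl⟩
  rw [← I.map_ideal h2] at hmem
  have := Ideal.mem_map_of_mem (X.presheaf.germ W x hxW).hom hmem
  rw [Ideal.map_map, M2.idealIncl_res] at this
  rw [show ((X.presheaf.germ W x hxW).hom.comp (X.presheaf.map (homOfLE h2).op).hom) =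
    (X.presheaf.germ U.1 x hx).hom from congrArg CommRingCat.Hom.hom (X.presheaf.germ_res (homOfLE h2) x hxW)] at this
  rw [TopCat.Presheaf.germ_res_apply] at this
  exact this

theorem idealSt_iSup_le {r : ℕ} (I : Fin r → X.IdealSheafData) (x : X) :
    idealSt (⨆ j, I j) x ≤ ⨆ j, idealSt (I j) x := by
  obtain ⟨U, hU, hx, -⟩ := exists_isAffineOpen_mem_and_subset (x := x) (U := (⊤ : X.Opens)) trivial
  simp only [idealSt_eq_map _ x ⟨U, hU⟩ hx]
  rw [Scheme.IdealSheafData.ideal_iSup, iSup_apply, Ideal.map_iSup]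

theorem le_idealSt_iSup {r : ℕ} (I : Fin r → X.IdealSheafData) (x : X) :
    ⨆ j, idealSt (I j) x ≤ idealSt (⨆ j, I j) x := by
  obtain ⟨U, hU, hx, -⟩ := exists_isAffineOpen_mem_and_subset (x := x) (U := (⊤ : X.Opens)) trivial
  simp only [idealSt_eq_map _ x ⟨U, hU⟩ hx]
  rw [Scheme.IdealSheafData.ideal_iSup, iSup_apply, Ideal.map_iSup]

/-- The local equation of an effective divisor. -/
theorem exists_eqn {I : X.IdealSheafData} (hI : BlowUp.IsEffCartierIdeal I) (x : X) :
    ∃ (U : X.affineOpens) (hx : x ∈ U.1) (a : Γ(ClSub.idealMod I, U.1)),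
      Amp.Gen (Amp.gm (ClSub.idealMod I) x hx a) ∧
      idealSt I x = Ideal.span {X.presheaf.germ U.1 x hx (M2.idealIncl I a)} ∧
      (x ∈ (I.support : Set X) → X.presheaf.germ U.1 x hx (M2.idealIncl I a) ∈
        IsLocalRing.maximalIdeal (X.presheaf.stalk x)) := by
  obtain ⟨U, hx, f, hf, hIU⟩ := hI x
  obtain ⟨a, ha⟩ : f ∈ Set.range (M2.idealIncl I (U := U.1)) := by
    rw [M2.range_idealIncl, hIU]
    exact Ideal.subset_span rfl
  refine ⟨U, hx, a, Amp.gen_of_isGenerator (M2.isGenerator_idealMod I f hf hIU a ha) hx, ?_, fun h => ?_⟩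
  · rw [idealSt_eq_map I x U hx, hIU, Ideal.map_span, Set.image_singleton, ha]
  · rw [ha]
    exact SecDiv.germ_mem_maximalIdeal U hx f hIU h

theorem mem_support_of_le {I : X.IdealSheafData} (x : X)
    (h : idealSt I x ≤ IsLocalRing.maximalIdeal (X.presheaf.stalk x)) : x ∈ (I.support : Set X) := by
  obtain ⟨U, hU, hx, -⟩ := exists_isAffineOpen_mem_and_subset (x := x) (U := (⊤ : X.Opens)) trivial
  rw [SetLike.mem_coe, Scheme.IdealSheafData.mem_support_iff_of_mem (U := ⟨U, hU⟩) hx, Scheme.mem_zeroLocus_iff]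
  intro f hf hb
  exact (IsLocalRing.mem_maximalIdeal _).1 (h (germ_mem_idealSt I x ⟨U, hU⟩ hx hf))
    ((X.mem_basicOpen f x hx).1 hb)

/-- Multiplication into a module. -/
noncomputable def mulMap (I : X.IdealSheafData) (F : X.Modules) : CohB1.tensorMod (ClSub.idealMod I) F ⟶ F :=
  M2.tensorMap (ClSub.idealModι I) (𝟙 F) ≫ (M2.tensorLUnit F).hom

theorem mulMap_germ (I : X.IdealSheafData) (F : X.Modules) {U : X.Opens} (x : X) (hx : x ∈ U)
    (a : Γ(ClSub.idealMod I, U)) (t : Γ(F, U)) :
    CurveCoh17.stalkLin (mulMap I F) x ((CohB1.tensorMod (ClSub.idealMod I) F).presheaf.germ U x hx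
      (M2.tsec _ _ a t)) = X.presheaf.germ U x hx (M2.idealIncl I a) • F.presheaf.germ U x hx t := by
  rw [CurveCoh17.stalkLin_apply, M1.germ_naturality, ← M1.germ_smul]
  refine congrArg (F.presheaf.germ U x hx) ?_
  show (M2.tensorLUnit F).hom.app U ((M2.tensorMap (ClSub.idealModι I) (𝟙 F)).app U (M2.tsec _ _ a t)) = _
  rw [M2.tensorMap_tsec]
  exact CurveCoh17.tensorLUnit_tsec (M2.idealIncl I a) t

theorem mulMap_symm (I : X.IdealSheafData) (F : X.Modules) {U : X.Opens} (x : X) (hx : x ∈ U)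
    (a : Γ(ClSub.idealMod I, U)) (m : F.presheaf.stalk x) :
    CurveCoh17.stalkLin (mulMap I F) x ((M2.stalkEquiv (ClSub.idealMod I) F x).symm
      ((ClSub.idealMod I).presheaf.germ U x hx a ⊗ₜ m)) = X.presheaf.germ U x hx (M2.idealIncl I a) • m := by
  obtain ⟨V, hV, t, rfl⟩ := F.presheaf.exists_germ_eq m
  have hW : x ∈ U ⊓ V := ⟨hx, hV⟩
  rw [← M1.germ_mres (ClSub.idealMod I) (inf_le_left : U ⊓ V ≤ U) hW a, ← M1.germ_mres F (inf_le_right : U ⊓ V ≤ V) hW t,
    ← M2.stalkEquiv_tsec, LinearEquiv.symm_apply_apply, mulMap_germ]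
  rw [show M2.idealIncl I (M1.mres (ClSub.idealMod I) (inf_le_left : U ⊓ V ≤ U) a) = _ from M2.idealIncl_res I _ a,
    TopCat.Presheaf.germ_res_apply]

theorem range_mulMap (I : X.IdealSheafData) (F : X.Modules) (x : X) :
    LinearMap.range (CurveCoh17.stalkLin (mulMap I F) x) =
      idealSt I x • (⊤ : Submodule (X.presheaf.stalk x) (F.presheaf.stalk x)) := by
  refine le_antisymm ?_ ?_
  · rintro _ ⟨z, rfl⟩
    obtain ⟨w, rfl⟩ := (M2.stalkEquiv (ClSub.idealMod I) F x).symm.surjective z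
    induction w using TensorProduct.induction_on with
    | zero => simp
    | add a b ha hb => rw [map_add, map_add]; exact Submodule.add_mem _ ha hb
    | tmul p m =>
      obtain ⟨U, hx, a, rfl⟩ := (ClSub.idealMod I).presheaf.exists_germ_eq p
      rw [mulMap_symm]
      exact Submodule.smul_mem_smul (Ideal.subset_span ⟨U, hx, a, rfl⟩) trivial
  · rw [idealSt, Submodule.span_smul_eq, Submodule.set_smul_le_iff]
    rintro _ m ⟨U, hx, a, rfl⟩ -
    exact ⟨_, mulMap_symm I F x hx a m⟩

theorem mulMap_injective {I : X.IdealSheafData} (hI : BlowUp.IsEffCartierIdeal I) (F : X.Modules) (x : X)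
    {g : X.presheaf.stalk x} (hg : idealSt I x = Ideal.span {g})
    (hreg : IsSMulRegular (F.presheaf.stalk x) g) :
    Function.Injective (CurveCoh17.stalkLin (mulMap I F) x) := by
  obtain ⟨U, hx, a, hgen, hspan, -⟩ := exists_eqn hI x
  have hall : ∀ w : (ClSub.idealMod I).presheaf.stalk x ⊗[X.presheaf.stalk x] F.presheaf.stalk x,
      ∃ m, w = Amp.gm (ClSub.idealMod I) x hx a ⊗ₜ m := by
    intro w
    induction w using TensorProduct.induction_on with
    | zero => exact ⟨0, (tmul_zero _ _).symm⟩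
    | add u v hu hv =>
      obtain ⟨m, rfl⟩ := hu
      obtain ⟨n, rfl⟩ := hv
      exact ⟨m + n, (tmul_add _ _ _).symm⟩
    | tmul p m =>
      obtain ⟨r, rfl⟩ := hgen.2 p
      exact ⟨r • m, TensorProduct.smul_tmul _ _ _⟩
  refine (injective_iff_map_eq_zero _).2 fun z hz => ?_
  obtain ⟨m, hm⟩ := hall (M2.stalkEquiv (ClSub.idealMod I) F x z)
  rw [← LinearEquiv.eq_symm_apply] at hm
  rw [hm, mulMap_symm] at hz
  obtain ⟨w, hw⟩ := Ideal.mem_span_singleton'.1 ((hspan.symm.trans hg).symm ▸ Ideal.mem_span_singleton_self g :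
    g ∈ Ideal.span {X.presheaf.germ U.1 x hx (M2.idealIncl I a)})
  have h0 : m = 0 := hreg (show g • m = g • 0 by rw [smul_zero, ← hw, mul_smul, hz, smul_zero])
  rw [hm, h0, tmul_zero, map_zero]

/-- A quotient by an ideal. -/
def IsQuotBy (J : ∀ x : X, Ideal (X.presheaf.stalk x)) {F Q : X.Modules} (π : F ⟶ Q) : Prop :=
  ∀ x, Function.Surjective (CurveCoh17.stalkLin π x) ∧
    LinearMap.ker (CurveCoh17.stalkLin π x) = J x • (⊤ : Submodule (X.presheaf.stalk x) (F.presheaf.stalk x))

theorem isQuotBy_cokernel (I : X.IdealSheafData) (F : X.Modules) :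
    IsQuotBy (fun x => idealSt I x) (cokernel.π (mulMap I F)) := fun x => by
  refine ⟨(M1.epi_iff_stalk _).1 inferInstance x, ?_⟩
  rw [← range_mulMap]
  ext b
  refine ⟨fun hb => (M1.exact_iff_stalk_eq_zero _).1 (ShortComplex.exact_cokernel (mulMap I F)) x b hb, ?_⟩
  rintro ⟨c, rfl⟩
  rw [LinearMap.mem_ker]
  refine (CurveCoh17.stalkLin_comp _ _ x c).symm.trans ?_
  rw [cokernel.condition, CurveCoh17.stalkLin_apply, CategoryTheory.Functor.map_zero]
  rfl

theorem iSup_succ_sup {α : Type*} [CompleteLattice α] {r : ℕ} (f : Fin (r + 1) → α) :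
    (⨆ j : Fin r, f j.succ) ⊔ f 0 = ⨆ j, f j := by
  refine le_antisymm (sup_le (iSup_le fun j => le_iSup f j.succ) (le_iSup f 0)) (iSup_le fun j => ?_)
  induction j using Fin.cases with
  | zero => exact le_sup_right
  | succ i => exact le_sup_of_le_left (le_iSup (fun j : Fin r => f j.succ) i)

theorem exists_quot [IsNoetherian X] : ∀ {r : ℕ} (I : Fin r → X.IdealSheafData) {F : X.Modules}, Coh.IsCoh F →
    ∃ (Q : X.Modules) (π : F ⟶ Q), Coh.IsCoh Q ∧ IsQuotBy (fun x => ⨆ j, idealSt (I j) x) π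
  | 0, I, F, hF => ⟨F, 𝟙 F, hF, fun x => by
      have h : CurveCoh17.stalkLin (𝟙 F) x = LinearMap.id := LinearMap.ext fun a => by
        rw [CurveCoh17.stalkLin_apply, CategoryTheory.Functor.map_id]; rfl
      refine ⟨h ▸ Function.surjective_id, ?_⟩
      simp only [h, iSup_of_empty, Submodule.bot_smul, LinearMap.ker_id]⟩
  | r + 1, I, F, hF => by
    have hT := CurveCoh17.isCoh_tensor (CurveCoh17.isCoh_idealMod (I 0)) hF
    have hQ₀ := M1.isCoh_cokernel hT.1 hF (mulMap (I 0) F)
    obtain ⟨Q, π, hQ, hπ⟩ := exists_quot (fun j => I j.succ) hQ₀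
    refine ⟨Q, cokernel.π (mulMap (I 0) F) ≫ π, hQ, fun x => ?_⟩
    obtain ⟨h0s, h0k⟩ := isQuotBy_cokernel (I 0) F x
    obtain ⟨hs, hk⟩ := hπ x
    have hcomp : CurveCoh17.stalkLin (cokernel.π (mulMap (I 0) F) ≫ π) x =
        (CurveCoh17.stalkLin π x).comp (CurveCoh17.stalkLin (cokernel.π (mulMap (I 0) F)) x) :=
      LinearMap.ext fun a => CurveCoh17.stalkLin_comp _ _ x a
    refine ⟨hcomp ▸ hs.comp h0s, ?_⟩
    let q := CurveCoh17.stalkLin (cokernel.π (mulMap (I 0) F)) x
    have hmap : (⨆ j : Fin r, idealSt (I j.succ) x) •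
        (⊤ : Submodule (X.presheaf.stalk x) ((cokernel (mulMap (I 0) F)).presheaf.stalk x)) =
        Submodule.map q ((⨆ j : Fin r, idealSt (I j.succ) x) •
          (⊤ : Submodule (X.presheaf.stalk x) (F.presheaf.stalk x))) :=
      (congrArg _ ((Submodule.map_top q).trans (LinearMap.range_eq_top.2 h0s)).symm).trans
        (Submodule.map_smul'' _ _ q).symm
    rw [hcomp, LinearMap.ker_comp, hk]
    refine (congrArg (Submodule.comap q) hmap).trans ((Submodule.comap_map_eq q _).trans ?_)
    rw [h0k, ← Submodule.sup_smul]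
    refine congrArg (fun J : Ideal (X.presheaf.stalk x) => J • (⊤ : Submodule (X.presheaf.stalk x) (F.presheaf.stalk x))) ?_
    exact iSup_succ_sup fun i => idealSt (I i) x

theorem subsingleton_of_smul_eq_top {R M : Type*} [CommRing R] [IsLocalRing R] [AddCommGroup M] [Module R M]
    [Module.Finite R M] {J : Ideal R} (hJ : J ≤ IsLocalRing.maximalIdeal R) (h : J • (⊤ : Submodule R M) = ⊤) :
    Subsingleton M := by
  have hbot := Submodule.eq_bot_of_le_smul_of_le_jacobson_bot J (⊤ : Submodule R M) Module.Finite.fg_top h.ge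
    (hJ.trans (IsLocalRing.jacobson_eq_maximalIdeal ⊥ bot_ne_top).ge)
  exact (Submodule.subsingleton_iff R).1 (subsingleton_of_bot_eq_top hbot.symm)

theorem supportDim_le_zero_of_length {R : Type u} [CommRing R] [IsLocalRing R] [IsNoetherianRing R] {M : Type u}
    [AddCommGroup M] [Module R M] [Module.Finite R M] (h : Module.length R M ≠ ⊤) :
    Module.supportDim R M ≤ 0 := by
  obtain ⟨-, hart⟩ := isFiniteLength_iff_isNoetherian_isArtinian.1 (Module.length_ne_top_iff.1 h)
  haveI := hart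
  let m := IsLocalRing.maximalIdeal R
  obtain ⟨n, hn⟩ := IsArtinian.monotone_stabilizes (⟨fun i => OrderDual.toDual (m ^ i • (⊤ : Submodule R M)),
    fun i j hij => Submodule.smul_mono_left (Ideal.pow_le_pow_right hij)⟩ : ℕ →o (Submodule R M)ᵒᵈ)
  have he : m ^ n • (⊤ : Submodule R M) = m • (m ^ n • (⊤ : Submodule R M)) := by
    rw [← Submodule.mul_smul, ← pow_succ']
    exact congrArg OrderDual.ofDual (hn (n + 1) (Nat.le_succ n))
  have hbot : m ^ n • (⊤ : Submodule R M) = ⊥ := Submodule.eq_bot_of_le_smul_of_le_jacobson_bot m _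
    (IsNoetherian.noetherian _) he.le (IsLocalRing.jacobson_eq_maximalIdeal ⊥ bot_ne_top).ge
  haveI : Subsingleton (Module.support R M) := by
    have hp : ∀ p : Module.support R M, p.1.asIdeal = m := fun p => by
      have hann : m ^ n ≤ Module.annihilator R M := fun a ha => Module.mem_annihilator.2 fun y =>
        (Submodule.mem_bot R).1 (hbot ▸ Submodule.smul_mem_smul ha (Submodule.mem_top (x := y)))
      exact le_antisymm (IsLocalRing.le_maximalIdeal p.1.isPrime.ne_top)
        (p.1.isPrime.le_of_pow_le (hann.trans (Module.mem_support_iff_of_finite.1 p.2)))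
    exact ⟨fun p q => Subtype.ext (PrimeSpectrum.ext ((hp p).trans (hp q).symm))⟩
  exact Order.krullDim_nonpos_of_subsingleton

/-- The points common to all the divisors and the support. -/
def meet {r : ℕ} (I : Fin r → X.IdealSheafData) (F : X.Modules) : Set X :=
  {x | x ∈ CohB1.support F ∧ ∀ j, x ∈ ((I j).support : Set X)}

theorem meet_eq {r : ℕ} (I : Fin r → X.IdealSheafData) (F : X.Modules) :
    meet I F = ((⨆ j, I j).support : Set X) ∩ CohB1.support F := by
  ext x
  rw [Scheme.IdealSheafData.support_iSup, TopologicalSpace.Closeds.coe_iInf]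
  exact ⟨fun h => ⟨Set.mem_iInter.2 h.2, h.1⟩, fun h => ⟨h.2, Set.mem_iInter.1 h.1⟩⟩

theorem support_quot [IsNoetherian X] {r : ℕ} (I : Fin r → X.IdealSheafData) {F Q : X.Modules} (hF : Coh.IsCoh F)
    {π : F ⟶ Q} (hπ : IsQuotBy (fun x => ⨆ j, idealSt (I j) x) π) : CohB1.support Q ⊆ meet I F := by
  intro x hx
  obtain ⟨hs, hk⟩ := hπ x
  haveI := M1.finite_stalk hF.1 hF.2 x
  refine ⟨fun h => hx (by haveI := h; exact hs.subsingleton), fun j => mem_support_of_le x ?_⟩
  by_contra hle
  have htop : idealSt (I j) x = ⊤ := by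
    by_contra hne
    exact hle (IsLocalRing.le_maximalIdeal hne)
  refine hx ?_
  have hk' : LinearMap.ker (CurveCoh17.stalkLin π x) = ⊤ := by
    rw [hk]
    exact top_le_iff.1 (le_trans (by rw [htop, Submodule.top_smul])
      (Submodule.smul_mono_left (le_iSup (fun i => idealSt (I i) x) j)))
  refine subsingleton_of_forall_eq 0 fun b => ?_
  obtain ⟨c, rfl⟩ := hs b
  exact LinearMap.mem_ker.1 (hk' ▸ trivial)

/-- The head equation is regular on a Cohen–Macaulay stalk cut down to finite length. -/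
theorem regular_head {R : Type u} [CommRing R] [IsLocalRing R] [IsNoetherianRing R] {M Q : Type u} [AddCommGroup M]
    [Module R M] [Module.Finite R M] [Nontrivial M] [AddCommGroup Q] [Module R Q] {r : ℕ} (g : Fin (r + 1) → R)
    (hg : ∀ j, g j ∈ IsLocalRing.maximalIdeal R) (hdepth : LocCoh.depth R M = ((r + 1 : ℕ) : ℕ∞))
    (hdim : Module.supportDim R M ≤ ((r + 1 : ℕ) : WithBot ℕ∞)) (q : M →ₗ[R] Q) (hq : Function.Surjective q)
    (hker : LinearMap.ker q = (⨆ j, Ideal.span {g j}) • (⊤ : Submodule R M)) (hlen : Module.length R Q ≠ ⊤) :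
    IsSMulRegular M (g 0) ∧
      LocCoh.depth R (M ⧸ Ideal.span {g 0} • (⊤ : Submodule R M)) = (r : ℕ∞) ∧
      Module.supportDim R (M ⧸ Ideal.span {g 0} • (⊤ : Submodule R M)) ≤ (r : WithBot ℕ∞) := by
  have hsd : Module.supportDim R M = ((r + 1 : ℕ) : WithBot ℕ∞) := by
    refine le_antisymm hdim ?_
    have h := DepthLib.depth_le_supportDim (R := R) (M := M)
    rw [hdepth] at h
    exact h
  have hCM : LocCoh.IsCohenMacaulayModule R M := by
    rw [LocCoh.IsCohenMacaulayModule, hsd, hdepth]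
    rfl
  have hxs : ∀ a ∈ List.ofFn g, a ∈ IsLocalRing.maximalIdeal R := fun a ha => by
    obtain ⟨j, rfl⟩ := List.mem_ofFn.1 ha; exact hg j
  have hJ : Ideal.ofList (List.ofFn g) = ⨆ j, Ideal.span {g j} := by
    refine le_antisymm (Ideal.span_le.2 fun a ha => ?_) (iSup_le fun j => ?_)
    · obtain ⟨j, rfl⟩ := List.mem_ofFn.1 ha
      exact le_iSup (fun i => Ideal.span {g i}) j (Ideal.mem_span_singleton_self _)
    · exact (Ideal.span_singleton_le_iff_mem _).2 (Ideal.subset_span (List.mem_ofFn.2 ⟨j, rfl⟩))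
  haveI : Module.Finite R Q := Module.Finite.of_surjective q hq
  let e : (M ⧸ Ideal.ofList (List.ofFn g) • (⊤ : Submodule R M)) ≃ₗ[R] Q :=
    (Submodule.quotEquivOfEq _ _ (by rw [hJ, hker])).trans (q.quotKerEquivOfSurjective hq)
  have hQ : Nontrivial Q := by
    by_contra hn
    rw [not_nontrivial_iff_subsingleton] at hn
    have htop : (⨆ j, Ideal.span {g j}) • (⊤ : Submodule R M) = ⊤ := by
      rw [← hker]; exact top_le_iff.1 fun m _ => LinearMap.mem_ker.2 (Subsingleton.elim _ _)
    exact not_subsingleton M (subsingleton_of_smul_eq_top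
      (iSup_le fun j => (Ideal.span_singleton_le_iff_mem _).2 (hg j)) htop)
  have hQ0 : Module.supportDim R Q = 0 := by
    refine le_antisymm (supportDim_le_zero_of_length hlen) ?_
    obtain ⟨d, hd⟩ := DepthLib.exists_supportDim_eq_natCast (R := R) (M := Q)
    rw [hd]
    exact_mod_cast Nat.zero_le d
  have hdrop : Module.supportDim R (M ⧸ Ideal.ofList (List.ofFn g) • (⊤ : Submodule R M)) + (List.ofFn g).length =
      Module.supportDim R M := by
    rw [Module.supportDim_eq_of_equiv e, hQ0, List.length_ofFn, hsd, zero_add]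
  have hwr := (S5758.result R M hCM _ hxs).1.2 hdrop
  rw [List.ofFn_succ, RingTheory.Sequence.isWeaklyRegular_cons_iff] at hwr
  have h1 : g 0 • (⊤ : Submodule R M) = Ideal.span {g 0} • (⊤ : Submodule R M) :=
    (Submodule.ideal_span_singleton_smul _ _).symm
  let e' : QuotSMulTop (g 0) M ≃ₗ[R] M ⧸ Ideal.span {g 0} • (⊤ : Submodule R M) := Submodule.quotEquivOfEq _ _ h1
  refine ⟨hwr.1, ?_, ?_⟩
  · have h := DepthLib.idealDepth_quotSMulTop_add_one (M := M) (hg 0) hwr.1
    rw [DepthLib.idealDepth_congr e'] at h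
    change LocCoh.depth R _ + 1 = LocCoh.depth R M at h
    rw [hdepth, Nat.cast_succ] at h
    exact (WithTop.add_right_inj (show (1 : ℕ∞) ≠ ⊤ from ENat.one_ne_top)).1 h
  · have h := Module.supportDim_quotSMulTop_succ_eq_supportDim hwr.1 (hg 0)
    rw [Module.supportDim_eq_of_equiv e', hsd] at h
    generalize Module.supportDim R (M ⧸ Ideal.span {g 0} • (⊤ : Submodule R M)) = a at h ⊢
    cases a with
    | bot => exact bot_le
    | coe a =>
      have h' : a + 1 = ((r + 1 : ℕ) : ℕ∞) := WithBot.coe_injective (by exact h)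
      refine WithBot.coe_le_coe.2 ?_
      rw [Nat.cast_succ] at h'
      exact ((WithTop.add_right_inj (show (1 : ℕ∞) ≠ ⊤ from ENat.one_ne_top)).1 h').le

variable {k : Type u} [Field k] [X.Over (Spec (CommRingCat.of k))] [IsProper (X ↘ Spec (CommRingCat.of k))]

/-- Splitting off the first ideal. -/
theorem md_ideal_cons {r : ℕ} {I₀ : X.IdealSheafData} (hI₀ : BlowUp.IsEffCartierIdeal I₀) {M : Fin r → X.Modules}
    (hM : ∀ j, PicF.IsInvertible (M j)) {F : X.Modules} (hF : Coh.IsCoh F) :
    md k (Fin.cons (ClSub.idealMod I₀) M : Fin (r + 1) → X.Modules) F =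
      md k M (kernel (mulMap I₀ F)) - md k M (cokernel (mulMap I₀ F)) := by
  haveI : IsNoetherian X := CohFound.isNoetherian_of_isProper (X ↘ (Spec (CommRingCat.of k)))
  have h := md_hom (k := k) hM (mulMap I₀ F) (CurveCoh17.isCoh_tensor (CurveCoh17.isCoh_idealMod I₀) hF) hF
  rw [md_cons, md_iso M (M2.tensorComm F (ClSub.idealMod I₀))]
  linarith

theorem idealMods_cons {r : ℕ} (I : Fin (r + 1) → X.IdealSheafData) :
    (fun j => ClSub.idealMod (I j)) = Fin.cons (ClSub.idealMod (I 0)) (fun j => ClSub.idealMod (I j.succ)) :=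
  funext fun i => Fin.cases rfl (fun _ => rfl) i

/-- Divisors without common point on a module have no intersection on it. -/
theorem md_eq_zero_of_meet_empty : ∀ (r : ℕ) (I : Fin r → X.IdealSheafData), (∀ j, BlowUp.IsEffCartierIdeal (I j)) →
    ∀ (F : X.Modules), Coh.IsCoh F → meet I F = ∅ → md k (fun j => ClSub.idealMod (I j)) F = 0 := by
  intro r
  haveI : IsNoetherian X := CohFound.isNoetherian_of_isProper (X ↘ (Spec (CommRingCat.of k)))
  induction r with
  | zero =>
    intro I _ F hF he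
    have h0 : CohB1.support F = ∅ := Set.eq_empty_of_forall_notMem fun x hx =>
      (Set.eq_empty_iff_forall_notMem.1 he) x ⟨hx, fun j => j.elim0⟩
    rw [md_zero_vars, Snapper.euler_of_isZero hF (isZero_of_support_empty h0), Int.cast_zero]
  | succ r IH =>
    intro I hI F hF he
    rw [idealMods_cons, md_ideal_cons (hI 0) (fun j => M2.isInvertible_idealMod _ (hI j.succ)) hF]
    have hT := CurveCoh17.isCoh_tensor (CurveCoh17.isCoh_idealMod (I 0)) hF
    have hcok := M1.isCoh_cokernel hT.1 hF (mulMap (I 0) F)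
    have hker := CurveCoh17.isCoh_kernel hT hF.1 (mulMap (I 0) F)
    have hc : ∀ x ∈ CohB1.support (cokernel (mulMap (I 0) F)),
        x ∈ CohB1.support F ∧ x ∈ ((I 0).support : Set X) := fun x hx => by
      obtain ⟨hs, hk⟩ := isQuotBy_cokernel (I 0) F x
      refine ⟨fun h => hx (by haveI := h; exact hs.subsingleton), mem_support_of_le x ?_⟩
      by_contra hle
      have htop : idealSt (I 0) x = ⊤ := by_contra fun hne => hle (IsLocalRing.le_maximalIdeal hne)
      refine hx (subsingleton_of_forall_eq 0 fun b => ?_)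
      obtain ⟨c, rfl⟩ := hs b
      refine LinearMap.mem_ker.1 ?_
      rw [hk]
      simp only [htop, Submodule.top_smul, Submodule.mem_top]
    have hkr : ∀ x ∈ CohB1.support (kernel (mulMap (I 0) F)),
        x ∈ CohB1.support F ∧ x ∈ ((I 0).support : Set X) := fun x hx => by
      refine ⟨support_tensor_subset_right _ _ (CohFound.support_subset_of_mono (kernel.ι _) hx),
        mem_support_of_le x ?_⟩
      by_contra hle
      have htop : idealSt (I 0) x = ⊤ := by_contra fun hne => hle (IsLocalRing.le_maximalIdeal hne)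
      refine hx (subsingleton_of_forall_eq 0 fun b => ?_)
      have h1 := mulMap_injective (hI 0) F x (g := 1) (by rw [htop, Ideal.span_singleton_one]) (IsSMulRegular.one _)
      refine (M1.mono_iff_stalk (kernel.ι (mulMap (I 0) F))).1 inferInstance x (h1 ?_)
      refine ((CurveCoh17.stalkLin_comp _ _ x b).symm.trans ?_).trans (by
        show (0 : F.presheaf.stalk x) = _
        rw [map_zero]; exact (map_zero (CurveCoh17.stalkLin (mulMap (I 0) F) x)).symm)
      rw [kernel.condition, CurveCoh17.stalkLin_apply, CategoryTheory.Functor.map_zero]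
      rfl
    have key : ∀ (G : X.Modules), Coh.IsCoh G → (∀ x ∈ CohB1.support G, x ∈ CohB1.support F ∧
        x ∈ ((I 0).support : Set X)) → md k (fun j => ClSub.idealMod (I j.succ)) G = 0 := fun G hG hs =>
      IH (fun j => I j.succ) (fun j => hI j.succ) G hG (Set.eq_empty_of_forall_notMem fun x hx =>
        (Set.eq_empty_iff_forall_notMem.1 he) x ⟨(hs x hx.1).1, fun j => Fin.cases (hs x hx.1).2 hx.2 j⟩)
    rw [key _ hker hkr, key _ hcok hc, sub_zero]

include k in
theorem isClosed_of_finite {C : Set X} (hC : IsClosed C) (hfin : C.Finite) {x : X} (hx : x ∈ C) :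
    IsClosed ({x} : Set X) := by
  haveI : JacobsonSpace X := LocallyOfFiniteType.jacobsonSpace (X ↘ Spec (CommRingCat.of k))
  have hT : IsClosed (C ∩ closedPoints X) := by
    rw [← Set.biUnion_of_singleton (C ∩ closedPoints X)]
    exact (hfin.subset Set.inter_subset_left).isClosed_biUnion fun y hy => hy.2
  have hsub : C ⊆ C ∩ closedPoints X := by
    rw [← hT.closure_eq, JacobsonSpace.closure_inter_closedPoints hC]
  exact (hsub hx).2

include k in
theorem dim_le_zero_of_finite {C : Set X} (hC : IsClosed C) (hfin : C.Finite) :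
    topologicalKrullDim C ≤ ((0 : ℕ) : WithBot ℕ∞) :=
  dim_le_of_points hC fun x hx => by
    rw [VarDim.dim_closure_singleton (X ↘ Spec (CommRingCat.of k)),
      (VarDim.sdim_eq_zero_iff_isClosed (X ↘ Spec (CommRingCat.of k)) x).2 (isClosed_of_finite (k := k) hC hfin hx)]

theorem isQuotBy_id (F : X.Modules) (I : Fin 0 → X.IdealSheafData) :
    IsQuotBy (fun x => ⨆ j, idealSt (I j) x) (𝟙 F) := fun x => by
  have h : CurveCoh17.stalkLin (𝟙 F) x = LinearMap.id := LinearMap.ext fun a => by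
    rw [CurveCoh17.stalkLin_apply, CategoryTheory.Functor.map_id]; rfl
  refine ⟨h ▸ Function.surjective_id, ?_⟩
  simp only [h, iSup_of_empty, Submodule.bot_smul, LinearMap.ker_id]

theorem isQuotBy_cons {r : ℕ} (I : Fin (r + 1) → X.IdealSheafData) (F : X.Modules) {Q : X.Modules}
    {π : cokernel (mulMap (I 0) F) ⟶ Q} (hπ : IsQuotBy (fun x => ⨆ j : Fin r, idealSt (I j.succ) x) π) :
    IsQuotBy (fun x => ⨆ j, idealSt (I j) x) (cokernel.π (mulMap (I 0) F) ≫ π) := fun x => by
  obtain ⟨h0s, h0k⟩ := isQuotBy_cokernel (I 0) F x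
  obtain ⟨hs, hk⟩ := hπ x
  have hcomp : CurveCoh17.stalkLin (cokernel.π (mulMap (I 0) F) ≫ π) x =
      (CurveCoh17.stalkLin π x).comp (CurveCoh17.stalkLin (cokernel.π (mulMap (I 0) F)) x) :=
    LinearMap.ext fun a => CurveCoh17.stalkLin_comp _ _ x a
  refine ⟨hcomp ▸ hs.comp h0s, ?_⟩
  let q := CurveCoh17.stalkLin (cokernel.π (mulMap (I 0) F)) x
  have hmap : (⨆ j : Fin r, idealSt (I j.succ) x) •
      (⊤ : Submodule (X.presheaf.stalk x) ((cokernel (mulMap (I 0) F)).presheaf.stalk x)) =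
      Submodule.map q ((⨆ j : Fin r, idealSt (I j.succ) x) •
        (⊤ : Submodule (X.presheaf.stalk x) (F.presheaf.stalk x))) :=
    (congrArg _ ((Submodule.map_top q).trans (LinearMap.range_eq_top.2 h0s)).symm).trans
      (Submodule.map_smul'' _ _ q).symm
  rw [hcomp, LinearMap.ker_comp, hk]
  refine (congrArg (Submodule.comap q) hmap).trans ((Submodule.comap_map_eq q _).trans ?_)
  rw [h0k, ← Submodule.sup_smul]
  exact congrArg (fun J : Ideal (X.presheaf.stalk x) => J • (⊤ : Submodule (X.presheaf.stalk x)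
    (F.presheaf.stalk x))) (iSup_succ_sup fun i => idealSt (I i) x)

/-- Divisors meeting a Cohen–Macaulay module in finitely many points. -/
theorem exists_quot_md : ∀ (r : ℕ) (I : Fin r → X.IdealSheafData), (∀ j, BlowUp.IsEffCartierIdeal (I j)) →
    ∀ (F : X.Modules), Coh.IsCoh F → (meet I F).Finite →
      (∀ x ∈ meet I F, LocCoh.depth (X.presheaf.stalk x) (F.presheaf.stalk x) = (r : ℕ∞) ∧
        Module.supportDim (X.presheaf.stalk x) (F.presheaf.stalk x) ≤ (r : WithBot ℕ∞)) →
      ∃ (Q : X.Modules) (π : F ⟶ Q), Coh.IsCoh Q ∧ IsQuotBy (fun x => ⨆ j, idealSt (I j) x) π ∧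
        md k (fun j => ClSub.idealMod (I j)) F = (-1 : ℚ) ^ r * (Module.finrank k (Coh.HH X Q 0) : ℚ) := by
  intro r
  haveI : IsNoetherian X := CohFound.isNoetherian_of_isProper (X ↘ (Spec (CommRingCat.of k)))
  induction r with
  | zero =>
    intro I _ F hF hfin _
    have hs : CohB1.support F ⊆ meet I F := fun x hx => ⟨hx, fun j => j.elim0⟩
    have hd := dim_le_zero_of_finite (k := k) (M1.isClosed_support hF.2) (hfin.subset hs)
    refine ⟨F, 𝟙 F, hF, isQuotBy_id F I, ?_⟩
    rw [md_zero_vars, pow_zero, one_mul, Curv2.euler, finsum_eq_single _ 0 fun p hp => by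
      haveI := subsingleton_HH_of_support (k := k) hF hd (n := p) (Nat.pos_of_ne_zero hp)
      simp [Module.finrank_zero_of_subsingleton]]
    simp
  | succ r IH =>
    intro I hI F hF hfin hCM
    obtain ⟨Q', π', hQ', hπ'⟩ := exists_quot I hF
    have hsQ := support_quot I hF hπ'
    choose U hU a ha hg hgm using fun (j : Fin (r + 1)) (x : X) => exists_eqn (hI j) x
    have hstep : ∀ x ∈ meet I F, Function.Injective (CurveCoh17.stalkLin (mulMap (I 0) F) x) ∧
        LocCoh.depth (X.presheaf.stalk x) ((cokernel (mulMap (I 0) F)).presheaf.stalk x) = (r : ℕ∞) ∧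
        Module.supportDim (X.presheaf.stalk x) ((cokernel (mulMap (I 0) F)).presheaf.stalk x) ≤
          (r : WithBot ℕ∞) := by
      intro x hx
      haveI := M1.finite_stalk hF.1 hF.2 x
      haveI : Nontrivial (F.presheaf.stalk x) := not_subsingleton_iff_nontrivial.1 hx.1
      obtain ⟨hs', hk'⟩ := hπ' x
      have hlen : Module.length (X.presheaf.stalk x) (Q'.presheaf.stalk x) ≠ ⊤ := by
        refine Cyc26.length_stalk_ne_top hQ' fun y hy hyx => ?_
        have hyc := isClosed_of_finite (k := k) (M1.isClosed_support hQ'.2) (hfin.subset hsQ)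
          (not_subsingleton_iff_nontrivial.2 hy)
        exact (by simpa [hyc.closure_eq] using hyx.mem_closure : x = y).symm
      let g : Fin (r + 1) → X.presheaf.stalk x := fun j =>
        X.presheaf.germ (U j x).1 x (hU j x) (M2.idealIncl (I j) (a j x))
      have hker : LinearMap.ker (CurveCoh17.stalkLin π' x) =
          (⨆ j, Ideal.span {g j}) • (⊤ : Submodule (X.presheaf.stalk x) (F.presheaf.stalk x)) := by
        rw [hk']
        exact congrArg (fun J : Ideal (X.presheaf.stalk x) => J • (⊤ : Submodule (X.presheaf.stalk x)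
          (F.presheaf.stalk x))) (iSup_congr fun j => hg j x)
      obtain ⟨h1, h2, h3⟩ := regular_head g (fun j => hgm j x (hx.2 j)) (hCM x hx).1 (hCM x hx).2
        (CurveCoh17.stalkLin π' x) hs' hker hlen
      obtain ⟨hcs, hck⟩ := isQuotBy_cokernel (I 0) F x
      let e : (F.presheaf.stalk x ⧸ Ideal.span {g 0} • (⊤ : Submodule (X.presheaf.stalk x) (F.presheaf.stalk x)))
          ≃ₗ[X.presheaf.stalk x] (cokernel (mulMap (I 0) F)).presheaf.stalk x :=
        (Submodule.quotEquivOfEq _ _ (by rw [hck]; exact congrArg (fun J : Ideal (X.presheaf.stalk x) =>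
          J • (⊤ : Submodule (X.presheaf.stalk x) (F.presheaf.stalk x))) (hg 0 x).symm)).trans
          ((CurveCoh17.stalkLin (cokernel.π (mulMap (I 0) F)) x).quotKerEquivOfSurjective hcs)
      refine ⟨mulMap_injective (hI 0) F x (hg 0 x) h1, ?_, ?_⟩
      · rw [← h2]
        exact (DepthLib.idealDepth_congr e).symm
      · rw [← Module.supportDim_eq_of_equiv e]
        exact h3
    have hT := CurveCoh17.isCoh_tensor (CurveCoh17.isCoh_idealMod (I 0)) hF
    have hcok := M1.isCoh_cokernel hT.1 hF (mulMap (I 0) F)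
    have hker := CurveCoh17.isCoh_kernel hT hF.1 (mulMap (I 0) F)
    have hc : meet (fun j => I j.succ) (cokernel (mulMap (I 0) F)) ⊆ meet I F := fun x hx => by
      obtain ⟨hs, hk⟩ := isQuotBy_cokernel (I 0) F x
      refine ⟨fun h => hx.1 (by haveI := h; exact hs.subsingleton), fun j => Fin.cases ?_ hx.2 j⟩
      refine mem_support_of_le x ?_
      by_contra hle
      have htop : idealSt (I 0) x = ⊤ := by_contra fun hne => hle (IsLocalRing.le_maximalIdeal hne)
      refine hx.1 (subsingleton_of_forall_eq 0 fun b => ?_)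
      obtain ⟨c, rfl⟩ := hs b
      refine LinearMap.mem_ker.1 ?_
      rw [hk]
      simp only [htop, Submodule.top_smul, Submodule.mem_top]
    have hK : md k (fun j => ClSub.idealMod (I j.succ)) (kernel (mulMap (I 0) F)) = 0 := by
      refine md_eq_zero_of_meet_empty r _ (fun j => hI j.succ) _ hker
        (Set.eq_empty_of_forall_notMem fun x hx => hx.1 ?_)
      have hinj : Function.Injective (CurveCoh17.stalkLin (mulMap (I 0) F) x) := by
        by_cases hx0 : x ∈ ((I 0).support : Set X)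
        · exact (hstep x ⟨support_tensor_subset_right _ _ (CohFound.support_subset_of_mono (kernel.ι _) hx.1),
            fun j => Fin.cases hx0 hx.2 j⟩).1
        · refine mulMap_injective (hI 0) F x (g := 1) ?_ (IsSMulRegular.one _)
          rw [Ideal.span_singleton_one]
          exact by_contra fun hne => hx0 (mem_support_of_le x (IsLocalRing.le_maximalIdeal hne))
      refine subsingleton_of_forall_eq 0 fun b => ?_
      refine (M1.mono_iff_stalk (kernel.ι (mulMap (I 0) F))).1 inferInstance x (hinj ?_)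
      refine ((CurveCoh17.stalkLin_comp _ _ x b).symm.trans ?_).trans (by
        show (0 : F.presheaf.stalk x) = _
        rw [map_zero]; exact (map_zero (CurveCoh17.stalkLin (mulMap (I 0) F) x)).symm)
      rw [kernel.condition, CurveCoh17.stalkLin_apply, CategoryTheory.Functor.map_zero]
      rfl
    obtain ⟨Q, π, hQ, hπ, hmd⟩ := IH (fun j => I j.succ) (fun j => hI j.succ) _ hcok (hfin.subset hc)
      fun x hx => (hstep x (hc hx)).2
    refine ⟨Q, cokernel.π (mulMap (I 0) F) ≫ π, hQ, isQuotBy_cons I F hπ, ?_⟩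
    rw [idealMods_cons, md_ideal_cons (hI 0) (fun j => M2.isInvertible_idealMod _ (hI j.succ)) hF, hK, hmd, pow_succ]
    ring

omit [X.Over (Spec (CommRingCat.of k))] in
theorem exists_iso_of_isQuotBy {J : ∀ x : X, Ideal (X.presheaf.stalk x)} {F Q Q' : X.Modules} {π : F ⟶ Q}
    {π' : F ⟶ Q'} (h : IsQuotBy J π) (h' : IsQuotBy J π') : Nonempty (Q ≅ Q') := by
  haveI : Epi π := (M1.epi_iff_stalk π).2 fun x => (h x).1
  have hz : kernel.ι π ≫ π' = 0 := CurveAmple18.eq_zero_of_stalkLin _ fun x a => by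
    rw [CurveCoh17.stalkLin_comp]
    refine LinearMap.mem_ker.1 ?_
    rw [(h' x).2, ← (h x).2, LinearMap.mem_ker, ← CurveCoh17.stalkLin_comp, kernel.condition]
    exact CurveAmple18.stalkLin_zero x a
  let φ : Q ⟶ Q' := Abelian.epiDesc π π' hz
  have hφ : π ≫ φ = π' := Abelian.comp_epiDesc π π' hz
  haveI : Epi φ := (M1.epi_iff_stalk φ).2 fun x b => by
    obtain ⟨c, rfl⟩ := (h' x).1 b
    exact ⟨CurveCoh17.stalkLin π x c, (CurveCoh17.stalkLin_comp π φ x c).symm.trans
      (congrArg (fun ψ => CurveCoh17.stalkLin ψ x c) hφ)⟩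
  haveI : Mono φ := (M1.mono_iff_stalk φ).2 fun x => (injective_iff_map_eq_zero (CurveCoh17.stalkLin φ x)).2
    fun b hb => by
      obtain ⟨c, rfl⟩ := (h x).1 b
      rw [← CurveCoh17.stalkLin_comp, hφ, ← LinearMap.mem_ker, (h' x).2, ← (h x).2, LinearMap.mem_ker] at hb
      exact hb
  haveI : IsIso φ := isIso_of_mono_of_epi φ
  exact ⟨asIso φ⟩

omit [X.Over (Spec (CommRingCat.of k))] in
theorem exists_quotBy_tensor_quotMod (J : X.IdealSheafData) (F : X.Modules) :
    ∃ π : F ⟶ CohB1.tensorMod F (ClSub.quotMod J), IsQuotBy (fun x => idealSt J x) π := by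
  let t := M2.tensorMap (ClSub.toSubscheme J) (𝟙 F)
  let e := M2.tensorLUnit F
  let c := M2.tensorComm (ClSub.quotMod J) F
  refine ⟨e.inv ≫ t ≫ c.hom, fun x => ?_⟩
  have hS := M2.shortExact_idealMod J
  haveI : Epi (ClSub.toSubscheme J) := hS.epi_g
  have hsurjJ : Function.Surjective (CurveCoh17.stalkLin (ClSub.toSubscheme J) x) :=
    (M1.epi_iff_stalk (ClSub.toSubscheme J)).1 inferInstance x
  have hsurjt : Function.Surjective (CurveCoh17.stalkLin t x) := fun b => by
    obtain ⟨w, hw⟩ := LinearMap.rTensor_surjective (F.presheaf.stalk x) hsurjJ (M2.stalkEquiv _ _ x b)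
    refine ⟨(M2.stalkEquiv _ _ x).symm w, (M2.stalkEquiv _ _ x).injective ?_⟩
    rw [CurveCoh17.stalkEquiv_natural, LinearEquiv.apply_symm_apply, hw]
  refine ⟨fun b => ?_, ?_⟩
  · obtain ⟨b1, rfl⟩ := (M1.epi_iff_stalk c.hom).1 inferInstance x b
    obtain ⟨b2, rfl⟩ := hsurjt b1
    obtain ⟨b3, rfl⟩ := (M1.epi_iff_stalk e.inv).1 inferInstance x b2
    exact ⟨b3, by rw [CurveCoh17.stalkLin_comp, CurveCoh17.stalkLin_comp]; rfl⟩
  rw [← range_mulMap]
  ext b
  rw [LinearMap.mem_ker, CurveCoh17.stalkLin_comp, CurveCoh17.stalkLin_comp]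
  constructor
  · intro hb
    have h1 : CurveCoh17.stalkLin t x (CurveCoh17.stalkLin e.inv x b) = 0 :=
      (M1.mono_iff_stalk c.hom).1 inferInstance x (hb.trans (map_zero (CurveCoh17.stalkLin c.hom x)).symm)
    have hex : Function.Exact (CurveCoh17.stalkLin (ClSub.idealModι J) x)
        (CurveCoh17.stalkLin (ClSub.toSubscheme J) x) := by
      intro d
      refine ⟨fun hd => (M1.exact_iff_stalk_eq_zero _).1 hS.exact x d hd, ?_⟩
      rintro ⟨d', rfl⟩
      rw [← CurveCoh17.stalkLin_comp]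
      exact (congrArg (fun ψ => CurveCoh17.stalkLin ψ x d') (kernel.condition (ClSub.toSubscheme J))).trans
        (CurveAmple18.stalkLin_zero x d')
    obtain ⟨w, hw⟩ := (rTensor_exact (F.presheaf.stalk x) hex hsurjJ
      (M2.stalkEquiv _ _ x (CurveCoh17.stalkLin e.inv x b))).1 (by
        rw [← CurveCoh17.stalkEquiv_natural, h1, map_zero])
    refine ⟨(M2.stalkEquiv _ _ x).symm w, ?_⟩
    have h3 : CurveCoh17.stalkLin (M2.tensorMap (ClSub.idealModι J) (𝟙 F)) x ((M2.stalkEquiv _ _ x).symm w) =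
        CurveCoh17.stalkLin e.inv x b := (M2.stalkEquiv _ _ x).injective (by
      rw [CurveCoh17.stalkEquiv_natural, LinearEquiv.apply_symm_apply, hw])
    rw [show mulMap J F = M2.tensorMap (ClSub.idealModι J) (𝟙 F) ≫ e.hom from rfl, CurveCoh17.stalkLin_comp, h3,
      ← CurveCoh17.stalkLin_comp, e.inv_hom_id, CurveCoh17.stalkLin_apply, CategoryTheory.Functor.map_id]
    rfl
  · rintro ⟨w, rfl⟩
    have hι : ClSub.idealModι J ≫ ClSub.toSubscheme J = 0 := kernel.condition _
    have hz : M2.tensorMap (ClSub.idealModι J) (𝟙 F) ≫ t = 0 :=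
      ((M2.tensorR F).map_comp _ _).symm.trans ((congrArg (M2.tensorR F).map hι).trans
        (CategoryTheory.Functor.map_zero _ _ _))
    have hz' : mulMap J F ≫ e.inv ≫ t ≫ c.hom = 0 := by
      rw [show mulMap J F = M2.tensorMap (ClSub.idealModι J) (𝟙 F) ≫ e.hom from rfl, Category.assoc,
        e.hom_inv_id_assoc, ← Category.assoc, hz, zero_comp]
    have h := congrArg (fun ψ => CurveCoh17.stalkLin ψ x w) hz'
    simp only [CurveCoh17.stalkLin_comp] at h
    exact h.trans (CurveAmple18.stalkLin_zero x w)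

omit [X.Over (Spec (CommRingCat.of k))] in
theorem supportDim_stalk_le {F : X.Modules} (hF : Coh.IsCoh F) {d : WithBot ℕ∞}
    (hd : topologicalKrullDim (CohB1.support F) ≤ d) (x : X) :
    Module.supportDim (X.presheaf.stalk x) (F.presheaf.stalk x) ≤ d := by
  haveI := hF.1
  haveI := M1.finite_stalk hF.1 hF.2 x
  let R := X.presheaf.stalk x
  let A := Module.annihilator R (F.presheaf.stalk x)
  rw [Module.supportDim_eq_ringKrullDim_quotient_annihilator, ← PrimeSpectrum.topologicalKrullDim_eq_ringKrullDim]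
  let q : PrimeSpectrum (R ⧸ A) → X := fun p => X.fromSpecStalk x (PrimeSpectrum.comap (Ideal.Quotient.mk A) p)
  have hqi : Topology.IsInducing q := (X.fromSpecStalk x).isEmbedding.isInducing.comp
    (PrimeSpectrum.isClosedEmbedding_comap_of_surjective _ _ Ideal.Quotient.mk_surjective).isInducing
  have hmem : ∀ p, q p ∈ CohB1.support F := by
    intro p
    obtain ⟨U, hU, hxU, -⟩ := exists_isAffineOpen_mem_and_subset (x := x) (U := (⊤ : X.Opens)) trivial
    by_contra hy
    rw [← M1.support_annSheaf hF.1 hF.2, SetLike.mem_coe] at hy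
    let P : PrimeSpectrum R := PrimeSpectrum.comap (Ideal.Quotient.mk A) p
    have hq : q p = hU.fromSpec (PrimeSpectrum.comap (X.presheaf.germ U x hxU).hom P) := by
      show X.fromSpecStalk x P = _
      rw [← IsAffineOpen.fromSpecStalk_eq_fromSpecStalk hU hxU]
      rfl
    have hqU : q p ∈ U := by
      rw [hq]
      exact hU.range_fromSpec.le (Set.mem_range_self _)
    rw [Scheme.IdealSheafData.mem_support_iff_of_mem (U := ⟨U, hU⟩) hqU, Scheme.mem_zeroLocus_iff] at hy
    push Not at hy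
    obtain ⟨b, hb, hby⟩ := hy
    have hbA : X.presheaf.germ U x hxU b ∈ A := Module.mem_annihilator.2 fun m => by
      obtain ⟨r, t, hr, hrt⟩ := M1.exists_germ_smul_eq F hU hxU m
      rw [M1.annSheaf_ideal] at hb
      refine hr.smul_left_cancel.1 ?_
      rw [smul_zero, smul_comm, hrt, ← M1.germ_smul, Module.mem_annihilator.1 hb t, map_zero]
    refine absurd hby ?_
    rw [hq]
    intro hmem'
    have h2 : PrimeSpectrum.comap (X.presheaf.germ U x hxU).hom P ∈ (hU.fromSpec ⁻¹ᵁ X.basicOpen b) := hmem'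
    rw [hU.fromSpec_preimage_basicOpen] at h2
    refine h2 (?_ : X.presheaf.germ U x hxU b ∈ P.asIdeal)
    show Ideal.Quotient.mk A (X.presheaf.germ U x hxU b) ∈ p.asIdeal
    rw [Ideal.Quotient.eq_zero_iff_mem.2 hbA]
    exact zero_mem _
  exact ((hqi.codRestrict hmem).topologicalKrullDim_le).trans hd

/-- Divisors meeting a module in finitely many Cohen–Macaulay points. -/
theorem intNum_eq_h0 {d : ℕ} (hd : topologicalKrullDim X ≤ (d : WithBot ℕ∞)) {r : ℕ}
    (I : Fin r → X.IdealSheafData) (hI : ∀ j, BlowUp.IsEffCartierIdeal (I j)) (F : X.Modules) (hF : Coh.IsCoh F)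
    (hfin : (((⨆ j, I j).support : Set X) ∩ CohB1.support F).Finite)
    (hCM : ∀ x ∈ ((⨆ j, I j).support : Set X) ∩ CohB1.support F,
      LocCoh.depth (X.presheaf.stalk x) (F.presheaf.stalk x) = (r : ℕ∞) ∧
        Module.supportDim (X.presheaf.stalk x) (F.presheaf.stalk x) ≤ (r : WithBot ℕ∞)) :
    FGA.intNum k X d (fun j => ClSub.idealMod (I j)) F =
      (Module.finrank k (Coh.HH X (CohB1.tensorMod F (ClSub.quotMod (⨆ j, I j))) 0) : ℤ) := by
  haveI : IsNoetherian X := CohFound.isNoetherian_of_isProper (X ↘ (Spec (CommRingCat.of k)))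
  rw [← meet_eq] at hfin hCM
  obtain ⟨Q, π, hQ, hπ, hmd⟩ := exists_quot_md (k := k) r I hI F hF hfin hCM
  obtain ⟨π', hπ'⟩ := exists_quotBy_tensor_quotMod (⨆ j, I j) F
  obtain ⟨e⟩ := exists_iso_of_isQuotBy hπ (Q' := CohB1.tensorMod F (ClSub.quotMod (⨆ j, I j))) (π' := π')
    fun x => ⟨(hπ' x).1, (hπ' x).2.trans (by simp only [le_antisymm (idealSt_iSup_le I x) (le_idealSt_iSup I x)])⟩
  have h := intNum_eq_mixedDiff (k := k) hd (fun j => M2.isInvertible_idealMod _ (hI j)) hF
  rw [show mixedDiff (chi k (fun j => ClSub.idealMod (I j)) F) = md k (fun j => ClSub.idealMod (I j)) F from rfl,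
    hmd, ← mul_assoc, ← pow_add, ← two_mul, pow_mul, neg_one_sq, one_pow, one_mul,
    (CurveCoh17.hequiv k e 0).finrank_eq] at h
  exact_mod_cast h

end Groth.Agent.InterLen
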