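import Groth.Agent.Lib.NumPoly18.SurfReal
import Groth.Agent.Lib.TensorMod.PullSupport
import Groth.Agent.Lib.CurveAmple18.Basic

/-!
# The cones of a smooth projective surface
-/

set_option autoImplicit false
set_option linter.style.haveILetI false
set_option maxHeartbeats 800000
set_option backward.isDefEq.respectTransparency false

universe u

open CategoryTheory CategoryTheory.Limits AlgebraicGeometry TopologicalSpace Opposite

namespace Groth.Agent.SurfR

open Groth.Agent Groth.Agent.NumPoly18 Groth.Agent.Snapper NumR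

variable {k : Type u} [Field k] {X : Scheme.{u}} [X.Over (Spec (CommRingCat.of k))]
  [IsProper (X ↘ Spec (CommRingCat.of k))] [IsIntegral X]

include k in
/-- A module with a section is nonnegative on the curves off the zeros of the section. -/
theorem cdeg_pt_nonneg_of_section {L : X.Modules} (hL : PicF.IsInvertible L) (φ : Coh.structureModule X ⟶ L)
    {η : X} (hη : topologicalKrullDim (closure ({η} : Set X)) = 1) (hQ : η ∉ CohB1.support (cokernel φ)) :
    0 ≤ cdeg k L (ptMod η) := by
  haveI : IsNoetherian X := CohFound.isNoetherian_of_isProper (X ↘ (Spec (CommRingCat.of k)))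
  obtain ⟨hI, z, hz, hzη⟩ := isIntegral_pt η
  haveI := hI
  let ι := (ptIdeal η).subschemeι
  letI : (ptIdeal η).subscheme.Over (Spec (CommRingCat.of k)) := ⟨ι ≫ (X ↘ (Spec (CommRingCat.of k)))⟩
  haveI : IsProper ((ptIdeal η).subscheme ↘ (Spec (CommRingCat.of k))) :=
    inferInstanceAs (IsProper (ι ≫ (X ↘ (Spec (CommRingCat.of k)))))
  have hd : topologicalKrullDim (ptIdeal η).subscheme ≤ 1 :=
    ((AmpleFin18.dim_subscheme _ (Scheme.IdealSheafData.coe_support_vanishingIdeal _)).trans hη).le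
  have hLc := isCoh_of_isInvertible hL
  let ψ := (Twist.pullbackUnitIso ι).inv ≫ (Scheme.Modules.pullback ι).map φ
  have hne : ψ ≠ 0 := fun h0 => by
    haveI : PreservesFiniteColimits (Scheme.Modules.pullback ι) := KFlat.Sch.preservesFiniteColimits_pullback ι
    have h1 : (Scheme.Modules.pullback ι).map φ = 0 := by
      rw [← cancel_epi (Twist.pullbackUnitIso ι).inv, comp_zero]; exact h0
    let e : (Scheme.Modules.pullback ι).obj (cokernel φ) ≅ (Scheme.Modules.pullback ι).obj L :=
      PreservesCokernel.iso (Scheme.Modules.pullback ι) φ ≪≫ cokernelIsoOfEq h1 ≪≫ cokernelZeroIsoTarget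
    have hz1 : z ∈ CohB1.support ((Scheme.Modules.pullback ι).obj L) := by
      intro hs
      haveI := hs
      obtain ⟨f⟩ := CurveCoh17.nonempty_stalk_equiv ((M2.isInvertible_iff_isFinLocFreeOfRank_one _).1
        (Twist.isInvertible_pullback ι hL)) z
      haveI : Nontrivial (Fin 1 → (ptIdeal η).subscheme.presheaf.stalk z) := inferInstance
      exact not_subsingleton (Fin 1 → (ptIdeal η).subscheme.presheaf.stalk z) f.symm.toEquiv.subsingleton
    have hz2 := CohFound.support_subset_of_mono e.inv hz1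
    have hQc := M1.isCoh_cokernel (M1.isCoh_structureModule X).1 hLc φ
    rw [M2.support_pullback ι hQc.1 hQc.2] at hz2
    exact hQ (hzη ▸ hz2)
  have h := (CurveAmple18.deg_section (k := k) hd (Twist.isInvertible_pullback ι hL) (Amp.gval ψ)
    (CurveAmple18.gval_ne_zero hne)).1
  rw [show ptMod η = (Scheme.Modules.pushforward ι).obj (Coh.structureModule (ptIdeal η).subscheme) from rfl,
    cdeg_push ι rfl hL]
  exact_mod_cast h

omit [IsProper (X ↘ Spec (CommRingCat.of k))] [IsIntegral X] in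
/-- An integral curve is the reduced closure of its generic point. -/
theorem exists_eq_ptIdeal (C : X.IdealSheafData) (hC : IsIntegral C.subscheme)
    (h1 : topologicalKrullDim (C.support : Set X) = 1) :
    ∃ ξ : X, C = ptIdeal ξ ∧ topologicalKrullDim (closure ({ξ} : Set X)) = 1 := by
  haveI := hC
  have hr : closure ({C.subschemeι (genericPoint C.subscheme)} : Set X) = (C.support : Set X) := by
    rw [← Set.image_singleton, C.subschemeι.isClosedEmbedding.closure_image_eq, genericPoint_closure,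
      Set.image_univ, Scheme.IdealSheafData.range_subschemeι]
  refine ⟨_, ?_, hr ▸ h1⟩
  have h := RedSepLib.ker_eq_vanishingIdeal C.subschemeι
  rw [Scheme.IdealSheafData.ker_subschemeι] at h
  refine h.trans (congrArg Scheme.IdealSheafData.vanishingIdeal (Closeds.ext ?_))
  simp only [Closeds.closure, Closeds.coe_mk, Scheme.IdealSheafData.range_subschemeι, hr]
  exact C.support.isClosed'.closure_eq

variable [Smooth (X ↘ Spec (CommRingCat.of k))] [PicGrp.Law X]
  (hd : topologicalKrullDim X = ((2 : ℕ) : WithBot ℕ∞))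

/-- The class of the curve with generic point `ξ`, or zero. -/
noncomputable def ptCl (k : Type u) [Field k] {X : Scheme.{u}} [X.Over (Spec (CommRingCat.of k))] [PicGrp.Law X]
    (ξ : X) : N1R k X :=
  haveI := Classical.propDecidable
  if h : PicF.IsInvertible (ClSub.idealMod (ptIdeal ξ)) then curveCl k X (ptIdeal ξ) h else 0

include k hd in
omit [PicGrp.Law X] in
theorem invertible_pt {ξ : X} (hξ : topologicalKrullDim (closure ({ξ} : Set X)) = 1) :
    PicF.IsInvertible (ClSub.idealMod (ptIdeal ξ)) :=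
  M2.isInvertible_idealMod _ (isEffCartier_ptIdeal (k := k) hd hξ)

variable {B : N1R k X →ₗ[ℝ] N1R k X →ₗ[ℝ] ℝ} (hB : IsIntForm₂ k X B)
include hd hB

/-- Pairing with the class of a divisor is the degree on it. -/
theorem B_curveCl {C : X.IdealSheafData} (hI : PicF.IsInvertible (ClSub.idealMod C)) {L : X.Modules}
    (hL : PicF.IsInvertible L) :
    B (clR k X L hL) (curveCl k X C hI) = ((cdeg k L (ClSub.quotMod C) : ℚ) : ℝ) := by
  obtain ⟨M, hM, ⟨e⟩⟩ := M2.exists_inverse hI
  rw [curveCl, ← N1R.clR_inverse hI hM e, B_clR hd hB hL hM, dot_comm,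
    dot_eq_cdeg_quot hd.le (SecDiv.isEffCartierIdeal_of_isInvertible C hI) (Iso.refl _) hM
      (M2.tensorComm _ _ ≪≫ e) hL]

theorem B_ptCl {ξ : X} (hξ : topologicalKrullDim (closure ({ξ} : Set X)) = 1) {L : X.Modules}
    (hL : PicF.IsInvertible L) : B (clR k X L hL) (ptCl k ξ) = ((cdeg k L (ptMod ξ) : ℚ) : ℝ) := by
  rw [ptCl, dif_pos (invertible_pt (k := k) hd hξ), B_curveCl hd hB _ hL]

/-- An effective class is a nonnegative combination of curves. -/
theorem effective {L : X.Modules} (hL : PicF.IsInvertible L) (hs : HasMonoSec L) :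
    ∃ (T : Finset X) (c : X → ℝ), (∀ ξ, 0 ≤ c ξ) ∧ (∀ ξ ∈ T, topologicalKrullDim (closure ({ξ} : Set X)) = 1) ∧
      (∀ x, B x (clR k X L hL) = ∑ ξ ∈ T, c ξ * B x (ptCl k ξ)) ∧
      ∀ η, topologicalKrullDim (closure ({η} : Set X)) = 1 → η ∉ T → 0 ≤ B (clR k X L hL) (ptCl k η) := by
  haveI : IsNoetherian X := CohFound.isNoetherian_of_isProper (X ↘ (Spec (CommRingCat.of k)))
  classical
  obtain ⟨φ, hφ⟩ := hs
  haveI := hφ
  obtain ⟨hQ, hQd⟩ := dim_support_coker_of_mono (k := k) (d := 1) hd.le (PicLoc.isInvertible_structureModule X) hL φ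
  obtain ⟨T, hT⟩ := exists_finset_top (M1.isClosed_support hQ.2) hQd
  refine ⟨T, fun ξ => (lenAt (cokernel φ) ξ : ℝ), fun ξ => Rat.cast_nonneg.2 (lenAt_nonneg _ _),
    fun ξ hξ => by simpa using ((hT ξ).1 hξ).2, fun x => ?_, fun η hη hηT => ?_⟩
  · have h : B.flip (clR k X L hL) = ∑ ξ ∈ T, (lenAt (cokernel φ) ξ : ℝ) • B.flip (ptCl k ξ) := by
      refine N1R.lin_ext fun Z hZ => ?_
      simp only [LinearMap.flip_apply, LinearMap.sum_apply, LinearMap.smul_apply, smul_eq_mul]
      rw [B_clR hd hB hZ hL, dot_comm, dot, md_cons_of_section hL φ (fun _ => hZ),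
        md_eq_sum (fun _ : Fin 1 => hZ) (M1.isClosed_support hQ.2) hQd T hT hQ subset_rfl, Rat.cast_sum]
      refine Finset.sum_congr rfl fun ξ hξ => ?_
      rw [B_ptCl hd hB (by simpa using ((hT ξ).1 hξ).2) hZ, Rat.cast_mul]
      rfl
    have := LinearMap.congr_fun h x
    simpa [LinearMap.sum_apply] using this
  · rw [B_ptCl hd hB hη hL, Rat.cast_nonneg]
    exact cdeg_pt_nonneg_of_section hL φ hη fun hm => hηT ((hT η).2 ⟨hm, by simpa using hη⟩)

omit hd hB in
theorem curve_eq_pt (I : X.IdealSheafData) (hI : IsIntegral I.subscheme)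
    (h1 : topologicalKrullDim (I.support : Set X) = 1) :
    topologicalKrullDim (closure ({I.subschemeι (genericPoint I.subscheme)} : Set X)) = 1 := by
  haveI := hI
  rw [← Set.image_singleton, I.subschemeι.isClosedEmbedding.closure_image_eq, genericPoint_closure,
    Set.image_univ, Scheme.IdealSheafData.range_subschemeι]
  exact h1

theorem nef_ptCl {x : N1R k X} (hx : x ∈ nefCone₂ k X B) {ξ : X}
    (hξ : topologicalKrullDim (closure ({ξ} : Set X)) = 1) : 0 ≤ B x (ptCl k ξ) := by
  rw [ptCl, dif_pos (invertible_pt (k := k) hd hξ)]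
  exact hx (ptIdeal ξ) (isIntegral_pt ξ).1
    (by rw [show ((ptIdeal ξ).support : Set X) = closure {ξ} from Scheme.IdealSheafData.coe_support_vanishingIdeal _]
        exact hξ) _

theorem nef_effective {x : N1R k X} (hx : x ∈ nefCone₂ k X B) {L : X.Modules} (hL : PicF.IsInvertible L)
    (hs : HasMonoSec L) : 0 ≤ B x (clR k X L hL) := by
  obtain ⟨T, c, hc, hT, he, -⟩ := effective hd hB hL hs
  rw [he x]
  exact Finset.sum_nonneg fun ξ hξ => mul_nonneg (hc ξ) (nef_ptCl hd hB hx (hT ξ hξ))

theorem nef_ample {x : N1R k X} (hx : x ∈ nefCone₂ k X B) {H : X.Modules} (hH : CohB1.IsAmple H) :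
    0 ≤ B x (clR k X H hH.1) := by
  obtain ⟨n₀, hn⟩ := eventually_hasMonoSec k hH (PicLoc.isInvertible_structureModule X)
  have h := nef_effective hd hB hx (M2.isInvertible_tensorPow hH.1 (n₀ + 1))
    ((hn (n₀ + 1) n₀.le_succ).of_iso (M2.tensorLUnit _))
  rw [N1R.clR_pow hH.1, map_smul, smul_eq_mul] at h
  exact nonneg_of_mul_nonneg_right h (by positivity)

theorem pos_H {H : X.Modules} (hH : CohB1.IsAmple H) {x : N1R k X} (hx : x ∈ ampleCone k X) :
    0 < B x (clR k X H hH.1) := by
  refine N1R.ampleCone_induction (P := fun x => 0 < B x (clR k X H hH.1)) (fun A hA t ht => ?_)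
    (fun a b _ _ ha hb => by rw [map_add, LinearMap.add_apply]; exact add_pos ha hb) hx
  rw [map_smul, LinearMap.smul_apply, smul_eq_mul, B_clR hd hB hA.1 hH.1]
  refine mul_pos ht (Rat.cast_pos.2 (lt_of_le_of_ne ?_ (dot_ne_zero hd hH hA.1 (dot_self_pos hd hA)).symm))
  obtain ⟨n₀, hn⟩ := eventually_hasMonoSec k hA (PicLoc.isInvertible_structureModule X)
  have h := dot_nonneg_of_hasMonoSec (k := k) hd.le hH (M2.isInvertible_tensorPow hA.1 (n₀ + 1))
    ((hn (n₀ + 1) n₀.le_succ).of_iso (M2.tensorLUnit _)) hH.1 (nef_of_isAmple hH)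
  rw [dot_pow hd.le hA.1 hH.1] at h
  exact nonneg_of_mul_nonneg_right h (by positivity)

theorem ample_ample {x y : N1R k X} (hx : x ∈ ampleCone k X) (hy : y ∈ ampleCone k X) : 0 < B x y := by
  refine N1R.ampleCone_induction (P := fun y => 0 < B x y) (fun A hA t ht => ?_)
    (fun a b _ _ ha hb => by rw [map_add]; exact add_pos ha hb) hy
  rw [map_smul, smul_eq_mul]
  exact mul_pos ht (pos_H hd hB hA hx)

theorem ample_curve {x : N1R k X} (hx : x ∈ ampleCone k X) (I : X.IdealSheafData) (hI : IsIntegral I.subscheme)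
    (h1 : topologicalKrullDim (I.support : Set X) = 1) (hinv : PicF.IsInvertible (ClSub.idealMod I)) :
    0 < B x (curveCl k X I hinv) := by
  refine N1R.ampleCone_induction (P := fun x => 0 < B x (curveCl k X I hinv)) (fun A hA t ht => ?_)
    (fun a b _ _ ha hb => by rw [map_add, LinearMap.add_apply]; exact add_pos ha hb) hx
  rw [map_smul, LinearMap.smul_apply, smul_eq_mul, B_curveCl hd hB hinv hA.1]
  haveI := hI
  exact mul_pos ht (Rat.cast_pos.2 (cdeg_pos_of_isAmple k I h1 hA))

variable [Module.Finite ℝ (N1R k X)]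

/-- The pairing of two classes of the positive cone. -/
theorem pos_pair {H : X.Modules} (hH : CohB1.IsAmple H) {x y : N1R k X} (hx : x ∈ posCone k X B H hH.1)
    (hy : 0 ≤ B y y) (hyH : 0 < B y (clR k X H hH.1)) : 0 < B x y := by
  by_contra hneg
  push Not at hneg
  set h := clR k X H hH.1
  obtain ⟨hxx, hxh⟩ := hx
  set z := B y h • x - B x h • y with hz
  have hzh : B z h = 0 := by
    simp only [hz, map_sub, map_smul, LinearMap.sub_apply, LinearMap.smul_apply, smul_eq_mul]; ring
  have hzz : 0 < B z z := by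
    simp only [hz, map_sub, map_smul, LinearMap.sub_apply, LinearMap.smul_apply, smul_eq_mul, symm hd hB y x]
    nlinarith [mul_pos (mul_pos hyH hyH) hxx, mul_nonneg (mul_self_nonneg (B x h)) hy,
      mul_nonpos_of_nonneg_of_nonpos (mul_pos hyH hxh).le hneg]
  rw [eq_zero_of_orth hd hB hH hzh hzz.le] at hzz
  simp at hzz

theorem orth_pos {H : X.Modules} (hH : CohB1.IsAmple H) {x y : N1R k X} (hx : x ∈ posCone k X B H hH.1)
    (hy : 0 ≤ B y y) (hxy : B x y = 0) : y = 0 := by
  rcases lt_trichotomy (B y (clR k X H hH.1)) 0 with h | h | h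
  · have h' := pos_pair hd hB hH hx (y := -y) (by simpa using hy) (by simpa using h)
    simp [hxy] at h'
  · exact eq_zero_of_orth hd hB hH h hy
  · exact absurd hxy (pos_pair hd hB hH hx hy h).ne'

theorem isOpen_pos {H : X.Modules} (hH : CohB1.IsAmple H) : IsOpen (posCone k X B H hH.1) :=
  (isOpen_lt continuous_const (continuous_self hd hB)).inter
    (isOpen_lt continuous_const (continuous_left (B := B) _))

/-- A rational class in the positive cone has an effective multiple. -/
theorem exists_effective {H : X.Modules} (hH : CohB1.IsAmple H) {z : N1R k X} (hz : z ∈ N1R.ratClasses k X)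
    (hp : z ∈ posCone k X B H hH.1) :
    ∃ (L : X.Modules) (hL : PicF.IsInvertible L) (c : ℝ), HasMonoSec L ∧ 0 < c ∧ z = c • clR k X L hL := by
  obtain ⟨n, L, hL, hn, rfl⟩ := hz
  obtain ⟨h1, h2⟩ := hp
  have hn' : (0 : ℝ) < (n : ℝ)⁻¹ := by positivity
  simp only [map_smul, LinearMap.smul_apply, smul_eq_mul] at h1 h2
  rw [B_clR hd hB hL hL] at h1
  rw [B_clR hd hB hL hH.1] at h2
  have h1' : (0 : ℝ) < (dot k L L : ℚ) := pos_of_mul_pos_right (pos_of_mul_pos_right h1 hn'.le) hn'.le
  have h2' : (0 : ℝ) < (dot k L H : ℚ) := pos_of_mul_pos_right h2 hn'.le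
  obtain ⟨c, hc, n₀, hgr⟩ := eventually_sections hd hH hL (Rat.cast_pos.1 h1') (Rat.cast_pos.1 h2')
  refine ⟨_, M2.isInvertible_tensorPow hL (n₀ + 1), (n : ℝ)⁻¹ * ((n₀ + 1 : ℕ) : ℝ)⁻¹,
    hasMonoSec_of_nontrivial k (M2.isInvertible_tensorPow hL (n₀ + 1)) (Module.nontrivial_of_finrank_pos (R := k) ?_),
    by positivity, ?_⟩
  · have := lt_of_le_of_lt (by positivity) (hgr (n₀ + 1) n₀.le_succ)
    exact_mod_cast this
  · rw [N1R.clR_pow hL, smul_smul, mul_assoc, inv_mul_cancel₀ (by positivity), mul_one]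

/-- A continuous function nonnegative on rational points of an open set is nonnegative there. -/
theorem nonneg_of_rat {U : Set (N1R k X)} (hU : IsOpen U) {f : N1R k X → ℝ} (hf : Continuous f)
    (h : ∀ z ∈ U, z ∈ N1R.ratClasses k X → 0 ≤ f z) {w : N1R k X} (hw : w ∈ U) : 0 ≤ f w :=
  closure_minimal (fun z hz => h z hz.1 hz.2) (isClosed_le continuous_const hf)
    ((N1R.dense_ratClasses (k := k) (X := X)).open_subset_closure_inter hU hw)

theorem nef_pos_nonneg {H : X.Modules} (hH : CohB1.IsAmple H) {x w : N1R k X} (hx : x ∈ nefCone₂ k X B)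
    (hw : w ∈ posCone k X B H hH.1) : 0 ≤ B x w := by
  refine nonneg_of_rat hd hB (isOpen_pos hd hB hH) (f := fun w => B x w)
    (IsModuleTopology.continuous_of_linearMap (B x)) (fun z hz hzr => ?_) hw
  obtain ⟨L, hL, c, hs, hc, rfl⟩ := exists_effective hd hB hH hzr hz
  rw [map_smul, smul_eq_mul]
  exact mul_nonneg hc.le (nef_effective hd hB hx hL hs)

/-- Nef classes have nonnegative square. -/
theorem self_nonneg_of_nef {H : X.Modules} (hH : CohB1.IsAmple H) {x : N1R k X} (hx : x ∈ nefCone₂ k X B) :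
    0 ≤ B x x := by
  set h := clR k X H hH.1
  by_contra hneg
  push Not at hneg
  have hb : 0 ≤ B x h := nef_ample hd hB hx hH
  have hhh : 0 < B h h := self_pos hd hB hH
  have key : ∀ t : ℝ, 0 ≤ t → 0 < B x x + 2 * t * B x h + t ^ 2 * B h h → 0 < B x h + t * B h h →
      0 ≤ B x x + t * B x h := fun t ht h2 h3 => by
    have := nef_pos_nonneg hd hB hH hx (w := x + t • h) ⟨by
      simp only [map_add, map_smul, LinearMap.add_apply, LinearMap.smul_apply, smul_eq_mul, symm hd hB h x]
      linarith, by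
      simp only [map_add, map_smul, LinearMap.add_apply, LinearMap.smul_apply, smul_eq_mul]
      exact h3⟩
    simpa using this
  rcases hb.lt_or_eq with hb | hb
  · have := key (3 * (- B x x) / (4 * B x h)) (div_nonneg (by linarith) (by linarith)) (by
      rw [show 2 * (3 * (- B x x) / (4 * B x h)) * B x h = 3 / 2 * (- B x x) by field_simp; ring]
      nlinarith [mul_nonneg (sq_nonneg (3 * (- B x x) / (4 * B x h))) hhh.le])
      (add_pos_of_pos_of_nonneg hb (mul_nonneg (div_nonneg (by linarith) (by linarith)) hhh.le))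
    rw [show 3 * (- B x x) / (4 * B x h) * B x h = 3 / 4 * (- B x x) by field_simp] at this
    linarith
  · obtain ⟨t, ht⟩ := exists_nat_gt ((- B x x) / B h h + 1)
    rw [← hb] at key
    have h1 : (1 : ℝ) ≤ t := by linarith [div_nonneg (neg_pos.2 hneg).le hhh.le]
    have h2 : - B x x < (t : ℝ) * B h h := (div_lt_iff₀ hhh).1 (by linarith)
    have := key t (by linarith) (by nlinarith [mul_nonneg (mul_nonneg (sub_nonneg.2 h1) (by linarith : (0 : ℝ) ≤ t)) hhh.le])
      (by nlinarith)
    linarith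

theorem nef_of_mem_ampleCone {x : N1R k X} (hx : x ∈ ampleCone k X) : x ∈ nefCone₂ k X B :=
  fun I hI h1 hinv => (ample_curve hd hB hx I hI h1 hinv).le

omit [Smooth (X ↘ Spec (CommRingCat.of k))] hd hB in
/-- Below a class there are rational classes, in every open set around it. -/
theorem exists_rat_below {H : X.Modules} (hH : CohB1.IsAmple H) {x : N1R k X} {U : Set (N1R k X)} (hU : IsOpen U)
    (hx : x ∈ U) : ∃ z ∈ U, z ∈ N1R.ratClasses k X ∧ x - z ∈ ampleCone k X := by
  haveI : ContinuousNeg (N1R k X) := ⟨IsModuleTopology.continuous_neg ℝ (N1R k X)⟩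
  haveI : IsTopologicalAddGroup (N1R k X) := { }
  set h : N1R k X := clR k X H hH.1 with hdef
  have hlin : Continuous (fun t : ℝ => t • h) :=
    IsModuleTopology.continuous_of_linearMap (LinearMap.toSpanSingleton ℝ (N1R k X) h)
  have hc : Continuous (fun t : ℝ => x - t • h) := continuous_const.sub hlin
  have h0 : x - (0 : ℝ) • h = x := by rw [zero_smul, sub_zero]
  have hlim : Filter.Tendsto (fun t : ℝ => x - t • h) (nhdsWithin 0 (Set.Ioi 0)) (nhds x) :=
    tendsto_nhdsWithin_of_tendsto_nhds (hc.tendsto' 0 x h0)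
  obtain ⟨t, ht, ht'⟩ := ((hlim.eventually (hU.mem_nhds hx)).and self_mem_nhdsWithin).exists
  have hA : x - (x - t • h) ∈ ampleCone k X := by
    rw [sub_sub_cancel]
    exact (ampleCone k X).smul_mem ht' (N1R.clR_mem_ampleCone hH)
  obtain ⟨z, ⟨hzU, hzA⟩, hzr⟩ := (N1R.dense_ratClasses (k := k) (X := X)).inter_open_nonempty
    (U ∩ (fun z => x - z) ⁻¹' (ampleCone k X : Set (N1R k X)))
    (hU.inter ((N1R.isOpen_ampleCone (k := k) (X := X)).preimage (continuous_const.sub continuous_id))) ⟨_, ht, hA⟩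
  exact ⟨z, hzU, hzr, hzA⟩

/-- A rational class of positive square which is positive on curves is ample. -/
theorem rat_mem_ampleCone {H : X.Modules} (hH : CohB1.IsAmple H) {z : N1R k X} (hz : z ∈ N1R.ratClasses k X)
    (hp : z ∈ posCone k X B H hH.1)
    (hcur : ∀ η, topologicalKrullDim (closure ({η} : Set X)) = 1 → 0 < B z (ptCl k η)) : z ∈ ampleCone k X := by
  obtain ⟨n, L, hL, hn, rfl⟩ := hz
  obtain ⟨h1, h2⟩ := hp
  have hn' : (0 : ℝ) < (n : ℝ)⁻¹ := by positivity
  simp only [map_smul, LinearMap.smul_apply, smul_eq_mul] at h1 h2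
  rw [B_clR hd hB hL hL] at h1
  rw [B_clR hd hB hL hH.1] at h2
  have hpt : ∀ η, topologicalKrullDim (closure ({η} : Set X)) = 1 → 0 < cdeg k L (ptMod η) := fun η hη => by
    have h' := hcur η hη
    rw [map_smul, LinearMap.smul_apply, smul_eq_mul, B_ptCl hd hB hη hL] at h'
    exact Rat.cast_pos.1 (pos_of_mul_pos_right h' hn'.le)
  have hA : CohB1.IsAmple L := isAmple_of_pos hd hH hL
    (Rat.cast_pos.1 (pos_of_mul_pos_right (pos_of_mul_pos_right h1 hn'.le) hn'.le))
    (Rat.cast_pos.1 (pos_of_mul_pos_right h2 hn'.le)).le (fun C hC hC1 => by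
      obtain ⟨η, rfl, hη⟩ := exists_eq_ptIdeal C hC hC1
      exact hpt η hη)
  exact (ampleCone k X).smul_mem hn' (N1R.clR_mem_ampleCone hA)

omit [Module.Finite ℝ (N1R k X)] in
theorem ample_ptCl {x : N1R k X} (hx : x ∈ ampleCone k X) {η : X}
    (hη : topologicalKrullDim (closure ({η} : Set X)) = 1) : 0 < B x (ptCl k η) := by
  rw [ptCl, dif_pos (invertible_pt (k := k) hd hη)]
  exact ample_curve hd hB hx _ (isIntegral_pt η).1
    (by rw [show ((ptIdeal η).support : Set X) = closure {η} from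
          Scheme.IdealSheafData.coe_support_vanishingIdeal _]
        exact hη) _

/-- Nakai for real classes. -/
theorem mem_ampleCone {H : X.Modules} (hH : CohB1.IsAmple H) {x : N1R k X} (hxx : 0 < B x x)
    (hcur : ∀ (I : X.IdealSheafData), IsIntegral I.subscheme → topologicalKrullDim (I.support : Set X) = 1 →
      ∀ hI : PicF.IsInvertible (ClSub.idealMod I), 0 < B x (curveCl k X I hI)) :
    x ∈ ampleCone k X := by
  classical
  haveI : ContinuousNeg (N1R k X) := ⟨IsModuleTopology.continuous_neg ℝ (N1R k X)⟩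
  haveI : IsTopologicalAddGroup (N1R k X) := { }
  have hx : x ∈ nefCone₂ k X B := fun I a b c => (hcur I a b c).le
  have hxp : x ∈ posCone k X B H hH.1 :=
    ⟨hxx, lt_of_le_of_ne (nef_ample hd hB hx hH) (ne_zero_of_pos hd hB hH hxx).symm⟩
  obtain ⟨z₀, hz₀p, hz₀r, hz₀A⟩ := exists_rat_below hH (isOpen_pos hd hB hH) hxp
  obtain ⟨L₀, hL₀, c₀, hs₀, hc₀, rfl⟩ := exists_effective hd hB hH hz₀r hz₀p
  obtain ⟨T, -, -, hT1, -, hoff⟩ := effective hd hB hL₀ hs₀
  let V : Set (N1R k X) := posCone k X B H hH.1 ∩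
    (fun z => z - c₀ • clR k X L₀ hL₀) ⁻¹' (ampleCone k X : Set (N1R k X)) ∩ ⋂ ξ ∈ T, {z | 0 < B z (ptCl k ξ)}
  have hV : IsOpen V := ((isOpen_pos hd hB hH).inter ((N1R.isOpen_ampleCone (k := k) (X := X)).preimage
    (continuous_id.sub continuous_const))).inter
    (isOpen_biInter_finset fun ξ _ => isOpen_lt continuous_const (continuous_left (B := B) _))
  have hxV : x ∈ V := ⟨⟨hxp, hz₀A⟩, Set.mem_iInter₂.2 fun ξ hξ => show 0 < B x (ptCl k ξ) by
    rw [ptCl, dif_pos (invertible_pt (k := k) hd (hT1 ξ hξ))]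
    exact hcur _ (isIntegral_pt ξ).1
      (by rw [show ((ptIdeal ξ).support : Set X) = closure {ξ} from Scheme.IdealSheafData.coe_support_vanishingIdeal _]
          exact hT1 ξ hξ) _⟩
  obtain ⟨z, ⟨⟨hzp, hzA⟩, hzT⟩, hzr, hzx⟩ := exists_rat_below hH hV hxV
  suffices hcurz : ∀ η, topologicalKrullDim (closure ({η} : Set X)) = 1 → 0 < B z (ptCl k η) by
    have := (ampleCone k X).add_mem (rat_mem_ampleCone hd hB hH hzr hzp hcurz) hzx
    rwa [add_sub_cancel] at this
  intro η hη
  by_cases hηT : η ∈ T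
  · exact Set.mem_iInter₂.1 hzT η hηT
  · have h1 := hoff η hη hηT
    have h2 := ample_ptCl hd hB hzA hη
    simp only [map_sub, map_smul, LinearMap.sub_apply, LinearMap.smul_apply, smul_eq_mul] at h2
    linarith [mul_nonneg hc₀.le h1]

end Groth.Agent.SurfR
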