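import Groth.Agent.Lib.NumPoly18.SurfProj
import Groth.Agent.Lib.ModLimH13.Flat
import Groth.Agent.Lib.GeomIrr18.Scheme
import Groth.Agent.Lib.OrbitTop19.Smooth
import Groth.Agent.Lib.RelAmple18.Twist
import Groth.Agent.Lib.DimF18.Prod
import Groth.Agent.Lib.VB17.Proper
import Groth.Agent.S12131

/-!
# The product of two smooth proper curves: fibre classes
-/

set_option autoImplicit false
set_option linter.style.haveILetI false
set_option maxHeartbeats 1000000
set_option backward.isDefEq.respectTransparency false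

universe u

open CategoryTheory CategoryTheory.Limits AlgebraicGeometry TopologicalSpace Opposite

namespace Groth.Agent.NumPoly18

open Groth.Agent Groth.Agent.Snapper

variable {k : Type u} [Field k]

theorem euler_unit_point [IsAlgClosed k] :
    letI : (Spec (CommRingCat.of k)).Over (Spec (CommRingCat.of k)) := ⟨𝟙 _⟩
    Curv2.euler k (Spec (CommRingCat.of k)) (Coh.structureModule _) = 1 := by
  letI : (Spec (CommRingCat.of k)).Over (Spec (CommRingCat.of k)) := ⟨𝟙 _⟩
  haveI : IsProper ((Spec (CommRingCat.of k)) ↘ Spec (CommRingCat.of k)) := inferInstanceAs (IsProper (𝟙 _))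
  haveI : Smooth ((Spec (CommRingCat.of k)) ↘ Spec (CommRingCat.of k)) := inferInstanceAs (Smooth (𝟙 _))
  haveI : ConnectedSpace (Spec (CommRingCat.of k)) := inferInstance
  have hd : topologicalKrullDim (Spec (CommRingCat.of k)) ≤ ((0 : ℕ) : WithBot ℕ∞) := by
    haveI : Subsingleton (IrreducibleCloseds (Spec (CommRingCat.of k))) := ⟨fun a b => IrreducibleCloseds.ext
      (Set.ext fun z => by
        obtain ⟨x1, hx1⟩ := a.isIrreducible.nonempty
        obtain ⟨x2, hx2⟩ := b.isIrreducible.nonempty
        exact ⟨fun _ => Subsingleton.elim x2 z ▸ hx2, fun _ => Subsingleton.elim x1 z ▸ hx1⟩)⟩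
    exact Order.krullDim_nonpos_of_subsingleton
  haveI : IsNoetherian (Spec (CommRingCat.of k)) :=
    CohFound.isNoetherian_of_isProper ((Spec (CommRingCat.of k)) ↘ Spec (CommRingCat.of k))
  rw [← eulerCharLE_eq_euler 0 hd (M1.isCoh_structureModule _), FGA.eulerCharLE]
  simp [VB17.h0_one_of_smooth]

variable [IsAlgClosed k] {X C : Scheme.{u}} [X.Over (Spec (CommRingCat.of k))] [C.Over (Spec (CommRingCat.of k))]
  [IsProper (X ↘ Spec (CommRingCat.of k))]
  [IsProper (C ↘ Spec (CommRingCat.of k))] [Smooth (C ↘ Spec (CommRingCat.of k))] [IsIntegral C]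

/-- A rational point of a smooth curve is a Cartier divisor of degree one. -/
theorem exists_point_class (hC : topologicalKrullDim C = 1) (y : Spec (CommRingCat.of k) ⟶ C)
    (hy : y ≫ (C ↘ Spec (CommRingCat.of k)) = 𝟙 _) :
    IsClosedImmersion y ∧ BlowUp.IsEffCartierIdeal y.ker ∧ ∃ N : C.Modules, PicF.IsInvertible N ∧
      Nonempty (CohB1.tensorMod (ClSub.idealMod y.ker) N ≅ Coh.structureModule C) ∧ Curv2.deg k C N 1 = 1 := by
  haveI : IsClosedImmersion (y ≫ (C ↘ Spec (CommRingCat.of k))) := by rw [hy]; infer_instance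
  haveI hyc : IsClosedImmersion y := IsClosedImmersion.of_comp y (C ↘ Spec (CommRingCat.of k))
  haveI : IsNoetherian C := CohFound.isNoetherian_of_isProper (C ↘ (Spec (CommRingCat.of k)))
  have hC' : topologicalKrullDim C = ((1 : ℕ) : WithBot ℕ∞) := by simpa using hC
  obtain ⟨e, he⟩ := exists_iso_subscheme y
  haveI : IsIntegral y.ker.subscheme := IsIntegral.of_isIso e.hom
  have hE : BlowUp.IsEffCartierIdeal y.ker := by
    refine S1684.result C y.ker ?_ fun x _ => ?_
    · set p := y.ker.subschemeι (genericPoint y.ker.subscheme)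
      have hp : IsClosed ({p} : Set C) := by
        haveI : Subsingleton y.ker.subscheme := e.inv.homeomorph.injective.subsingleton
        have : ({p} : Set C) = Set.range y.ker.subschemeι := by
          ext z
          exact ⟨fun h => ⟨_, h.symm⟩, fun ⟨w, hw⟩ => hw ▸ congrArg _ (Subsingleton.elim _ _)⟩
        rw [this]
        exact y.ker.subschemeι.isClosedEmbedding.isClosed_range
      have h := ringKrullDim_stalk_of_sdim (k := k) hC' p
      rwa [(VarDim.sdim_eq_zero_iff_isClosed (C ↘ Spec (CommRingCat.of k)) p).2 hp, Nat.cast_zero, add_zero,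
        Nat.cast_one] at h
    · haveI := SmoothReg17.isRegularLocalRing_stalk (C ↘ Spec (CommRingCat.of k)) x
      exact ⟨RegLoc.isDomain _, RegLoc.ufd_of_isRegularLocalRing _⟩
  refine ⟨hyc, hE, ?_⟩
  have hI := M2.isInvertible_idealMod _ hE
  obtain ⟨N, hN, ⟨eN⟩⟩ := M2.exists_inverse hI
  refine ⟨N, hN, ⟨eN⟩, ?_⟩
  letI : (Spec (CommRingCat.of k)).Over (Spec (CommRingCat.of k)) := ⟨𝟙 _⟩
  haveI : IsNoetherian (Spec (CommRingCat.of k)) := CohFound.isNoetherian_of_isProper (𝟙 (Spec (CommRingCat.of k)))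
  obtain ⟨eq⟩ := nonempty_quotMod_ker y
  have hO := M1.isCoh_structureModule C
  have h1 := md_shortExact (k := k) (L := fun i : Fin 0 => i.elim0) (fun i => i.elim0) (M2.shortExact_idealMod y.ker)
    (isCoh_of_isInvertible hI) hO (CurveCoh17.isCoh_quotMod _)
  simp only [md_zero_vars] at h1
  have h2 : Curv2.euler k C (ClSub.quotMod y.ker) = 1 := by
    rw [CurveCoh17.euler_iso eq, AmpleFin18.euler_push y hy _ (M1.isQCoh_structureModule _), euler_unit_point]
  have hd : topologicalKrullDim (CohB1.support (Coh.structureModule C)) ≤ ((0 + 1 : ℕ) : WithBot ℕ∞) :=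
    dim_support_le (by simpa using hC.le) _
  have h3 := md_cons_inverse (k := k) hI hN eN (M := fun i : Fin 0 => i.elim0) (fun i => i.elim0) hO hd
  rw [md_cons, md_cons] at h3
  simp only [md_zero_vars] at h3
  rw [CurveCoh17.euler_iso (M2.tensorLUnit N), CurveCoh17.euler_iso (M2.tensorLUnit (ClSub.idealMod y.ker))] at h3
  simp only [h2, Int.cast_one] at h1
  apply Int.cast_injective (α := ℚ)
  rw [Curv2.deg]
  push_cast
  linarith

variable [IsIntegral X]

/-- The class of a fibre over a rational point. -/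
theorem dot_pullback_point (hd : topologicalKrullDim X = ((2 : ℕ) : WithBot ℕ∞))
    (hC : topologicalKrullDim C = 1) (y : Spec (CommRingCat.of k) ⟶ C)
    (hy : y ≫ (C ↘ Spec (CommRingCat.of k)) = 𝟙 _) {N : C.Modules} (hN : PicF.IsInvertible N)
    (eN : CohB1.tensorMod (ClSub.idealMod y.ker) N ≅ Coh.structureModule C)
    (q : X ⟶ C) [Flat q] {Z : Scheme.{u}} [Z.Over (Spec (CommRingCat.of k))] (i : Z ⟶ X)
    (hi : i ≫ (X ↘ Spec (CommRingCat.of k)) = Z ↘ Spec (CommRingCat.of k))
    (hsq : IsPullback i (Z ↘ Spec (CommRingCat.of k)) q y) {W : X.Modules} (hW : PicF.IsInvertible W) :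
    dot k ((Scheme.Modules.pullback q).obj N) W = (Curv2.deg k Z ((Scheme.Modules.pullback i).obj W) 1 : ℚ) := by
  obtain ⟨hyc, hE, -⟩ := exists_point_class hC y hy
  haveI := hyc
  haveI : IsClosedImmersion i := MorphismProperty.of_isPullback hsq.flip inferInstance
  haveI : IsNoetherian C := CohFound.isNoetherian_of_isProper (C ↘ (Spec (CommRingCat.of k)))
  haveI : IsNoetherian X := CohFound.isNoetherian_of_isProper (X ↘ (Spec (CommRingCat.of k)))
  haveI : IsProper (Z ↘ Spec (CommRingCat.of k)) := by rw [← hi]; infer_instance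
  haveI : IsNoetherian Z := CohFound.isNoetherian_of_isProper (Z ↘ (Spec (CommRingCat.of k)))
  have hI := M2.isInvertible_idealMod _ hE
  have hS := M2.shortExact_idealMod y.ker
  let P := Scheme.Modules.pullback q
  haveI : PreservesFiniteLimits P := ModLimH13.preservesFiniteLimits_pullback_of_flat q
  haveI : PreservesFiniteColimits P := KFlat.Sch.preservesFiniteColimits_pullback q
  have hPS := hS.map_of_exact P
  have hI' : PicF.IsInvertible (P.obj (ClSub.idealMod y.ker)) := Twist.isInvertible_pullback q hI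
  have hN' : PicF.IsInvertible (P.obj N) := Twist.isInvertible_pullback q hN
  let eI : CohB1.tensorMod (P.obj (ClSub.idealMod y.ker)) (P.obj N) ≅ Coh.structureModule X :=
    (M2.pullTensorIso q _ _).symm ≪≫ P.mapIso eN ≪≫ Twist.pullbackUnitIso q
  obtain ⟨eq⟩ := nonempty_quotMod_ker y
  haveI : Coh.IsQCoh (Coh.structureModule (Spec (CommRingCat.of k))) := M1.isQCoh_structureModule _
  haveI : IsAffineHom y := inferInstance
  let eB := @asIso _ _ _ _ _ (S12131.result y q (Z ↘ Spec (CommRingCat.of k)) i hsq.flip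
    (Coh.structureModule (Spec (CommRingCat.of k))))
  let eQ : P.obj (ClSub.quotMod y.ker) ≅ (Scheme.Modules.pushforward i).obj (Coh.structureModule Z) :=
    P.mapIso eq ≪≫ eB ≪≫
      (Scheme.Modules.pushforward i).mapIso (Twist.pullbackUnitIso (Z ↘ Spec (CommRingCat.of k)))
  have hQc : Coh.IsCoh (P.obj (ClSub.quotMod y.ker)) :=
    CohFound.isCoh_of_iso eQ.symm (CohFound.isCoh_push_closedImm i (M1.isCoh_structureModule Z))
  have hPO : Coh.IsCoh (P.obj (Coh.structureModule C)) :=
    CohFound.isCoh_of_iso (Twist.pullbackUnitIso q).symm (M1.isCoh_structureModule X)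
  have h := md_shortExact (k := k) (L := fun _ : Fin 1 => W) (fun _ => hW) hPS (isCoh_of_isInvertible hI') hPO hQc
  have h' : dot k (P.obj (ClSub.idealMod y.ker)) W = - cdeg k W ((Scheme.Modules.pushforward i).obj (Coh.structureModule Z)) := by
    rw [dot, md_cons, md_iso _ (M2.tensorLUnit _), cdeg, ← md_iso _ eQ, ← md_iso _ (Twist.pullbackUnitIso q)]
    simp only [ShortComplex.map_X₁, ShortComplex.map_X₂, ShortComplex.map_X₃] at h
    linarith
  rw [dot_inverse hd.le hI' hN' eI hW, h', neg_neg, cdeg_push i hi hW]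

end Groth.Agent.NumPoly18
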