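import Groth.Agent.Lib.NumPoly18.NumDim

/-!
# Numerical triviality of powers in terms of intersection numbers
-/

set_option autoImplicit false
set_option linter.style.haveILetI false
set_option maxHeartbeats 1600000
set_option backward.isDefEq.respectTransparency false

universe u

open CategoryTheory CategoryTheory.Limits AlgebraicGeometry TopologicalSpace

namespace Groth.Agent.NumPoly18

open Groth.Agent Groth.Agent.Snapper

variable {X : Scheme.{u}} (k : Type u) [Field k] [X.Over (Spec (CommRingCat.of k))]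
  [IsProper (X ↘ Spec (CommRingCat.of k))]

theorem intNum_inverse_eq {n : ℕ} (hn : topologicalKrullDim X = (n : WithBot ℕ∞)) {L Linv : X.Modules}
    (hL : PicF.IsInvertible L) (hLinv : ClSub.IsInverseOf Linv L) {V : Scheme.{u}} (i : V ⟶ X)
    [IsClosedImmersion i] {m : ℕ} (hd : topologicalKrullDim V = (m : WithBot ℕ∞)) :
    (FGA.intNum k X n (fun _ : Fin m => Linv) ((Scheme.Modules.pushforward i).obj (Coh.structureModule V)) : ℚ) =
      md k (fun _ : Fin m => L) ((Scheme.Modules.pushforward i).obj (Coh.structureModule V)) := by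
  haveI : IsNoetherian X := CohFound.isNoetherian_of_isProper (X ↘ (Spec (CommRingCat.of k)))
  haveI : IsLocallyNoetherian V := LocallyOfFiniteType.isLocallyNoetherian i
  have hLi : PicF.IsInvertible Linv := M2.isInvertible_of_tensor_iso_unit Linv L hLinv.some
  have hF := CohFound.isCoh_push_closedImm i (M1.isCoh_structureModule V)
  rw [intNum_eq_mixedDiff hn.le (fun _ => hLi) hF]
  show (-1 : ℚ) ^ m * md k (fun _ : Fin m => Linv) _ = _
  rw [md_const_inverse hL hLi (M2.tensorComm _ _ ≪≫ hLinv.some) hF ((dim_support_push i _).trans hd.le),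
    ← mul_assoc, ← mul_pow]
  norm_num

/-- The intersection number of no modules with a point is not zero. -/
theorem exists_intNum_zero_ne {n : ℕ} (hn : topologicalKrullDim X = (n : WithBot ℕ∞)) [Nonempty X] {A L Linv : X.Modules}
    (hA : CohB1.IsAmple A) (hL : PicF.IsInvertible L) (hLinv : ClSub.IsInverseOf Linv L) :
    ∃ (V : Scheme.{u}) (i : V ⟶ X) (_ : IsClosedImmersion i), IsIntegral V ∧
      topologicalKrullDim V = ((0 : ℕ) : WithBot ℕ∞) ∧
      FGA.intNum k X n (fun _ : Fin 0 => Linv) ((Scheme.Modules.pushforward i).obj (Coh.structureModule V)) ≠ 0 := by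
  haveI : IsNoetherian X := CohFound.isNoetherian_of_isProper (X ↘ (Spec (CommRingCat.of k)))
  obtain ⟨x, -, hx⟩ := isClosed_univ.exists_closed_singleton (Set.univ_nonempty (α := X))
  let ι := (ptIdeal x).subschemeι
  letI : (ptIdeal x).subscheme.Over (Spec (CommRingCat.of k)) := ⟨ι ≫ (X ↘ (Spec (CommRingCat.of k)))⟩
  haveI : IsProper ((ptIdeal x).subscheme ↘ (Spec (CommRingCat.of k))) :=
    inferInstanceAs (IsProper (ι ≫ (X ↘ (Spec (CommRingCat.of k)))))
  haveI := (isIntegral_pt x).1
  have hV : topologicalKrullDim (ptIdeal x).subscheme = ((0 : ℕ) : WithBot ℕ∞) := by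
    refine (AmpleFin18.dim_subscheme _ (Scheme.IdealSheafData.coe_support_vanishingIdeal _)).trans ?_
    show topologicalKrullDim (closure ({x} : Set X)) = _
    rw [hx.closure_eq, Nat.cast_zero]
    haveI : Nonempty (IrreducibleCloseds ({x} : Set X)) :=
      ⟨⟨closure {⟨x, rfl⟩}, isIrreducible_singleton.closure, isClosed_closure⟩⟩
    exact le_antisymm (topologicalKrullDim_zero_of_discreteTopology _) Order.krullDim_nonneg
  refine ⟨_, ι, inferInstance, inferInstance, hV, fun h => ?_⟩
  have h1 : md k (fun _ : Fin 0 => L) ((Scheme.Modules.pushforward ι).obj (Coh.structureModule _)) = 0 := by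
    rw [← intNum_inverse_eq k hn hL hLinv ι hV, h, Int.cast_zero]
  rw [md_push ι rfl (fun _ => hL) (M1.isQCoh_structureModule _)] at h1
  have h2 : 0 < md k (fun _ : Fin 0 => (Scheme.Modules.pullback ι).obj A) (Coh.structureModule (ptIdeal x).subscheme) :=
    (asymptotic_rr k hV (Amp.isAmple_pullback_of_isAffineHom ι hA)).1
  rw [md_zero_vars] at h1 h2
  exact h2.ne' h1

theorem nTriv_of_intNum {n : ℕ} (hn : topologicalKrullDim X = (n : WithBot ℕ∞)) {L Linv : X.Modules}
    (hL : PicF.IsInvertible L) (hLinv : ClSub.IsInverseOf Linv L) {p : ℕ}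
    (hm : ∀ (V : Scheme.{u}) (i : V ⟶ X) [IsClosedImmersion i], IsIntegral V →
      topologicalKrullDim V = ((p + 1 : ℕ) : WithBot ℕ∞) →
      FGA.intNum k X n (fun _ : Fin (p + 1) => Linv) ((Scheme.Modules.pushforward i).obj (Coh.structureModule V)) = 0) :
    NTriv k p L := fun V i _ hV hd => by
  rw [← intNum_inverse_eq k hn hL hLinv i hd, hm V i hV hd, Int.cast_zero]

/-- A numerically trivial power of a nef module bounds the growth of sections. -/
theorem not_growth_of_intNum [Nonempty X] {n : ℕ} (hn : topologicalKrullDim X = (n : WithBot ℕ∞))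
    {A L Linv : X.Modules} (hA : CohB1.IsAmple A) (hL : PicF.IsInvertible L) (hLinv : ClSub.IsInverseOf Linv L)
    (hnef : Nef k L) (m : ℕ)
    (hm : ∀ (V : Scheme.{u}) (i : V ⟶ X) [IsClosedImmersion i], IsIntegral V → topologicalKrullDim V = (m : ℕ) →
      FGA.intNum k X n (fun _ : Fin m => Linv) ((Scheme.Modules.pushforward i).obj (Coh.structureModule V)) = 0) :
    ¬ ∃ ν a : ℕ, 0 < ν ∧ 0 < a ∧ ∀ μ : ℕ, 1 ≤ μ →
      μ ^ m ≤ a * Module.finrank k (Coh.HH X (CohB1.tensorPow L (ν * μ)) 0) := by
  rcases m with _ | p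
  · obtain ⟨V, i, hi, hV, hd, hne⟩ := exists_intNum_zero_ne k hn hA hL hLinv
    haveI := hi
    exact absurd (hm V i hV hd) hne
  exact not_growth_of_nTriv hn.le hA hL hnef (nTriv_of_intNum k hn hL hLinv hm)

end Groth.Agent.NumPoly18
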