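import Groth.Agent.Lib.NumPoly18.SecImage
import Groth.Agent.Lib.NumPoly18.NumDimApps

/-!
# Growth of sections of a generated module from intersection numbers
-/

set_option autoImplicit false
set_option linter.style.haveILetI false
set_option maxHeartbeats 1600000
set_option backward.isDefEq.respectTransparency false

universe u

open CategoryTheory CategoryTheory.Limits AlgebraicGeometry TopologicalSpace Opposite

namespace Groth.Agent.NumPoly18

open Groth.Agent Groth.Agent.Snapper
open Groth.Agent.CurveCoh17 (hequiv)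

variable {X : Scheme.{u}} {k : Type u} [Field k] [X.Over (Spec (CommRingCat.of k))]
  [IsProper (X ↘ Spec (CommRingCat.of k))]

theorem pullback_map_eq_zero {Y : Scheme.{u}} [IsIntegral Y] (i : Y ⟶ X) {M : X.Modules} (hM : PicF.IsInvertible M)
    (s : Coh.structureModule X ⟶ M) (h : i (genericPoint Y) ∉ CohB1.genLocus M s) :
    (Scheme.Modules.pullback i).map s = 0 := by
  rw [← cancel_epi (PicLoc.pullbackStructureIso i).symm.hom, comp_zero]
  by_contra hne
  have ht : Amp.gval ((PicLoc.pullbackStructureIso i).symm.hom ≫ (Scheme.Modules.pullback i).map s) ≠ 0 :=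
    fun h0 => hne (M1.unit_hom_ext (h0.trans (by simp)))
  obtain ⟨y, hy⟩ := CubeField.genLocus_nonempty_of_ne_zero (Twist.isInvertible_pullback i hM) ht
  rw [Amp.secHom_gval, Amp.genLocus_pullback i hM s _] at hy
  exact h (((genericPoint_spec Y).specializes (Set.mem_univ y)).mem_open
    (i ⁻¹ᵁ CohB1.genLocus M s).isOpen hy)

theorem mono_pullback_map {Y : Scheme.{u}} [IsIntegral Y] (i : Y ⟶ X) {M : X.Modules} (hM : PicF.IsInvertible M)
    (s : Coh.structureModule X ⟶ M) (h : i (genericPoint Y) ∈ CohB1.genLocus M s) :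
    Mono ((Scheme.Modules.pullback i).map s) := by
  let s' := (PicLoc.pullbackStructureIso i).symm.hom ≫ (Scheme.Modules.pullback i).map s
  have hP : PicF.IsInvertible ((Scheme.Modules.pullback i).obj M) := Twist.isInvertible_pullback i hM
  have hg : genericPoint Y ∈ CohB1.genLocus _ s' := by
    rw [Amp.genLocus_pullback i hM s _]
    exact h
  haveI : Mono s' := by
    rw [← Amp.secHom_gval s']
    refine (M1.mono_iff_stalk _).2 (CurveCoh17.injective_stalk_secHom
      ((M2.isInvertible_iff_isFinLocFreeOfRank_one _).1 hP) fun h0 => ?_)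
    have hg' := (Amp.mem_genLocus_iff hP s').1 hg
    rw [h0, show Amp.gm ((Scheme.Modules.pullback i).obj M) (genericPoint Y) (U := ⊤) trivial 0 = 0
      from map_zero _] at hg'
    exact Amp.not_gen_zero hP _ hg'
  rw [← Iso.inv_hom_id_assoc (PicLoc.pullbackStructureIso i).symm ((Scheme.Modules.pullback i).map s)]
  exact mono_comp (PicLoc.pullbackStructureIso i).symm.inv s'

theorem eq_zero_stalk_cokernel_of_mem_genLocus {M : X.Modules} (s : Coh.structureModule X ⟶ M) {x : X}
    (h : x ∈ CohB1.genLocus M s) (a : (cokernel s).presheaf.stalk x) : a = 0 := by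
  obtain ⟨U, hxU, hU⟩ := Twist.exists_of_mem_genLocus h
  exact CurveCoh17.eq_zero_stalk_cokernel s x
    (CurveCoh17.bijective_stalkMap_of_app s U ((Twist.isIso_restrict_map_iff s U).1 hU) hxU).2 a

/-- Restricted sections grow like the binomial coefficients. -/
theorem choose_le_imDim {M : X.Modules} (hM : PicF.IsInvertible M) (hgg : Curv2.IsGloballyGenerated M) :
    ∀ (r : ℕ) (V : Scheme.{u}) [V.Over (Spec (CommRingCat.of k))] (i : V ⟶ X) [IsClosedImmersion i] [IsIntegral V],
      i ≫ (X ↘ Spec (CommRingCat.of k)) = V ↘ Spec (CommRingCat.of k) →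
      topologicalKrullDim V = (r : WithBot ℕ∞) →
      md k (fun _ : Fin r => (Scheme.Modules.pullback i).obj M) (Coh.structureModule V) ≠ 0 →
      ∀ t, t.choose r ≤ imDim k i M t := by
  haveI : IsNoetherian X := CohFound.isNoetherian_of_isProper (X ↘ (Spec (CommRingCat.of k)))
  intro r
  induction r with
  | zero =>
    intro V _ i _ _ hi hd hne t
    rw [Nat.choose_zero_right]
    obtain ⟨s, hs⟩ := RA.exists_gen_of_isGloballyGenerated hM hgg (i (genericPoint V))
    haveI := mono_pullback_map i hM s hs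
    induction t with
    | zero => exact one_le_imDim_zero k i
    | succ t ih =>
      refine le_trans (ih.trans ?_) (le_refl _)
      haveI : IsLocallyNoetherian V := LocallyOfFiniteType.isLocallyNoetherian i
      haveI := CohFound.finite_HH_of_isProper (A := k) _
        (CurveCoh17.isCoh_tensor (CohFound.isCoh_push_closedImm i (M1.isCoh_structureModule V))
          (isCoh_of_isInvertible (M2.isInvertible_tensorPow hM (t + 1)))) 0
      haveI := mono_powMul_tensor i hM s t
      have h := finrank_range_step k (C := Coh.HH X (Coh.structureModule X) 0)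
        (CurveCoh17.hmap k (M2.tensorMap (toPush i) (𝟙 (CohB1.tensorPow M t))) 0)
        (CurveCoh17.hmap k (M2.tensorMap (toPush i) (𝟙 (CohB1.tensorPow M (t + 1)))) 0)
        (CurveCoh17.hmap k (M2.tensorMap (𝟙 ((Scheme.Modules.pushforward i).obj (Coh.structureModule V)))
          (powMul s t)) 0) 0 (hmap_injective_of_mono k _)
        (fun a => ⟨CurveCoh17.hmap k (M2.tensorMap (𝟙 (Coh.structureModule X)) (powMul s t)) 0 a, by
          rw [← CurveCoh17.hmap_comp, ← CurveCoh17.hmap_comp, ← M2.tensorMap_comp, ← M2.tensorMap_comp]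
          simp only [Category.id_comp, Category.comp_id]⟩) (fun _ => rfl)
      exact le_trans (Nat.le_add_right _ _) h
  | succ r IH =>
    intro V _ i _ _ hi hd hne
    haveI : IsProper (V ↘ Spec (CommRingCat.of k)) := by rw [← hi]; infer_instance
    haveI : IsNoetherian V := CohFound.isNoetherian_of_isProper (V ↘ (Spec (CommRingCat.of k)))
    let M' := (Scheme.Modules.pullback i).obj M
    have hM' : PicF.IsInvertible M' := Twist.isInvertible_pullback i hM
    obtain ⟨s, hs⟩ := RA.exists_gen_of_isGloballyGenerated hM hgg (i (genericPoint V))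
    haveI := mono_pullback_map i hM s hs
    let s' := (PicLoc.pullbackStructureIso i).symm.hom ≫ (Scheme.Modules.pullback i).map s
    haveI : Mono s' := mono_comp _ _
    have hQ : Coh.IsCoh (cokernel s') :=
      M1.isCoh_cokernel (M1.isCoh_structureModule V).1 (isCoh_of_isInvertible hM') s'
    have hη : genericPoint V ∉ CohB1.support (cokernel s') := (M1.notMem_support_iff _ _).2
      (eq_zero_stalk_cokernel_of_mem_genLocus (X := V) s' (by
        rw [Amp.genLocus_pullback i hM s _]
        exact hs))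
    have hQd : topologicalKrullDim (CohB1.support (cokernel s')) ≤ (r : WithBot ℕ∞) :=
      dim_le_of_notMem (M1.isClosed_support hQ.2) ((genericPoint_closure V).symm ▸ Set.subset_univ _) hη
        ((Topology.IsInducing.subtypeVal.topologicalKrullDim_le).trans hd.le)
    rw [const_eq_cons M' (r := r), md_cons_of_section hM' s' (fun _ => hM')] at hne
    obtain ⟨T, hT⟩ := exists_finset_top (M1.isClosed_support hQ.2) hQd
    rw [md_eq_sum (fun _ => hM') (M1.isClosed_support hQ.2) hQd T hT hQ subset_rfl] at hne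
    obtain ⟨ξ, hξT, hξne⟩ := Finset.exists_ne_zero_of_sum_ne_zero hne
    obtain ⟨hξsupp, hξd⟩ := (hT ξ).1 hξT
    let j := (ptIdeal ξ).subschemeι
    letI : (ptIdeal ξ).subscheme.Over (Spec (CommRingCat.of k)) := ⟨j ≫ (V ↘ (Spec (CommRingCat.of k)))⟩
    haveI : IsProper ((ptIdeal ξ).subscheme ↘ (Spec (CommRingCat.of k))) :=
      inferInstanceAs (IsProper (j ≫ (V ↘ (Spec (CommRingCat.of k)))))
    haveI : IsIntegral (ptIdeal ξ).subscheme := (isIntegral_pt ξ).1
    obtain ⟨-, z, hz, hzξ⟩ := isIntegral_pt ξ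
    have hjξ : j (genericPoint (ptIdeal ξ).subscheme) = ξ :=
      (congrArg j ((genericPoint_spec (ptIdeal ξ).subscheme).eq hz)).trans hzξ
    have hW : topologicalKrullDim (ptIdeal ξ).subscheme = (r : WithBot ℕ∞) :=
      (AmpleFin18.dim_subscheme _ (Scheme.IdealSheafData.coe_support_vanishingIdeal _)).trans hξd
    have hne' : md k (fun _ : Fin r => (Scheme.Modules.pullback (j ≫ i)).obj M)
        (Coh.structureModule (ptIdeal ξ).subscheme) ≠ 0 := by
      rw [← md_congr (L := fun _ : Fin r => (Scheme.Modules.pullback j).obj M')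
        (fun _ => ⟨(Scheme.Modules.pullbackComp j i).app M⟩),
        ← md_push j rfl (fun _ => hM') (M1.isQCoh_structureModule _)]
      exact (mul_ne_zero_iff.1 hξne).2
    have ih := IH (ptIdeal ξ).subscheme (j ≫ i) (by rw [Category.assoc, hi]; rfl) hW hne'
    have hzero : (Scheme.Modules.pullback (j ≫ i)).map s = 0 := by
      refine pullback_map_eq_zero (j ≫ i) hM s fun hmem => (M1.notMem_support_iff _ _).2
        (eq_zero_stalk_cokernel_of_mem_genLocus (X := V) s' ?_) hξsupp
      rw [Amp.genLocus_pullback i hM s _]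
      show i ξ ∈ CohB1.genLocus M s
      rw [← hjξ]
      exact hmem
    intro t
    induction t with
    | zero => simp
    | succ t iht =>
      rw [Nat.choose_succ_succ']
      have h1 := imDim_succ_ge k i j hM s hzero t
      have h2 := (Nat.choose_le_choose r (Nat.le_succ t)).trans (ih (t + 1))
      omega

/-- A generated module with nonzero self intersection on an `m`-dimensional subvariety has growth `m`. -/
theorem growth_of_intNum {n : ℕ} (hn : topologicalKrullDim X = (n : WithBot ℕ∞)) {L Linv : X.Modules}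
    (hL : PicF.IsInvertible L) (hLinv : ClSub.IsInverseOf Linv L)
    {μ₀ : ℕ} (hμ₀ : 0 < μ₀) (hgg : Curv2.IsGloballyGenerated (CohB1.tensorPow L μ₀)) {m : ℕ} {V : Scheme.{u}}
    (i : V ⟶ X) [IsClosedImmersion i] [IsIntegral V] (hd : topologicalKrullDim V = (m : WithBot ℕ∞))
    (hne : FGA.intNum k X n (fun _ : Fin m => Linv) ((Scheme.Modules.pushforward i).obj (Coh.structureModule V)) ≠ 0) :
    ∃ ν a : ℕ, 0 < ν ∧ 0 < a ∧ ∀ μ : ℕ, 1 ≤ μ →
      μ ^ m ≤ a * Module.finrank k (Coh.HH X (CohB1.tensorPow L (ν * μ)) 0) := by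
  haveI : IsNoetherian X := CohFound.isNoetherian_of_isProper (X ↘ (Spec (CommRingCat.of k)))
  letI : V.Over (Spec (CommRingCat.of k)) := ⟨i ≫ (X ↘ (Spec (CommRingCat.of k)))⟩
  haveI : IsProper (V ↘ (Spec (CommRingCat.of k))) :=
    inferInstanceAs (IsProper (i ≫ (X ↘ (Spec (CommRingCat.of k)))))
  haveI : IsNoetherian V := CohFound.isNoetherian_of_isProper (V ↘ (Spec (CommRingCat.of k)))
  have hne1 : md k (fun _ : Fin m => L) ((Scheme.Modules.pushforward i).obj (Coh.structureModule V)) ≠ 0 := by
    rw [← intNum_inverse_eq k hn hL hLinv i hd]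
    exact_mod_cast hne
  rw [md_push i rfl (fun _ => hL) (M1.isQCoh_structureModule _)] at hne1
  have hM := M2.isInvertible_tensorPow hL μ₀
  have hne2 : md k (fun _ : Fin m => (Scheme.Modules.pullback i).obj (CohB1.tensorPow L μ₀))
      (Coh.structureModule V) ≠ 0 := by
    rw [md_congr (L' := fun _ : Fin m => CohB1.tensorPow ((Scheme.Modules.pullback i).obj L) μ₀)
      (fun _ => ⟨M2.pullTensorPowIso i L μ₀⟩),
      md_const_pow (Twist.isInvertible_pullback i hL) (M1.isCoh_structureModule V) (dim_support_le hd.le _)]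
    exact mul_ne_zero (pow_ne_zero _ (Nat.cast_ne_zero.2 hμ₀.ne')) hne1
  refine ⟨μ₀ * (m + 1), m.factorial, Nat.mul_pos hμ₀ m.succ_pos, m.factorial_pos, fun μ hμ => ?_⟩
  have h1 := (choose_le_imDim hM hgg m V i rfl hd hne2 ((m + 1) * μ)).trans (imDim_le k hM i _)
  rw [(hequiv k (M2.tensorPowPow L μ₀ ((m + 1) * μ)) 0).finrank_eq, ← mul_assoc] at h1
  refine le_trans ?_ (Nat.mul_le_mul_left _ h1)
  rw [← Nat.descFactorial_eq_factorial_mul_choose]
  refine le_trans (Nat.pow_le_pow_left ?_ m) (Nat.pow_sub_le_descFactorial _ _)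
  have : m ≤ m * μ := Nat.le_mul_of_pos_right m hμ
  rw [Nat.succ_mul]
  omega

/-- Globally generated powers make a module nef. -/
theorem nef_of_semiample {L : X.Modules} (hL : PicF.IsInvertible L) {μ₀ : ℕ} (hμ₀ : 0 < μ₀)
    (hgg : Curv2.IsGloballyGenerated (CohB1.tensorPow L μ₀)) {A : X.Modules} (hA : CohB1.IsAmple A) : Nef k L := by
  haveI : IsNoetherian X := CohFound.isNoetherian_of_isProper (X ↘ (Spec (CommRingCat.of k)))
  intro ξ hξ
  let ι := (ptIdeal ξ).subschemeι
  letI : (ptIdeal ξ).subscheme.Over (Spec (CommRingCat.of k)) := ⟨ι ≫ (X ↘ (Spec (CommRingCat.of k)))⟩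
  haveI : IsProper ((ptIdeal ξ).subscheme ↘ (Spec (CommRingCat.of k))) :=
    inferInstanceAs (IsProper (ι ≫ (X ↘ (Spec (CommRingCat.of k)))))
  haveI : IsIntegral (ptIdeal ξ).subscheme := (isIntegral_pt ξ).1
  have hY : topologicalKrullDim (ptIdeal ξ).subscheme = ((0 + 1 : ℕ) : WithBot ℕ∞) :=
    ((AmpleFin18.dim_subscheme _ (Scheme.IdealSheafData.coe_support_vanishingIdeal _)).trans hξ).trans (by simp)
  have hM := M2.isInvertible_tensorPow hL μ₀
  have hP : PicF.IsInvertible ((Scheme.Modules.pullback ι).obj (CohB1.tensorPow L μ₀)) :=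
    Twist.isInvertible_pullback ι hM
  obtain ⟨s, hs⟩ := RA.exists_gen_of_isGloballyGenerated hM hgg (ι (genericPoint (ptIdeal ξ).subscheme))
  haveI := mono_pullback_map ι hM s hs
  have hsec : HasMonoSec ((Scheme.Modules.pullback ι).obj (CohB1.tensorPow L μ₀)) :=
    ⟨(PicLoc.pullbackStructureIso ι).symm.hom ≫ (Scheme.Modules.pullback ι).map s, mono_comp _ _⟩
  have h := md_cons_nonneg_of_hasMonoSec (k := k) (Amp.isAmple_pullback_of_isAffineHom ι hA) hP hsec hY.le
    (M := fun i : Fin 0 => i.elim0) (fun i => i.elim0) fun i => i.elim0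
  rw [md_congr (L' := fun _ : Fin 1 => CohB1.tensorPow ((Scheme.Modules.pullback ι).obj L) μ₀)
    (Fin.cases ⟨by simpa using M2.pullTensorPowIso ι L μ₀⟩ fun j => j.elim0),
    md_const_pow (Twist.isInvertible_pullback ι hL) (M1.isCoh_structureModule _) (dim_support_le hY.le _)] at h
  show 0 ≤ md k (fun _ : Fin 1 => L) ((Scheme.Modules.pushforward ι).obj (Coh.structureModule (ptIdeal ξ).subscheme))
  rw [md_push ι rfl (fun _ => hL) (M1.isQCoh_structureModule _)]
  exact nonneg_of_mul_nonneg_right h (by positivity)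

end Groth.Agent.NumPoly18
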