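import Groth.Agent.Lib.NumPoly18.PushDeg
import Groth.Agent.Lib.NumPoly18.SurfProj
import Groth.Agent.Lib.ProjSpace.BaseChange
import Groth.Agent.S0025

/-!
# Projective birational models
-/

set_option autoImplicit false
set_option linter.style.haveILetI false
set_option maxHeartbeats 800000
set_option backward.isDefEq.respectTransparency false

universe u

open CategoryTheory CategoryTheory.Limits AlgebraicGeometry TopologicalSpace Opposite

namespace Groth.Agent.NumPoly18

open Groth.Agent Groth.Agent.Snapper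

/-- An integral proper scheme has an integral projective model of degree one. -/
theorem exists_projective_model (k : Type u) [Field k] (Z : Scheme.{u}) [Z.Over (Spec (CommRingCat.of k))]
    [IsProper (Z ↘ Spec (CommRingCat.of k))] [IsIntegral Z] :
    ∃ (Z' : Scheme.{u}) (str : Z' ⟶ Spec (CommRingCat.of k)),
      letI : Z'.Over (Spec (CommRingCat.of k)) := ⟨str⟩
      IsProper (Z' ↘ Spec (CommRingCat.of k)) ∧ IsIntegral Z' ∧ (∃ A : Z'.Modules, CohB1.IsAmple A) ∧
        ∃ (π : Z' ⟶ Z) (_ : IsIntegral Z'), π ≫ (Z ↘ Spec (CommRingCat.of k)) = str ∧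
          π (genericPoint Z') = genericPoint Z ∧ π.residueDegree (genericPoint Z') = 1 := by
  haveI : IsNoetherian (Spec (CommRingCat.of k)) := inferInstance
  obtain ⟨n, X', π, j, hj, hjπ, hπ, hsurj, U, hU, hiso⟩ := S0025.result (Z ↘ Spec (CommRingCat.of k))
  haveI := hj; haveI := hπ; haveI := hsurj; haveI := hiso
  let j₁ : X' ⟶ CohB1.ProjSpace n k := j ≫ (ProjSpace.overSpecIso n k).inv
  have hj₁ : j₁ ≫ CohB1.ProjSpace.toSpec n k = π ≫ (Z ↘ Spec (CommRingCat.of k)) := by
    rw [← hjπ, ← ProjSpace.overSpecIso_hom_toBase n k]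
    simp [j₁]
  haveI : IsProper (CohB1.ProjSpace.toSpec n k) := ProjSpace.isProper_toSpec n k
  haveI : IsProper (j₁ ≫ CohB1.ProjSpace.toSpec n k) := by rw [hj₁]; infer_instance
  haveI : IsProper j₁ := IsProper.of_comp j₁ (CohB1.ProjSpace.toSpec n k)
  haveI : IsClosedImmersion j₁ := IsClosedImmersion.of_isPreimmersion j₁ j₁.isClosedMap.isClosed_range
  have hgU : genericPoint Z ∈ U := by
    obtain ⟨z, hz⟩ := hU.nonempty
    exact (genericPoint_specializes z).mem_open U.isOpen hz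
  obtain ⟨ξ, hξ⟩ := hsurj.1 (genericPoint Z)
  obtain ⟨hI, z, hz, hzξ⟩ := isIntegral_pt ξ
  haveI := hI
  obtain rfl := (genericPoint_spec _).eq hz
  let ι := (ptIdeal ξ).subschemeι
  refine ⟨(ptIdeal ξ).subscheme, (ι ≫ π) ≫ (Z ↘ Spec (CommRingCat.of k)), ?_⟩
  letI : (ptIdeal ξ).subscheme.Over (Spec (CommRingCat.of k)) := ⟨(ι ≫ π) ≫ (Z ↘ Spec (CommRingCat.of k))⟩
  refine ⟨inferInstanceAs (IsProper ((ι ≫ π) ≫ (Z ↘ Spec (CommRingCat.of k)))), hI,
    ⟨_, isAmple_pullback_twistProjSpace (ι ≫ j₁)⟩, ι ≫ π, hI, rfl, ?_, ?_⟩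
  · rw [Scheme.Hom.comp_apply, show ι (genericPoint (ptIdeal ξ).subscheme) = ξ from hzξ]
    exact hξ
  · rw [Cyc26.residueDegree_comp, Cyc26.residueDegree_of_bijective ι _ (Cyc26.residueFieldMap_bijective ι _), mul_one,
      show ι (genericPoint (ptIdeal ξ).subscheme) = ξ from hzξ]
    let x : (π ⁻¹ᵁ U).toScheme := ⟨ξ, show π ξ ∈ U by rw [hξ]; exact hgU⟩
    have h := congrArg (fun g : (π ⁻¹ᵁ U).toScheme ⟶ Z => g.residueDegree x) (morphismRestrict_ι π U)
    simp only [Cyc26.residueDegree_comp, Cyc26.residueDegree_of_bijective (π ∣_ U) _ (Cyc26.residueFieldMap_bijective _ _),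
      Cyc26.residueDegree_of_bijective U.ι _ (Cyc26.residueFieldMap_bijective _ _),
      Cyc26.residueDegree_of_bijective (π ⁻¹ᵁ U).ι _ (Cyc26.residueFieldMap_bijective _ _), mul_one] at h
    exact h.symm

end Groth.Agent.NumPoly18
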