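import Groth.Agent.Lib.NumPoly18.Kleiman

/-!
# Forms of nefness
-/

set_option autoImplicit false
set_option linter.style.haveILetI false
set_option backward.isDefEq.respectTransparency false

universe u

open CategoryTheory CategoryTheory.Limits AlgebraicGeometry TopologicalSpace Opposite

namespace Groth.Agent.NumPoly18

open Groth.Agent Groth.Agent.Snapper

variable {X : Scheme.{u}} {k : Type u} [Field k] [X.Over (Spec (CommRingCat.of k))]
  [IsProper (X ↘ Spec (CommRingCat.of k))]

/-- Nefness from the degrees on integral closed curves. -/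
theorem nef_of_curveDeg {L : X.Modules} (hL : PicF.IsInvertible L)
    (h : ∀ (Y : Scheme.{u}) (i : Y ⟶ X) [IsClosedImmersion i], IsIntegral Y → topologicalKrullDim Y = 1 →
      0 ≤ Pic13.curveDeg k (i ≫ (X ↘ Spec (CommRingCat.of k))) ((Scheme.Modules.pullback i).obj L)) :
    Nef k L := fun ξ hξ => by
  have hY : topologicalKrullDim (ptIdeal ξ).subscheme = 1 :=
    (AmpleFin18.dim_subscheme _ (Scheme.IdealSheafData.coe_support_vanishingIdeal _)).trans hξ
  have e := (Int.cast_nonneg (R := ℚ) (h _ (ptIdeal ξ).subschemeι (isIntegral_pt ξ).1 hY))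
  rw [curveDeg_eq_cdeg _ hY.le hL] at e
  exact e

/-- Nef modules have nonnegative degree on closed subschemes of dimension at most one. -/
theorem curveDeg_nonneg_of_nef {L : X.Modules} (hL : PicF.IsInvertible L) (h : Nef k L) {Y : Scheme.{u}}
    (i : Y ⟶ X) [IsClosedImmersion i] (hY : topologicalKrullDim Y ≤ 1) :
    0 ≤ Pic13.curveDeg k (i ≫ (X ↘ Spec (CommRingCat.of k))) ((Scheme.Modules.pullback i).obj L) := by
  haveI : IsNoetherian X := CohFound.isNoetherian_of_isProper (X ↘ (Spec (CommRingCat.of k)))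
  haveI : IsLocallyNoetherian Y := LocallyOfFiniteType.isLocallyNoetherian i
  have h0 := cdeg_nonneg_of_nef hL h (CohFound.isCoh_push_closedImm i (M1.isCoh_structureModule Y))
    ((dim_support_push i _).trans hY)
  rw [← curveDeg_eq_cdeg i hY hL] at h0
  exact Int.cast_nonneg_iff.1 h0

/-- If all `L ^ ν ⊗ A` are nef then so is `L`. -/
theorem nef_of_forall_tensorPow_tensor {A L : X.Modules} (hA : PicF.IsInvertible A) (hL : PicF.IsInvertible L)
    (h : ∀ ν : ℕ, 0 < ν → Nef k (CohB1.tensorMod (CohB1.tensorPow L ν) A)) : Nef k L := fun ξ hξ => by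
  haveI : IsNoetherian X := CohFound.isNoetherian_of_isProper (X ↘ (Spec (CommRingCat.of k)))
  have hd : topologicalKrullDim (CohB1.support (ptMod ξ)) ≤ ((0 + 1 : ℕ) : WithBot ℕ∞) := by
    simpa using dim_le_of_subset (support_ptMod ξ) hξ.le
  have hc : ∀ B : X.Modules, (Fin.cons B (fun i : Fin 0 => i.elim0) : Fin (0 + 1) → X.Modules) = fun _ => B :=
    fun B => funext fun i => Fin.cases (by simp) (fun j => j.elim0) i
  by_contra hneg
  push Not at hneg
  obtain ⟨ν, hν⟩ := exists_nat_gt (cdeg k A (ptMod ξ) / (- cdeg k L (ptMod ξ)))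
  rw [div_lt_iff₀ (neg_pos.2 hneg)] at hν
  have h1 := md_cons_tensor (k := k) (M2.isInvertible_tensorPow hL (ν + 1)) hA (M := fun i : Fin 0 => i.elim0)
    (fun i => i.elim0) (isCoh_ptMod ξ) hd
  rw [md_cons_pow (k := k) hL (fun i : Fin 0 => i.elim0) (isCoh_ptMod ξ) hd (ν + 1)] at h1
  simp only [hc] at h1
  have h2 := h (ν + 1) ν.succ_pos ξ hξ
  simp only [cdeg] at h2 hν hneg
  push_cast at h1
  nlinarith

end Groth.Agent.NumPoly18
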