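import Groth.Agent.Lib.NumPoly18.Chow
import Groth.Agent.Lib.NumPoly18.SurfForm
import Groth.Agent.Lib.NumPoly18.SurfCartier
import Groth.Agent.Lib.BlowUpExist.Proper
import Groth.Agent.Lib.BlowUp26.Basic
import Groth.Agent.Lib.BlowUp3.TwistAmple

/-!
# The Hodge index theorem on proper integral surfaces
-/

set_option autoImplicit false
set_option linter.style.haveILetI false
set_option maxHeartbeats 800000
set_option backward.isDefEq.respectTransparency false

universe u

open CategoryTheory CategoryTheory.Limits AlgebraicGeometry TopologicalSpace Opposite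

namespace Groth.Agent.NumPoly18

open Groth.Agent Groth.Agent.Snapper

/-- The length at a top point of the support is positive. -/
theorem lenAt_pos {X : Scheme.{u}} [IsNoetherian X] {F : X.Modules} (hF : Coh.IsCoh F) {d : ℕ}
    (hd : topologicalKrullDim (CohB1.support F) ≤ (d : WithBot ℕ∞)) {ξ : X} (hξ : ξ ∈ CohB1.support F)
    (hξd : topologicalKrullDim (closure ({ξ} : Set X)) = (d : WithBot ℕ∞)) : 0 < lenAt F ξ := by
  have hf := Cyc26.length_stalk_ne_top hF (ξ := ξ) fun y hy h =>
    eq_of_specializes_of_dim (M1.isClosed_support hF.2) hd (not_subsingleton_iff_nontrivial.2 hy) hξd h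
  haveI : Nontrivial (F.presheaf.stalk ξ) := not_subsingleton_iff_nontrivial.1 hξ
  have h0 : Module.length (X.presheaf.stalk ξ) (F.presheaf.stalk ξ) ≠ 0 := Module.length_pos.ne'
  simp only [lenAt, Nat.cast_pos]
  exact Nat.pos_of_ne_zero fun h => (ENat.toNat_eq_zero.1 h).elim h0 hf

variable {X : Scheme.{u}} {k : Type u} [Field k] [X.Over (Spec (CommRingCat.of k))]
  [IsProper (X ↘ Spec (CommRingCat.of k))] [IsIntegral X]

/-- The pairing is invariant under morphisms of degree one. -/
theorem dot_pullback_one {W : Scheme.{u}} [W.Over (Spec (CommRingCat.of k))]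
    [IsProper (W ↘ Spec (CommRingCat.of k))] [IsIntegral W] (f : W ⟶ X)
    (hf : f ≫ (X ↘ Spec (CommRingCat.of k)) = W ↘ Spec (CommRingCat.of k))
    (hgen : f (genericPoint W) = genericPoint X) (h1 : f.residueDegree (genericPoint W) = 1)
    (hd : topologicalKrullDim W = ((2 : ℕ) : WithBot ℕ∞)) {A B : X.Modules} (hA : PicF.IsInvertible A)
    (hB : PicF.IsInvertible B) :
    dot k ((Scheme.Modules.pullback f).obj A) ((Scheme.Modules.pullback f).obj B) = dot k A B := by
  have h := md_pullback_dominant (k := k) f hf hgen hd (isInvertible_cons hA (fun _ : Fin 1 => hB))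
  rw [h1, Nat.cast_one, one_mul] at h
  rw [dot, dot, ← h]
  exact congrArg (fun M => md k M _) (funext fun i => Fin.cases rfl (fun _ => rfl) i)

/-- The existence of a projective model on which a given curve becomes a divisor. -/
theorem exists_divisor_model (hd : topologicalKrullDim X = ((2 : ℕ) : WithBot ℕ∞)) {η : X}
    (hη : topologicalKrullDim (closure ({η} : Set X)) = 1) :
    ∃ (W : Scheme.{u}) (str : W ⟶ Spec (CommRingCat.of k)),
      letI : W.Over (Spec (CommRingCat.of k)) := ⟨str⟩
      IsProper (W ↘ Spec (CommRingCat.of k)) ∧ IsIntegral W ∧ topologicalKrullDim W = ((2 : ℕ) : WithBot ℕ∞) ∧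
        (∃ A : W.Modules, CohB1.IsAmple A) ∧
        ∃ (f : W ⟶ X) (_ : IsIntegral W), f ≫ (X ↘ Spec (CommRingCat.of k)) = str ∧ Surjective f ∧
          f (genericPoint W) = genericPoint X ∧ f.residueDegree (genericPoint W) = 1 ∧
          BlowUp.IsEffCartierIdeal ((ptIdeal η).comap f) := by
  haveI : IsNoetherian X := CohFound.isNoetherian_of_isProper (X ↘ (Spec (CommRingCat.of k)))
  let I := ptIdeal η
  let b := BlowUpExist.ChartIdx.blowUpHom I
  have hb : BlowUp.IsBlowUp b I := BlowUpExist.ChartIdx.isBlowUp_blowUpHom (C := I)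
  have hI : BlowUp.IsFiniteTypeIdeal I := fun U => by
    haveI : IsNoetherianRing Γ(X, U.1) := IsLocallyNoetherian.component_noetherian U
    exact IsNoetherian.noetherian _
  haveI : IsProper b := BlowUpExist.isProper hI hb
  haveI : IsReduced (colimit (BlowUpExist.ChartIdx.diagram I)) := BlowUp26.isReduced_of_isBlowUp hb
  let B := colimit (BlowUpExist.ChartIdx.diagram I)
  have hgnot : genericPoint X ∉ I.support := fun h => by
    have h' : genericPoint X ∈ closure ({η} : Set X) :=
      (Scheme.IdealSheafData.coe_support_vanishingIdeal _).le h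
    have h2 : (Set.univ : Set X) ⊆ closure ({η} : Set X) := by
      rw [← genericPoint_closure X]
      exact isClosed_closure.closure_subset_iff.2 (Set.singleton_subset_iff.2 h')
    have h3 := dim_le_of_subset h2 hη.le
    rw [(Homeomorph.Set.univ X).isHomeomorph.topologicalKrullDim_eq, hd] at h3
    exact absurd (Nat.cast_le.1 (show ((2 : ℕ) : WithBot ℕ∞) ≤ ((1 : ℕ) : WithBot ℕ∞) by simpa using h3)) (by omega)
  have hbij := BlowUp26.bijOn_maximalPoints hb
  haveI : IrreducibleSpace B := by
    obtain ⟨γ, hγ, -⟩ := hbij.surjOn ⟨fun z hz => (hz.antisymm (genericPoint_specializes z)).eq, hgnot⟩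
    haveI : IsNoetherian B := by
      haveI : IsLocallyNoetherian B := LocallyOfFiniteType.isLocallyNoetherian b
      haveI : CompactSpace B := QuasiCompact.compactSpace_of_compactSpace b
      exact ⟨⟩
    have hu : ∀ y : B, γ ⤳ y := fun y => by
      obtain ⟨z, hz, hzm⟩ := CurveCoh17.exists_maximal_generization y
      have hzγ : z = γ := hbij.injOn hzm hγ (by
        have h1 := (hbij.mapsTo hzm).1 _ (genericPoint_specializes (b z))
        have h2 := (hbij.mapsTo hγ).1 _ (genericPoint_specializes (b γ))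
        exact h1.symm.trans h2)
      exact hzγ ▸ hz
    have h : closure ({γ} : Set B) = Set.univ :=
      Set.eq_univ_of_forall fun y => specializes_iff_mem_closure.1 (hu y)
    haveI : PreirreducibleSpace B := ⟨h ▸ isIrreducible_singleton.closure.2⟩
    exact ⟨⟨γ⟩⟩
  haveI : IsIntegral B := isIntegral_of_irreducibleSpace_of_isReduced B
  haveI hbiso : IsIso (b ∣_ I.support.compl) := EffCartier.isIso_blowUp_restrict hb
  obtain ⟨hbgen, hbst⟩ := BlowUp3.generic_of_birational b I.support.compl ⟨genericPoint X, hgnot⟩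
  letI : B.Over (Spec (CommRingCat.of k)) := ⟨b ≫ (X ↘ (Spec (CommRingCat.of k)))⟩
  haveI : IsProper (B ↘ (Spec (CommRingCat.of k))) :=
    inferInstanceAs (IsProper (b ≫ (X ↘ (Spec (CommRingCat.of k)))))
  obtain ⟨W, str, hW, hWi, hA, π, _, hπ, hπgen, hπdeg⟩ := exists_projective_model k B
  letI : W.Over (Spec (CommRingCat.of k)) := ⟨str⟩
  haveI := hW
  haveI := hWi
  haveI : IsProper (π ≫ (B ↘ Spec (CommRingCat.of k))) := by rw [hπ]; exact hW
  haveI : IsProper π := IsProper.of_comp π (B ↘ Spec (CommRingCat.of k))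
  have hbdeg : b.residueDegree (genericPoint B) = 1 := by
    let x : (b ⁻¹ᵁ (EffCartier.cmpl I)).toScheme := ⟨genericPoint B, show b (genericPoint B) ∈ (EffCartier.cmpl I) by
      rw [hbgen]; exact hgnot⟩
    have h := congrArg (fun g : (b ⁻¹ᵁ (EffCartier.cmpl I)).toScheme ⟶ X => g.residueDegree x)
      (morphismRestrict_ι b (EffCartier.cmpl I))
    simp only [Cyc26.residueDegree_comp,
      Cyc26.residueDegree_of_bijective (b ∣_ (EffCartier.cmpl I)) _ (Cyc26.residueFieldMap_bijective _ _),
      Cyc26.residueDegree_of_bijective (EffCartier.cmpl I).ι _ (Cyc26.residueFieldMap_bijective _ _),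
      Cyc26.residueDegree_of_bijective (b ⁻¹ᵁ (EffCartier.cmpl I)).ι _ (Cyc26.residueFieldMap_bijective _ _), mul_one] at h
    exact h.symm
  have hgen : (π ≫ b) (genericPoint W) = genericPoint X := by rw [Scheme.Hom.comp_apply, hπgen, hbgen]
  have hdeg : (π ≫ b).residueDegree (genericPoint W) = 1 := by
    rw [Cyc26.residueDegree_comp, hπgen, hbdeg, hπdeg]
  have hstr : (π ≫ b) ≫ (X ↘ Spec (CommRingCat.of k)) = str := by rw [Category.assoc]; exact hπ
  refine ⟨W, str, hW, hWi, (dim_eq_of_residueDegree_pos (π ≫ b) hstr hgen (by rw [hdeg]; omega)).trans hd, hA,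
    π ≫ b, hWi, hstr, ⟨fun x => ?_⟩, hgen, hdeg, ?_⟩
  · have hc : IsClosed (Set.range (π ≫ b)) := (π ≫ b).isClosedMap.isClosed_range
    exact ((genericPoint_spec X).mem_closed_set_iff hc).1 ⟨genericPoint W, hgen⟩ (Set.mem_univ x)
  · rw [Scheme.IdealSheafData.comap_comp]
    have hne : genericPoint W ∈ π ⁻¹ᵁ EffCartier.cmpl (I.comap b) := by
      show π (genericPoint W) ∈ EffCartier.cmpl (I.comap b)
      rw [hπgen, ← BlowUp26.preimage_cmpl_eq]
      show b (genericPoint B) ∈ EffCartier.cmpl I
      rw [hbgen]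
      exact hgnot
    haveI : IsDominant (π ⁻¹ᵁ EffCartier.cmpl (I.comap b)).ι := ⟨by
      rw [DenseRange, Scheme.Opens.range_ι]
      exact dense_iff_closure_eq.2 (Set.eq_univ_of_forall fun y =>
        closure_mono (Set.singleton_subset_iff.2 hne) (specializes_iff_mem_closure.1 (genericPoint_specializes y)))⟩
    haveI := IsSchemeTheoreticallyDominant.of_isDominant (π ⁻¹ᵁ EffCartier.cmpl (I.comap b)).ι
    exact EffCartier.comap_of_dominant hb.1 π

/-- A projective model with a divisor measuring the degree on a given curve. -/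
theorem exists_dot_model (hd : topologicalKrullDim X = ((2 : ℕ) : WithBot ℕ∞)) {η : X}
    (hη : topologicalKrullDim (closure ({η} : Set X)) = 1) :
    ∃ (W : Scheme.{u}) (str : W ⟶ Spec (CommRingCat.of k)),
      letI : W.Over (Spec (CommRingCat.of k)) := ⟨str⟩
      IsProper (W ↘ Spec (CommRingCat.of k)) ∧ IsIntegral W ∧ topologicalKrullDim W = ((2 : ℕ) : WithBot ℕ∞) ∧
        (∃ A : W.Modules, CohB1.IsAmple A) ∧
        ∃ (f : W ⟶ X) (_ : IsIntegral W), f ≫ (X ↘ Spec (CommRingCat.of k)) = str ∧ Surjective f ∧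
          f (genericPoint W) = genericPoint X ∧ f.residueDegree (genericPoint W) = 1 ∧
          ∃ D : W.Modules, PicF.IsInvertible D ∧ ∃ c : ℚ, 0 < c ∧ ∀ L : X.Modules, PicF.IsInvertible L →
            dot k ((Scheme.Modules.pullback f).obj L) D = c * cdeg k L (ptMod η) := by
  obtain ⟨W, str, hW, hWi, hWd, ⟨A, hA⟩, f, _, hf, hsurj, hgen, hdeg, hE⟩ := exists_divisor_model (k := k) hd hη
  letI : W.Over (Spec (CommRingCat.of k)) := ⟨str⟩
  haveI := hW
  haveI := hWi
  haveI := hsurj
  haveI : IsNoetherian W := CohFound.isNoetherian_of_isProper (W ↘ (Spec (CommRingCat.of k)))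
  haveI : IsNoetherian X := CohFound.isNoetherian_of_isProper (X ↘ (Spec (CommRingCat.of k)))
  haveI : IsProper (f ≫ (X ↘ Spec (CommRingCat.of k))) := by rw [hf]; exact hW
  haveI : IsProper f := IsProper.of_comp f (X ↘ Spec (CommRingCat.of k))
  obtain ⟨M, hM, ⟨eM⟩⟩ := M2.exists_inverse (M2.isInvertible_idealMod _ hE)
  have hsupp : CohB1.support (ClSub.quotMod ((ptIdeal η).comap f)) = f ⁻¹' closure {η} := by
    rw [support_quotMod, Scheme.IdealSheafData.support_comap]
    show f ⁻¹' ((ptIdeal η).support : Set X) = _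
    rw [show ((ptIdeal η).support : Set X) = closure {η} from Scheme.IdealSheafData.coe_support_vanishingIdeal _]
  have hQ := CurveCoh17.isCoh_quotMod ((ptIdeal η).comap f)
  have hgη : genericPoint X ∉ closure ({η} : Set X) := fun h' => by
    have h2 : (Set.univ : Set X) ⊆ closure ({η} : Set X) := by
      rw [← genericPoint_closure X]
      exact isClosed_closure.closure_subset_iff.2 (Set.singleton_subset_iff.2 h')
    have h3 := dim_le_of_subset h2 hη.le
    rw [(Homeomorph.Set.univ X).isHomeomorph.topologicalKrullDim_eq, hd] at h3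
    exact absurd (Nat.cast_le.1 (show ((2 : ℕ) : WithBot ℕ∞) ≤ ((1 : ℕ) : WithBot ℕ∞) by simpa using h3)) (by omega)
  have hsd : topologicalKrullDim (CohB1.support (ClSub.quotMod ((ptIdeal η).comap f))) ≤ ((1 : ℕ) : WithBot ℕ∞) := by
    rw [hsupp]
    refine dim_le_of_notMem (isClosed_closure.preimage f.continuous) ((genericPoint_closure W).symm ▸ Set.subset_univ _)
      (fun h => hgη (hgen ▸ h)) ?_
    rw [genericPoint_closure, (Homeomorph.Set.univ W).isHomeomorph.topologicalKrullDim_eq, hWd]
  obtain ⟨T, hT⟩ := exists_finset_top (M1.isClosed_support hQ.2) hsd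
  obtain ⟨ξ, hξ, hξη⟩ := exists_curve_over (k := k) f hf hη
  have hξT : ξ ∈ T := (hT ξ).2 ⟨hsupp.ge (show f ξ ∈ closure {η} from hξη ▸ subset_closure rfl), by simpa using hξ⟩
  have key : ∀ x ∈ T, ∃ c : ℚ, 0 ≤ c ∧ (x = ξ → 0 < c) ∧ ∀ L : X.Modules, PicF.IsInvertible L →
      md k (fun _ : Fin 1 => (Scheme.Modules.pullback f).obj L) (ptMod x) = c * cdeg k L (ptMod η) := by
    intro x hx
    have hx1 : topologicalKrullDim (closure ({x} : Set W)) = 1 := by simpa using ((hT x).1 hx).2
    have hxη : f x ∈ closure ({η} : Set X) := hsupp.le ((hT x).1 hx).1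
    rcases cdeg_pullback (k := k) f hf hx1 with ⟨h0', hcl⟩ | ⟨h1', c, hc, hce⟩
    · refine ⟨0, le_rfl, fun hxe => ?_, fun L hL => by rw [zero_mul]; exact h0' L hL⟩
      rw [hxe, hξη] at hcl
      exact absurd hcl (not_isClosed_of_dim_one hη)
    · refine ⟨c, Nat.cast_nonneg c, fun _ => Nat.cast_pos.2 hc, fun L hL => ?_⟩
      have hfx : η = f x := eq_of_specializes_of_dim (Z := closure ({η} : Set X)) isClosed_closure (d := 1)
        (by simpa using hη.le) (subset_closure rfl)
        (by simpa using h1') (specializes_iff_mem_closure.2 hxη)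
      rw [hfx]
      exact hce L hL
  choose! c hc0 hcξ hce using key
  refine ⟨W, str, hW, hWi, hWd, ⟨A, hA⟩, f, hWi, hf, hsurj, hgen, hdeg, M, hM, ∑ x ∈ T, lenAt (ClSub.quotMod ((ptIdeal η).comap f)) x * c x, ?_, fun L hL => ?_⟩
  · exact Finset.sum_pos' (fun x hx => mul_nonneg (lenAt_nonneg _ _) (hc0 x hx))
      ⟨ξ, hξT, mul_pos (lenAt_pos hQ hsd ((hT ξ).1 hξT).1 ((hT ξ).1 hξT).2) (hcξ ξ hξT rfl)⟩
  · have hl := Twist.isInvertible_pullback f hL
    rw [dot_comm, dot_eq_cdeg_quot hWd.le hE (Iso.refl _) hM (M2.tensorComm _ _ ≪≫ eM) hl, cdeg,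
      md_eq_sum (r := 1) (fun _ => hl) (M1.isClosed_support hQ.2) hsd T hT hQ subset_rfl, Finset.sum_mul]
    exact Finset.sum_congr rfl fun x hx => by rw [hce x hx L hL, mul_assoc]

/-- A class orthogonal to a positive one with nonnegative square has degree zero on every curve. -/
theorem cdeg_eq_zero_of_hodge (hd : topologicalKrullDim X = ((2 : ℕ) : WithBot ℕ∞)) {H L : X.Modules}
    (hH : PicF.IsInvertible H) (hL : PicF.IsInvertible L) (hHH : 0 < dot k H H) (hLH : dot k L H = 0)
    (hLL : 0 ≤ dot k L L) {η : X} (hη : topologicalKrullDim (closure ({η} : Set X)) = 1) :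
    cdeg k L (ptMod η) = 0 := by
  obtain ⟨W, str, hW, hWi, hWd, ⟨A, hA⟩, f, _, hf, -, hgen, hdeg, D, hD, c, hc, hce⟩ := exists_dot_model (k := k) hd hη
  letI : W.Over (Spec (CommRingCat.of k)) := ⟨str⟩
  haveI := hW
  haveI := hWi
  have hh := Twist.isInvertible_pullback f hH
  have hl := Twist.isInvertible_pullback f hL
  have e : ∀ {A B : X.Modules}, PicF.IsInvertible A → PicF.IsInvertible B →
      dot k ((Scheme.Modules.pullback f).obj A) ((Scheme.Modules.pullback f).obj B) = dot k A B :=
    fun hA hB => dot_pullback_one f hf hgen hdeg hWd hA hB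
  have h1 : 0 < dot k ((Scheme.Modules.pullback f).obj H) ((Scheme.Modules.pullback f).obj H) := by rwa [e hH hH]
  have h2 : dot k ((Scheme.Modules.pullback f).obj H) ((Scheme.Modules.pullback f).obj L) = 0 := by
    rw [e hH hL, dot_comm, hLH]
  have h3 : dot k ((Scheme.Modules.pullback f).obj L) ((Scheme.Modules.pullback f).obj L) = 0 :=
    le_antisymm (orth hWd hA hh hl h1 h2) (by rwa [e hL hL])
  have h4 := radical hWd hA hh hl h1 h2 h3 hD
  rw [hce L hL] at h4
  exact (mul_eq_zero.1 h4).resolve_left hc.ne'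

end Groth.Agent.NumPoly18
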