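import Groth.Agent.Lib.RelAmple18.Generated

/-!
# Stable base loci
-/

set_option autoImplicit false
set_option linter.style.haveILetI false

universe u

open CategoryTheory CategoryTheory.Limits AlgebraicGeometry TopologicalSpace Opposite

namespace Groth.Agent.NumPoly18

open Groth.Agent

variable {X : Scheme.{u}} {L : X.Modules}

/-- The base locus of a power. -/
def baseLoc (L : X.Modules) (m : ℕ) : Set X :=
  {x : X | ∀ s : Coh.structureModule X ⟶ CohB1.tensorPow L m, x ∉ CohB1.genLocus (CohB1.tensorPow L m) s}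

/-- The stable base locus. -/
def stableLoc (L : X.Modules) : Set X :=
  {x : X | ∀ m : ℕ, 0 < m → ∀ s : Coh.structureModule X ⟶ CohB1.tensorPow L m, x ∉ CohB1.genLocus (CohB1.tensorPow L m) s}

theorem baseLoc_mul_subset (hL : PicF.IsInvertible L) {m q : ℕ} (hq : 0 < q) :
    baseLoc L (m * q) ⊆ baseLoc L m := by
  intro x hx s hs
  obtain ⟨k, rfl⟩ := Nat.exists_eq_add_of_le hq
  obtain ⟨t, ht⟩ : Amp.HasSec L (m * (0 + 1 + k)) (CohB1.genLocus (CohB1.tensorPow L m) s) :=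
    (Amp.HasSec.powPow hL ⟨s, rfl⟩ k).of_eq (by ring)
  exact hx t (ht.ge hs)

theorem stableLoc_subset {m : ℕ} (hm : 0 < m) : stableLoc L ⊆ baseLoc L m := fun _ hx s => hx m hm s

theorem exists_baseLoc_eq [CompactSpace X] [TopologicalSpace.NoetherianSpace X] (hL : PicF.IsInvertible L) :
    ∃ n₀ : ℕ, 0 < n₀ ∧ ∀ q, 0 < q → stableLoc L = baseLoc L (q * n₀) := by
  classical
  let G : ℕ → Opens X := fun m => ⨆ s, CohB1.genLocus (CohB1.tensorPow L (m + 1)) s
  have hcpt : IsCompact ((⨆ m, G m : Opens X) : Set X) := NoetherianSpace.isCompact _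
  obtain ⟨t, ht⟩ := hcpt.elim_finite_subcover (fun m => (G m : Set X)) (fun m => (G m).isOpen)
    (by rw [Opens.coe_iSup])
  refine ⟨∏ i ∈ t, (i + 1), Finset.prod_pos fun i _ => i.succ_pos, fun q hq => ?_⟩
  have hpos : 0 < q * ∏ i ∈ t, (i + 1) := Nat.mul_pos hq (Finset.prod_pos fun i _ => i.succ_pos)
  refine (stableLoc_subset hpos).antisymm fun x hx m hm s hs => ?_
  obtain ⟨m, rfl⟩ := Nat.exists_eq_add_of_le hm
  have hxU : x ∈ ((⨆ j, G j : Opens X) : Set X) := by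
    refine Opens.mem_iSup.2 ⟨m, ?_⟩
    refine Opens.mem_iSup.2 ?_
    rw [show m + 1 = 0 + 1 + m by ring]
    exact ⟨s, hs⟩
  obtain ⟨i, hi, hxi⟩ := Set.mem_iUnion₂.1 (ht hxU)
  obtain ⟨s', hs'⟩ := Opens.mem_iSup.1 hxi
  obtain ⟨r, hr⟩ : i + 1 ∣ q * ∏ j ∈ t, (j + 1) := dvd_mul_of_dvd_right (Finset.dvd_prod_of_mem _ hi) q
  have hr0 : 0 < r := Nat.pos_of_ne_zero fun h => by rw [h, mul_zero] at hr; omega
  rw [hr] at hx
  exact baseLoc_mul_subset hL hr0 hx s' hs'

end Groth.Agent.NumPoly18
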