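import Groth.Agent.Lib.NumPoly18.N1R
import Groth.Agent.Lib.NumPoly18.SurfProj
import Groth.Agent.Lib.NumPoly18.StrictNef
import Groth.Agent.Lib.NumPoly18.NefApps
import Mathlib.RingTheory.TensorProduct.Pi
import Mathlib.RingTheory.Flat.TorsionFree

/-!
# The real intersection form of a surface

Hodge index over the reals, definiteness, the Nakai criterion and the cones.
-/

set_option autoImplicit false
set_option linter.style.haveILetI false
set_option maxHeartbeats 800000
set_option backward.isDefEq.respectTransparency false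

universe u

open CategoryTheory CategoryTheory.Limits AlgebraicGeometry TopologicalSpace Opposite TensorProduct

namespace Groth.Agent.SurfR

open Groth.Agent Groth.Agent.NumPoly18 Groth.Agent.Snapper NumR

variable {k : Type u} [Field k] {X : Scheme.{u}} [X.Over (Spec (CommRingCat.of k))]
  [IsProper (X ↘ Spec (CommRingCat.of k))]

theorem not_isZero_structureModule (Y : Scheme.{u}) [Nonempty Y] : ¬ IsZero (Coh.structureModule Y) := fun h => by
  haveI : Nonempty (⊤ : Y.Opens) := ⟨⟨Classical.arbitrary Y, trivial⟩⟩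
  have h1 : 𝟙 (Coh.structureModule Y) = 0 := h.eq_of_src _ _
  have h2 := congrArg (fun f : Coh.structureModule Y ⟶ Coh.structureModule Y => f.app ⊤ (1 : Γ(Y, ⊤))) h1
  exact one_ne_zero (α := Γ(Y, ⊤)) h2

section Nakai

variable [IsIntegral X]

/-- The Nakai criterion for surfaces. -/
theorem isAmple_of_pos (hd : topologicalKrullDim X = ((2 : ℕ) : WithBot ℕ∞)) {A L : X.Modules}
    (hA : CohB1.IsAmple A) (hL : PicF.IsInvertible L) (h2 : 0 < dot k L L) (hLA : 0 ≤ dot k L A)
    (h1 : ∀ C : X.IdealSheafData, IsIntegral C.subscheme → topologicalKrullDim (C.support : Set X) = 1 →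
      0 < cdeg k L (ClSub.quotMod C)) : CohB1.IsAmple L := by
  haveI : IsNoetherian X := CohFound.isNoetherian_of_isProper (X ↘ (Spec (CommRingCat.of k)))
  refine isAmple_of_strictlyNef_effective k hL h1 fun Z hZ => ?_
  haveI := hZ
  letI : Z.subscheme.Over (Spec (CommRingCat.of k)) := ⟨Z.subschemeι ≫ (X ↘ (Spec (CommRingCat.of k)))⟩
  haveI : IsProper (Z.subscheme ↘ (Spec (CommRingCat.of k))) :=
    inferInstanceAs (IsProper (Z.subschemeι ≫ (X ↘ (Spec (CommRingCat.of k)))))
  haveI : IsNoetherian Z.subscheme := CohFound.isNoetherian_of_isProper (Z.subscheme ↘ (Spec (CommRingCat.of k)))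
  have hLZ := Twist.isInvertible_pullback Z.subschemeι hL
  have hsec : CohB1.IsAmple ((Scheme.Modules.pullback Z.subschemeι).obj L) → ∃ (m : ℕ)
      (s : Coh.structureModule Z.subscheme ⟶ CohB1.tensorPow ((Scheme.Modules.pullback Z.subschemeι).obj L) (m + 1)),
      s ≠ 0 := fun hamp => by
    obtain ⟨n₀, hn⟩ := eventually_hasMonoSec k hamp (PicLoc.isInvertible_structureModule Z.subscheme)
    obtain ⟨φ, hφ⟩ := (hn (n₀ + 1) n₀.le_succ).of_iso (M2.tensorLUnit _)
    haveI := hφ
    exact ⟨n₀, φ, fun h => not_isZero_structureModule Z.subscheme (IsZero.of_mono_eq_zero φ h)⟩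
  by_cases hsurj : Function.Surjective Z.subschemeι
  · haveI : Surjective Z.subschemeι := ⟨hsurj⟩
    haveI : IsIso Z.subschemeι := isIso_of_isClosedImmersion_of_surjective Z.subschemeι
    obtain ⟨c, hc, n₀, hn⟩ := eventually_sections hd hA hL h2
      (lt_of_le_of_ne hLA (dot_ne_zero hd hA hL h2).symm)
    obtain ⟨φ, hφ⟩ := hasMonoSec_of_nontrivial k (M2.isInvertible_tensorPow hL (n₀ + 1))
      (Module.nontrivial_of_finrank_pos (R := k) (by
        have := lt_of_le_of_lt (by positivity) (hn (n₀ + 1) n₀.le_succ)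
        exact_mod_cast this))
    haveI := hφ
    haveI : Mono ((Scheme.Modules.pullback Z.subschemeι).map φ) := inferInstance
    refine ⟨n₀, (Twist.pullbackUnitIso Z.subschemeι).inv ≫ (Scheme.Modules.pullback Z.subschemeι).map φ ≫
      (M2.pullTensorPowIso Z.subschemeι L (n₀ + 1)).hom, fun h => ?_⟩
    exact not_isZero_structureModule Z.subscheme (IsZero.of_mono_eq_zero _ h)
  · obtain ⟨N, hN⟩ := Snapper.exists_dim_le k Z.subscheme
    haveI : Nonempty (IrreducibleCloseds Z.subscheme) :=
      ⟨⟨closure {Classical.arbitrary _}, isIrreducible_singleton.closure, isClosed_closure⟩⟩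
    obtain ⟨d, hdZ⟩ := AmpleFin18.mem_natCast_or_top (topologicalKrullDim Z.subscheme) N Order.krullDim_nonneg hN
    have hle : d ≤ 1 := by
      have hη : genericPoint X ∉ (Z.support : Set X) := fun hm => hsurj fun x => by
        have hu : (Z.support : Set X) = Set.univ := Set.eq_univ_of_univ_subset (by
          rw [← genericPoint_closure X]
          exact closure_minimal (Set.singleton_subset_iff.2 hm) Z.support.isClosed')
        exact Z.range_subschemeι.ge (hu ▸ Set.mem_univ x)
      have h := dim_le_of_notMem (d := 1) Z.support.isClosed' ((genericPoint_closure X).symm ▸ Set.subset_univ _) hη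
        ((Topology.IsInducing.subtypeVal.topologicalKrullDim_le).trans hd.le)
      change topologicalKrullDim (Z.support : Set X) ≤ _ at h
      rw [← AmpleFin18.dim_subscheme Z rfl, hdZ] at h
      exact_mod_cast h
    refine hsec ?_
    rcases Nat.le_one_iff_eq_zero_or_eq_one.1 hle with rfl | rfl
    · haveI : IsAffine Z.subscheme := AmpleFin18.isAffine_of_dim_le_zero (by simpa using hdZ.le)
      exact AmpleFin18.isAmple_of_isAffine hLZ
    · have hd' : topologicalKrullDim (Z.support : Set X) = 1 := by
        rw [← AmpleFin18.dim_subscheme Z rfl]; simpa using hdZ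
      exact isAmple_pullback_of_cdeg_pos k Z hd' hL (h1 Z hZ hd')

end Nakai

variable [PicGrp.Law X]

section Form

variable (hd : topologicalKrullDim X = ((2 : ℕ) : WithBot ℕ∞))
  {B : N1R k X →ₗ[ℝ] N1R k X →ₗ[ℝ] ℝ} (hB : IsIntForm₂ k X B)
include hd hB

theorem B_clR {L M : X.Modules} (hL : PicF.IsInvertible L) (hM : PicF.IsInvertible M) :
    B (clR k X L hL) (clR k X M hM) = ((dot k L M : ℚ) : ℝ) := by
  rw [hB L M hL hM, ← intNum2 hd.le hL hM, Rat.cast_intCast]

theorem symm (x y : N1R k X) : B x y = B y x := by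
  have h : B = B.flip := N1R.lin_ext fun L hL => N1R.lin_ext fun M hM => by
    rw [LinearMap.flip_apply, B_clR hd hB hL hM, B_clR hd hB hM hL, dot_comm]
  conv_lhs => rw [h, LinearMap.flip_apply]

/-- The form on two real classes is the limit of rational ones. -/
theorem continuous_self [Module.Finite ℝ (N1R k X)] : Continuous fun x => B x x :=
  (IsModuleTopology.continuous_bilinear_of_finite_left (R := ℝ) B).comp (continuous_id.prodMk continuous_id)

omit hd hB in
theorem continuous_left [Module.Finite ℝ (N1R k X)] (y : N1R k X) : Continuous fun x => B x y :=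
  IsModuleTopology.continuous_of_linearMap (B.flip y)

variable [IsIntegral X]

/-- The Hodge index inequality for real classes. -/
theorem sq_le [Module.Finite ℝ (N1R k X)] {H : X.Modules} (hH : CohB1.IsAmple H) (x : N1R k X) :
    B x x * B (clR k X H hH.1) (clR k X H hH.1) ≤ B x (clR k X H hH.1) ^ 2 := by
  refine (N1R.dense_ratClasses (k := k) (X := X)).induction ?_
    (isClosed_le ((continuous_self hd hB).mul continuous_const) ((continuous_left (B := B) _).pow 2)) x
  rintro _ ⟨n, L, hL, hn, rfl⟩
  have h := (Rat.cast_le (K := ℝ)).2 (NumPoly18.sq_le hd hH hL (k := k))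
  push_cast at h
  rw [← B_clR hd hB hL hL, ← B_clR hd hB hL hH.1, ← B_clR hd hB hH.1 hH.1] at h
  simp only [map_smul, LinearMap.smul_apply, smul_eq_mul]
  nlinarith [mul_le_mul_of_nonneg_left h (sq_nonneg ((n : ℝ)⁻¹))]

theorem self_pos {H : X.Modules} (hH : CohB1.IsAmple H) :
    0 < B (clR k X H hH.1) (clR k X H hH.1) := by
  rw [B_clR hd hB hH.1 hH.1, Rat.cast_pos]
  exact dot_self_pos hd hH

variable [Smooth (X ↘ Spec (CommRingCat.of k))]

/-- The form is nondegenerate. -/
theorem nondeg [Module.Finite ℝ (N1R k X)] {x : N1R k X}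
    (h : ∀ (M : X.Modules) (hM : PicF.IsInvertible M), B x (clR k X M hM) = 0) : x = 0 := by
  obtain ⟨m, e, he, hsurj⟩ := N1R.exists_gen (k := k) (X := X)
  let ψ₀ : N1 k X →+ (Fin m → ℝ) :=
    { toFun := fun y j => B (toN1R k X y) (clR k X (e j) (he j))
      map_zero' := funext fun j => by rw [map_zero, map_zero, LinearMap.zero_apply, Pi.zero_apply]
      map_add' := fun y z => funext fun j => by rw [map_add, map_add, LinearMap.add_apply, Pi.add_apply] }
  have hint : ∀ (y : N1 k X) (j : Fin m), ∃ z : ℤ, ψ₀ y j = z := fun y j => by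
    obtain ⟨L, hL, rfl⟩ := exists_eq_cl y
    exact ⟨_, hB L (e j) hL (he j)⟩
  choose z hz using hint
  let ψ : N1 k X →ₗ[ℤ] (Fin m → ℤ) := AddMonoidHom.toIntLinearMap
    { toFun := z
      map_zero' := funext fun j => Int.cast_injective (α := ℝ) (by rw [← hz, map_zero]; simp)
      map_add' := fun a b => funext fun j => Int.cast_injective (α := ℝ) (by
        rw [← hz, map_add, Pi.add_apply, hz, hz, Pi.add_apply, Int.cast_add]) }
  have hψ : Function.Injective ψ := by
    rw [← LinearMap.ker_eq_bot, LinearMap.ker_eq_bot']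
    intro y hy
    obtain ⟨L, hL, rfl⟩ := exists_eq_cl y
    have hzero : ∀ j, B (clR k X L hL) (clR k X (e j) (he j)) = 0 := fun j => by
      have h1 : z (cl k X L hL) j = 0 := congrFun hy j
      have h2 := hz (cl k X L hL) j
      rw [h1, Int.cast_zero] at h2
      exact h2
    refine cl_eq_zero hL (isNumEquivZero_of_dot hd hL fun M hM => ?_)
    obtain ⟨c, hc⟩ := hsurj (clR k X M hM)
    have h3 : B (clR k X L hL) (clR k X M hM) = 0 := by
      rw [← hc, Fintype.linearCombination_apply, map_sum]
      exact Finset.sum_eq_zero fun j _ => by rw [map_smul, hzero j, smul_zero]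
    rw [B_clR hd hB hL hM] at h3
    exact_mod_cast h3
  have hflat := Module.Flat.lTensor_preserves_injective_linearMap (M := ℝ) ψ hψ
  have key : ∀ (w : ℝ ⊗[ℤ] N1 k X) (j : Fin m),
      TensorProduct.piScalarRight ℤ ℝ ℝ (Fin m) (ψ.lTensor ℝ w) j = B (w : N1R k X) (clR k X (e j) (he j)) := by
    intro w j
    induction w using TensorProduct.induction_on with
    | zero =>
      simp only [map_zero, Pi.zero_apply]
      rfl
    | tmul r y =>
      rw [LinearMap.lTensor_tmul, TensorProduct.piScalarRight_apply, TensorProduct.piScalarRightHom_tmul]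
      have e1 : (r ⊗ₜ[ℤ] y : ℝ ⊗[ℤ] N1 k X) = (r • toN1R k X y : N1R k X) := by
        rw [toN1R_apply]
        change _ = r • ((1 : ℝ) ⊗ₜ[ℤ] y)
        rw [TensorProduct.smul_tmul', smul_eq_mul, mul_one]
      refine Eq.trans ?_ (congrArg (fun v : N1R k X => B v (clR k X (e j) (he j))) e1).symm
      rw [map_smul, LinearMap.smul_apply, smul_eq_mul,
        show B (toN1R k X y) (clR k X (e j) (he j)) = ψ₀ y j from rfl, hz]
      simp [ψ, mul_comm]
    | add a b ha hb =>
      simp only [map_add, Pi.add_apply, ha, hb]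
      rfl
  refine hflat (a₁ := x) (a₂ := 0) ((TensorProduct.piScalarRight ℤ ℝ ℝ (Fin m)).injective (funext fun j => ?_))
  rw [key, key]
  exact (h _ (he j)).trans (LinearMap.congr_fun (map_zero B) _).symm

/-- Definiteness on the orthogonal of an ample class. -/
theorem eq_zero_of_orth [Module.Finite ℝ (N1R k X)] {H : X.Modules} (hH : CohB1.IsAmple H) {y : N1R k X}
    (hy : B y (clR k X H hH.1) = 0) (hyy : 0 ≤ B y y) : y = 0 := by
  set h := clR k X H hH.1
  have hhh : 0 < B h h := self_pos hd hB hH
  have hle : ∀ z, B z h = 0 → B z z ≤ 0 := fun z hz => by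
    have := sq_le hd hB hH z
    rw [hz] at this
    exact nonpos_of_mul_nonpos_left (by simpa using this) hhh
  refine nondeg hd hB fun M hM => ?_
  set z := B h h • clR k X M hM - B (clR k X M hM) h • h with hzdef
  have hz : B z h = 0 := by
    simp only [hzdef, map_sub, map_smul, LinearMap.sub_apply, LinearMap.smul_apply, smul_eq_mul]; ring
  have h0 : B y y = 0 := le_antisymm (hle y hy) hyy
  have hyz : B y z = 0 := by
    by_contra hne
    have hq := hle ((B z z - 1) • y + (-2 * B y z) • z) (by simp [map_add, map_smul, hy, hz])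
    simp only [map_add, map_smul, LinearMap.add_apply, LinearMap.smul_apply, smul_eq_mul, h0,
      symm hd hB z y] at hq
    nlinarith [lt_of_le_of_ne (sq_nonneg (B y z)) (Ne.symm (pow_ne_zero 2 hne)), hle z hz]
  have h1 : B h h * B y (clR k X M hM) = 0 := by
    rw [hzdef] at hyz
    simp only [map_sub, map_smul, smul_eq_mul, hy] at hyz
    linarith
  exact (mul_eq_zero.1 h1).resolve_left hhh.ne'

/-- A class of positive square has nonzero degree. -/
theorem ne_zero_of_pos [Module.Finite ℝ (N1R k X)] {H : X.Modules} (hH : CohB1.IsAmple H) {x : N1R k X}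
    (hx : 0 < B x x) : B x (clR k X H hH.1) ≠ 0 := fun h0 => by
  rw [eq_zero_of_orth hd hB hH h0 hx.le] at hx
  simp at hx

end Form

end Groth.Agent.SurfR
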