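import Groth.Agent.Lib.NumPoly18.N1R
import Groth.Agent.Lib.NumPoly18.SurfReal
import Groth.Agent.Lib.NumPoly18.Big

/-!
# The big cone
-/

set_option autoImplicit false
set_option linter.style.haveILetI false
set_option maxHeartbeats 800000
set_option backward.isDefEq.respectTransparency false

universe u

open CategoryTheory CategoryTheory.Limits AlgebraicGeometry TopologicalSpace Opposite NumR

namespace Groth.Agent.NumPoly18

open Groth.Agent Groth.Agent.Snapper

variable {X : Scheme.{u}} [IsIntegral X]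

theorem hasSection_of_hasMonoSec {E : X.Modules} (h : HasMonoSec E) : NumR.HasSection E := by
  obtain ⟨φ, hφ⟩ := h
  haveI := hφ
  refine ⟨φ, fun h0 => SurfR.not_isZero_structureModule X (IsZero.of_mono_eq_zero φ h0)⟩

theorem hasMonoSec_of_hasSection {E : X.Modules} (hE : PicF.IsInvertible E) (h : NumR.HasSection E) :
    HasMonoSec E := by
  obtain ⟨s, hs⟩ := h
  refine hasMonoSec_of_section hE (Amp.gval s) fun h0 => hs ?_
  rw [← Amp.secHom_gval s, h0]
  exact add_right_cancel (b := M1.secHom (0 : Γ(E, ⊤))) (by rw [← CurveCoh17.secHom_add, add_zero, zero_add])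

variable (k : Type u) [Field k] [X.Over (Spec (CommRingCat.of k))] [IsProper (X ↘ Spec (CommRingCat.of k))]

variable (X) in
/-- Every ample module injects into a power. -/
def IsBigMod (L : X.Modules) : Prop :=
  ∀ A : X.Modules, CohB1.IsAmple A → ∃ (m : ℕ) (φ : A ⟶ CohB1.tensorPow L m), 0 < m ∧ Mono φ

include k in
theorem isBigMod_tensor {A E : X.Modules} (hA : CohB1.IsAmple A) (hE : PicF.IsInvertible E) (hs : HasMonoSec E) :
    IsBigMod X (CohB1.tensorMod A E) := by
  intro A₁ hA₁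
  obtain ⟨A', hA', ⟨e⟩⟩ := M2.exists_inverse hA₁.1
  obtain ⟨m₀, hm₀⟩ := eventually_hasMonoSec k hA hA'
  let m := m₀ + 1
  have h1 := (hs.pow hE m).tensor (hm₀ m (Nat.le_succ _)) (M2.isInvertible_tensorPow hE m)
  obtain ⟨φ, hφ⟩ := exists_mono_of_hasMonoSec h1 hA₁.1 (C := CohB1.tensorPow (CohB1.tensorMod A E) m)
    (M2.tensorComm _ _ ≪≫ M2.tensorIso (Iso.refl A₁) (M2.tensorAssoc _ _ _) ≪≫ (M2.tensorAssoc _ _ _).symm ≪≫
      M2.tensorIso e (M2.tensorPowMul A E m).symm ≪≫ M2.tensorLUnit _)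
  exact ⟨m, φ, Nat.succ_pos _, hφ⟩

include k in
theorem isBigMod_of_isAmple {A : X.Modules} (hA : CohB1.IsAmple A) : IsBigMod X A := by
  have h := isBigMod_tensor k hA (PicLoc.isInvertible_structureModule X) hasMonoSec_unit
  intro A₁ hA₁
  obtain ⟨m, φ, hm, hφ⟩ := h A₁ hA₁
  haveI := hφ
  exact ⟨m, φ ≫ (M2.tensorPowIso (M2.tensorRUnit A) m).hom, hm, mono_comp' hφ inferInstance⟩

variable [PicGrp.Law X]

variable (X) in
/-- The cone generated by the big modules. -/
noncomputable def bigCone : ConvexCone ℝ (N1R k X) := NumR.coneOf k X (IsBigMod X)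

theorem mem_effCone {E : X.Modules} (hE : PicF.IsInvertible E) (hs : HasMonoSec E) :
    clR k X E hE ∈ NumR.effCone k X :=
  ConvexCone.subset_hull ⟨E, hE, hasSection_of_hasMonoSec hs, rfl⟩

theorem mem_bigCone {L : X.Modules} (hL : PicF.IsInvertible L) (h : IsBigMod X L) : clR k X L hL ∈ bigCone X k :=
  ConvexCone.subset_hull ⟨L, hL, h, rfl⟩

theorem exists_ample_add_eff {H : X.Modules} (hH : CohB1.IsAmple H) {x : N1R k X} (hx : x ∈ bigCone X k) :
    ∃ a ∈ NumR.ampleCone k X, x - a ∈ NumR.effCone k X := by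
  let S : ConvexCone ℝ (N1R k X) :=
    { carrier := {x | ∃ a ∈ NumR.ampleCone k X, x - a ∈ NumR.effCone k X}
      smul_mem' := fun c hc x ⟨a, ha, hxa⟩ => ⟨c • a, (NumR.ampleCone k X).smul_mem hc ha, by
        rw [← smul_sub]; exact (NumR.effCone k X).smul_mem hc hxa⟩
      add_mem' := fun x ⟨a, ha, hxa⟩ y ⟨b, hb, hyb⟩ => ⟨a + b, (NumR.ampleCone k X).add_mem ha hb, by
        rw [add_sub_add_comm]; exact (NumR.effCone k X).add_mem hxa hyb⟩ }
  refine (show bigCone X k ≤ S from ConvexCone.hull_min ?_) hx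
  rintro _ ⟨L, hL, hbig, rfl⟩
  obtain ⟨m, φ, hm, hφ⟩ := hbig H hH
  haveI := hφ
  obtain ⟨H', hH', ⟨e⟩⟩ := M2.exists_inverse hH.1
  have hG := M2.isInvertible_tensor (M2.isInvertible_tensorPow hL m) hH'
  have hm' : (0 : ℝ) < (m : ℝ)⁻¹ := inv_pos.2 (Nat.cast_pos.2 hm)
  refine ⟨(m : ℝ)⁻¹ • clR k X H hH.1, (NumR.ampleCone k X).smul_mem hm' (N1R.clR_mem_ampleCone hH), ?_⟩
  have h := (NumR.effCone k X).smul_mem hm' (mem_effCone k hG (hasMonoSec_of_mono φ hH' e))
  convert h using 1
  rw [N1R.clR_tensor (M2.isInvertible_tensorPow hL m) hH', N1R.clR_pow hL, N1R.clR_inverse hH.1 hH' e, smul_add,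
    smul_smul, inv_mul_cancel₀ (Nat.cast_ne_zero.2 hm.ne'), one_smul, smul_neg, sub_eq_add_neg]

theorem smul_add_mem_bigCone {H : X.Modules} (hH : CohB1.IsAmple H) {e : N1R k X} (he : e ∈ NumR.effCone k X)
    {ε : ℝ} (hε : 0 < ε) : ε • clR k X H hH.1 + e ∈ bigCone X k := by
  let S : ConvexCone ℝ (N1R k X) :=
    { carrier := {e | ∀ ε : ℝ, 0 < ε → ε • clR k X H hH.1 + e ∈ bigCone X k}
      smul_mem' := fun c hc x hx ε hε => by
        have h := (bigCone X k).smul_mem hc (hx (ε / c) (div_pos hε hc))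
        rwa [smul_add, smul_smul, mul_div_cancel₀ _ hc.ne'] at h
      add_mem' := fun x hx y hy ε hε => by
        have h := (bigCone X k).add_mem (hx (ε / 2) (half_pos hε)) (hy (ε / 2) (half_pos hε))
        rwa [add_add_add_comm, ← add_smul, add_halves] at h }
  refine (show NumR.effCone k X ≤ S from ConvexCone.hull_min ?_) he ε hε
  rintro _ ⟨E, hE, hs, rfl⟩ δ hδ
  obtain ⟨n, hn⟩ := exists_nat_gt (δ⁻¹)
  have hn0 : (0 : ℝ) < n := (inv_pos.2 hδ).trans hn
  have h1 : 0 < δ - (n : ℝ)⁻¹ := sub_pos.2 ((inv_lt_comm₀ hn0 hδ).2 hn)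
  have hP := M2.isInvertible_tensorPow hE n
  have hb := isBigMod_tensor k hH hP ((hasMonoSec_of_hasSection hE hs).pow hE n)
  have h := (bigCone X k).add_mem ((bigCone X k).smul_mem h1 (mem_bigCone k hH.1 (isBigMod_of_isAmple k hH)))
    ((bigCone X k).smul_mem (inv_pos.2 hn0) (mem_bigCone k (M2.isInvertible_tensor hH.1 hP) hb))
  convert h using 1
  rw [N1R.clR_tensor hH.1 hP, N1R.clR_pow hE, smul_add, smul_smul, inv_mul_cancel₀ hn0.ne', one_smul, ← add_assoc,
    ← add_smul, sub_add_cancel]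

theorem ampleCone_le_bigCone : NumR.ampleCone k X ≤ bigCone X k :=
  ConvexCone.hull_min (by rintro _ ⟨L, hL, hA, rfl⟩; exact mem_bigCone k hL (isBigMod_of_isAmple k hA))

theorem ampleCone_le_effCone : NumR.ampleCone k X ≤ NumR.effCone k X := by
  refine ConvexCone.hull_min ?_
  rintro _ ⟨L, hL, hA, rfl⟩
  obtain ⟨n₀, hn₀⟩ := eventually_hasMonoSec k hA (PicLoc.isInvertible_structureModule X)
  have hn : (0 : ℝ) < ((n₀ + 1 : ℕ) : ℝ) := Nat.cast_pos.2 n₀.succ_pos
  have h := (NumR.effCone k X).smul_mem (inv_pos.2 hn) (mem_effCone k (M2.isInvertible_tensorPow hL (n₀ + 1))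
    ((hn₀ (n₀ + 1) (Nat.le_succ _)).of_iso (M2.tensorLUnit _)))
  rwa [N1R.clR_pow hL, smul_smul, inv_mul_cancel₀ hn.ne', one_smul] at h

theorem add_mem_bigCone {a e : N1R k X} (ha : a ∈ NumR.ampleCone k X) (he : e ∈ NumR.effCone k X) :
    a + e ∈ bigCone X k := by
  obtain ⟨A, hA, t, ht, hrest⟩ := N1R.exists_split ha
  have h := smul_add_mem_bigCone k hA he ht
  rcases hrest with h0 | h0
  · rwa [← sub_eq_zero.1 h0] at h
  · have h2 := (bigCone X k).add_mem (ampleCone_le_bigCone k h0) h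
    rwa [← add_assoc, sub_add_cancel] at h2

theorem mem_bigCone_iff {H : X.Modules} (hH : CohB1.IsAmple H) (x : N1R k X) :
    x ∈ bigCone X k ↔ ∃ a ∈ NumR.ampleCone k X, x - a ∈ NumR.effCone k X :=
  ⟨exists_ample_add_eff k hH, fun ⟨a, ha, he⟩ => by simpa using add_mem_bigCone k ha he⟩

theorem bigCone_eq_interior {H : X.Modules} (hH : CohB1.IsAmple H) [Module.Finite ℝ (N1R k X)] :
    (bigCone X k : Set (N1R k X)) = interior (NumR.psefCone k X) ∧
      NumR.psefCone k X = closure (bigCone X k : Set (N1R k X)) := by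
  haveI : IsTopologicalAddGroup (N1R k X) := IsModuleTopology.topologicalAddGroup ℝ _
  have hsub : (bigCone X k : Set (N1R k X)) ⊆ NumR.effCone k X := fun x hx => by
    obtain ⟨a, ha, he⟩ := exists_ample_add_eff k hH hx
    simpa using (NumR.effCone k X).add_mem (ampleCone_le_effCone k ha) he
  have hopen : IsOpen (bigCone X k : Set (N1R k X)) := by
    rw [isOpen_iff_mem_nhds]
    intro x hx
    obtain ⟨a, ha, he⟩ := exists_ample_add_eff k hH hx
    refine Filter.mem_of_superset (((N1R.isOpen_ampleCone (k := k) (X := X)).preimage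
      (continuous_id.sub continuous_const : Continuous fun y => y - (x - a))).mem_nhds
        (by simpa using ha)) fun y hy => ?_
    have := add_mem_bigCone k (show y - (x - a) ∈ NumR.ampleCone k X from hy) he
    rwa [sub_add_cancel] at this
  refine ⟨(interior_maximal (hsub.trans subset_closure) hopen).antisymm fun x hx => ?_, ?_⟩
  · -- move back a little along an ample class
    have hcont : Continuous fun t : ℝ => x - t • clR k X H hH.1 :=
      by fun_prop
    obtain ⟨ε, hε, hεU⟩ := Metric.mem_nhds_iff.1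
      ((isOpen_interior.preimage hcont).mem_nhds (show (0 : ℝ) ∈ _ from by simpa using hx))
    let t := ε / 2
    have ht : 0 < t := half_pos hε
    have hy : x - t • clR k X H hH.1 ∈ NumR.psefCone k X := interior_subset (hεU (by
      rw [Metric.mem_ball, dist_zero_right, Real.norm_eq_abs, abs_of_pos ht]; exact half_lt_self hε))
    obtain ⟨e, heA, he⟩ := mem_closure_iff_nhds.1 hy
      ((fun e => x - e) ⁻¹' (NumR.ampleCone k X : Set (N1R k X)))
      (((N1R.isOpen_ampleCone (k := k) (X := X)).preimage (continuous_const.sub continuous_id)).mem_nhds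
        (by simpa using (NumR.ampleCone k X).smul_mem ht (N1R.clR_mem_ampleCone hH)))
    simpa using add_mem_bigCone k (show x - e ∈ NumR.ampleCone k X from heA) he
  · refine (closure_minimal (fun e he => ?_) isClosed_closure).antisymm (closure_mono hsub)
    have hcont : Continuous fun t : ℝ => t • clR k X H hH.1 + e :=
      by fun_prop
    have h0 : (fun t : ℝ => t • clR k X H hH.1 + e) 0 ∈ closure ((fun t : ℝ => t • clR k X H hH.1 + e) '' Set.Ioi 0) :=
      image_closure_subset_closure_image hcont ⟨0, by simp [closure_Ioi], rfl⟩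
    refine closure_mono ?_ (by simpa using h0)
    rintro _ ⟨t, ht, rfl⟩
    exact smul_add_mem_bigCone k hH he ht

end Groth.Agent.NumPoly18
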