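import Groth.Agent.Lib.Snapper.Antidiff
import Mathlib.Algebra.MvPolynomial.Funext
import Mathlib.Algebra.BigOperators.Ring.Finset

/-!
# Polynomials of degree less than `d` and the coefficient of `x₁ ⋯ x_d`
-/

set_option autoImplicit false

open MvPolynomial Finset

namespace Groth.Agent.NumPoly18

open Groth.Agent.Snapper

variable {r : ℕ}

/-- `f` agrees with a polynomial all of whose monomials have degree `< d`. -/
def PolyLT (d : ℕ) (f : (Fin r → ℕ) → ℚ) : Prop :=
  ∃ P : MvPolynomial (Fin r) ℚ, (∀ m ∈ P.support, (m.sum fun _ e => e) < d) ∧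
    ∀ n, f n = eval (fun i => (n i : ℚ)) P

theorem PolyLT.congr {d : ℕ} {f g : (Fin r → ℕ) → ℚ} (h : PolyLT d f) (e : ∀ n, f n = g n) : PolyLT d g := by
  obtain ⟨P, hP, hf⟩ := h
  exact ⟨P, hP, fun n => (e n).symm.trans (hf n)⟩

theorem polyLT_zero (d : ℕ) : PolyLT d (fun _ : Fin r → ℕ => 0) := ⟨0, by simp, fun n => by simp⟩

theorem PolyLT.add {d : ℕ} {f g : (Fin r → ℕ) → ℚ} (hf : PolyLT d f) (hg : PolyLT d g) :
    PolyLT d (fun n => f n + g n) := by
  classical
  obtain ⟨P, hP, hPf⟩ := hf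
  obtain ⟨Q, hQ, hQg⟩ := hg
  refine ⟨P + Q, fun m hm => ?_, fun n => by simp [hPf, hQg]⟩
  rcases Finset.mem_union.1 (MvPolynomial.support_add hm) with h | h
  · exact hP m h
  · exact hQ m h

theorem PolyLT.sub {d : ℕ} {f g : (Fin r → ℕ) → ℚ} (hf : PolyLT d f) (hg : PolyLT d g) :
    PolyLT d (fun n => f n - g n) := by
  obtain ⟨Q, hQ, hQg⟩ := hg
  exact (hf.add ⟨-Q, by simpa using hQ, fun n => rfl⟩).congr fun n => by simp [hQg, sub_eq_add_neg]

theorem PolyLT.of_polyLE {d e : ℕ} {f : (Fin r → ℕ) → ℚ} (h : PolyLE d f) (hde : d < e) : PolyLT e f := by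
  obtain ⟨P, hP, hf⟩ := h
  exact ⟨P, fun m hm => lt_of_le_of_lt ((le_totalDegree hm).trans hP) hde, hf⟩

/-- Polynomials agreeing on `ℕ^r` are equal. -/
theorem eq_of_eval_nat {P Q : MvPolynomial (Fin r) ℚ}
    (h : ∀ n : Fin r → ℕ, eval (fun i => (n i : ℚ)) P = eval (fun i => (n i : ℚ)) Q) : P = Q := by
  refine MvPolynomial.funext_set (fun _ => Set.range fun m : ℕ => (m : ℚ))
    (fun _ => Set.infinite_range_of_injective Nat.cast_injective) fun x hx => ?_
  choose n hn using fun i => hx i trivial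
  rw [show x = fun i => (n i : ℚ) from funext fun i => (hn i).symm]
  exact h n

/-- The exponent vector of `x₁ ⋯ x_r`. -/
noncomputable abbrev ones (r : ℕ) : Fin r →₀ ℕ := Finsupp.equivFunOnFinite.symm fun _ => 1

theorem coeff_ones_eq_zero {P : MvPolynomial (Fin r) ℚ} (h : ∀ m ∈ P.support, (m.sum fun _ e => e) < r) :
    coeff (ones r) P = 0 := by
  by_contra hc
  have h1 := h _ (mem_support_iff.2 hc)
  rw [Finsupp.sum_fintype _ _ (fun _ => rfl)] at h1
  simp at h1

/-- The indicator of a subset. -/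
def ind (I : Finset (Fin r)) : Fin r → ℕ := fun i => if i ∈ I then 1 else 0

/-- The mixed difference of order one in every variable. -/
def mixedDiff (f : (Fin r → ℕ) → ℚ) : ℚ :=
  ∑ I : Finset (Fin r), (-1 : ℚ) ^ (r - I.card) * f (ind I)

theorem mixedDiff_monomial (m : Fin r →₀ ℕ) :
    mixedDiff (fun n => ∏ i, (n i : ℚ) ^ (m i)) = if ∀ i, 1 ≤ m i then 1 else 0 := by
  classical
  have h : ∀ i, ((1 : ℚ) + -((0 : ℚ) ^ (m i))) = if 1 ≤ m i then 1 else 0 := fun i => by
    rcases Nat.eq_zero_or_pos (m i) with h | h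
    · simp [h]
    · simp [zero_pow h.ne', Nat.one_le_iff_ne_zero, h.ne']
  have hp : ∏ i, ((1 : ℚ) + -((0 : ℚ) ^ (m i))) = if ∀ i, 1 ≤ m i then 1 else 0 := by
    simp only [h, Finset.prod_boole, Finset.mem_univ, forall_const]
  rw [← hp, Finset.prod_add, Finset.powerset_univ, mixedDiff]
  refine Finset.sum_congr rfl fun I _ => ?_
  rw [Finset.prod_const_one, one_mul, Finset.prod_neg, Finset.card_sdiff, Finset.inter_univ, Finset.card_univ,
    Fintype.card_fin, ← Finset.compl_eq_univ_sdiff, ← Finset.prod_mul_prod_compl I (fun i => ((ind I i : ℕ) : ℚ) ^ (m i))]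
  congr 1
  rw [Finset.prod_eq_one (s := I) (fun i hi => by simp [ind, hi]), one_mul]
  exact Finset.prod_congr rfl fun i hi => by simp [ind, Finset.mem_compl.1 hi]

/-- In degree `≤ r` the mixed difference is the coefficient of `x₁ ⋯ x_r`. -/
theorem coeff_ones_eq_mixedDiff {P : MvPolynomial (Fin r) ℚ} (hP : P.totalDegree ≤ r) {f : (Fin r → ℕ) → ℚ}
    (hf : ∀ n, f n = eval (fun i => (n i : ℚ)) P) : coeff (ones r) P = mixedDiff f := by
  classical
  have h1 : mixedDiff f = ∑ m ∈ P.support, coeff m P * mixedDiff (fun n : Fin r → ℕ => ∏ i, (n i : ℚ) ^ (m i)) := by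
    simp only [mixedDiff, hf, eval_eq', Finset.mul_sum]
    rw [Finset.sum_comm]
    exact Finset.sum_congr rfl fun m _ => Finset.sum_congr rfl fun I _ => by ring
  rw [h1, Finset.sum_eq_single (ones r)]
  · rw [mixedDiff_monomial, if_pos (fun i => le_of_eq (by simp)), mul_one]
  · intro m hm hne
    rw [mixedDiff_monomial, if_neg, mul_zero]
    intro h
    refine hne (Finsupp.ext fun i => ?_)
    have hdeg := (le_totalDegree hm).trans hP
    rw [Finsupp.sum_fintype _ _ (fun _ => rfl)] at hdeg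
    have hle : m i ≤ 1 := by
      by_contra h2
      have h3 : ∑ _j : Fin r, 1 < ∑ j, m j :=
        Finset.sum_lt_sum (fun j _ => h j) ⟨i, Finset.mem_univ i, not_le.1 h2⟩
      simp at h3
      omega
    exact le_antisymm hle (h i)
  · intro h
    rw [notMem_support_iff.1 h, zero_mul]

theorem mixedDiff_of_polyLT {f : (Fin r → ℕ) → ℚ} (h : PolyLT r f) : mixedDiff f = 0 := by
  obtain ⟨P, hP, hf⟩ := h
  rw [← coeff_ones_eq_mixedDiff (Finset.sup_le fun m hm => (hP m hm).le) hf]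
  exact coeff_ones_eq_zero hP

theorem mixedDiff_add (f g : (Fin r → ℕ) → ℚ) : mixedDiff (fun n => f n + g n) = mixedDiff f + mixedDiff g := by
  simp only [mixedDiff, mul_add, Finset.sum_add_distrib]

theorem mixedDiff_sum {ι : Type*} (s : Finset ι) (c : ι → ℚ) (g : ι → (Fin r → ℕ) → ℚ) :
    mixedDiff (fun n => ∑ x ∈ s, c x * g x n) = ∑ x ∈ s, c x * mixedDiff (g x) := by
  simp only [mixedDiff, Finset.mul_sum]
  rw [Finset.sum_comm]
  exact Finset.sum_congr rfl fun x _ => Finset.sum_congr rfl fun I _ => by ring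

theorem mixedDiff_intCast (f : (Fin r → ℕ) → ℤ) : ∃ z : ℤ, mixedDiff (fun n => (f n : ℚ)) = (z : ℚ) :=
  ⟨∑ I : Finset (Fin r), (-1 : ℤ) ^ (r - I.card) * f (ind I), by simp [mixedDiff]⟩

end Groth.Agent.NumPoly18
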