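import Groth.Agent.Lib.NumPoly18.Nakai
import Groth.Agent.Lib.AmpleFin18.PushEuler

/-!
# Growth of sections of powers
-/

set_option autoImplicit false
set_option linter.style.haveILetI false
set_option maxHeartbeats 800000
set_option backward.isDefEq.respectTransparency false

universe u

open CategoryTheory CategoryTheory.Limits AlgebraicGeometry TopologicalSpace Opposite

namespace Groth.Agent.NumPoly18

open Groth.Agent Groth.Agent.Snapper
open Groth.Agent.CurveCoh17 (hmap hequiv exact_hmap_hmap exact_hmap_hdelta finrank_eq_range_add_range hmap_f_injective)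

variable {X : Scheme.{u}} (k : Type u) [Field k] [X.Over (Spec (CommRingCat.of k))]
  [IsProper (X ↘ Spec (CommRingCat.of k))]

theorem finrank_h0_le_of_mono {M N : X.Modules} (φ : M ⟶ N) [Mono φ] (hN : Coh.IsCoh N) :
    Module.finrank k (Coh.HH X M 0) ≤ Module.finrank k (Coh.HH X N 0) := by
  haveI := CohFound.finite_HH_of_isProper (A := k) N hN 0
  have hS : (ShortComplex.mk φ (cokernel.π φ) (cokernel.condition _)).ShortExact :=
    { exact := ShortComplex.exact_cokernel φ }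
  exact LinearMap.finrank_le_finrank_of_injective (hmap_f_injective k hS)

theorem finrank_h0_le_of_shortExact {S : ShortComplex X.Modules} (hS : S.ShortExact) (h₁ : Coh.IsCoh S.X₁)
    (h₂ : Coh.IsCoh S.X₂) (h₃ : Coh.IsCoh S.X₃) :
    Module.finrank k (Coh.HH X S.X₂ 0) ≤ Module.finrank k (Coh.HH X S.X₁ 0) + Module.finrank k (Coh.HH X S.X₃ 0) := by
  haveI := CohFound.finite_HH_of_isProper (A := k) S.X₁ h₁ 0
  haveI := CohFound.finite_HH_of_isProper (A := k) S.X₂ h₂ 0
  haveI := CohFound.finite_HH_of_isProper (A := k) S.X₃ h₃ 0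
  rw [finrank_eq_range_add_range _ _ (exact_hmap_hmap k hS 0)]
  exact add_le_add (LinearMap.finrank_range_le _) (Submodule.finrank_le _)

/-- Powers of an ample module have at most `O(m^d)` sections. -/
theorem exists_h0_ample_bound {d : ℕ} (hd : topologicalKrullDim X ≤ (d : WithBot ℕ∞)) [Nonempty X]
    {A : X.Modules} (hA : CohB1.IsAmple A) :
    ∃ C : ℚ, 0 ≤ C ∧ ∀ n : ℕ,
      (Module.finrank k (Coh.HH X (CohB1.tensorPow A n) 0) : ℚ) ≤ C * ((n : ℚ) + 1) ^ d := by
  haveI : Nonempty (IrreducibleCloseds X) :=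
    ⟨⟨closure {Classical.arbitrary _}, isIrreducible_singleton.closure, isClosed_closure⟩⟩
  obtain ⟨e, he⟩ := AmpleFin18.mem_natCast_or_top (topologicalKrullDim X) d Order.krullDim_nonneg hd
  have hed : e ≤ d := by exact_mod_cast he ▸ hd
  obtain ⟨-, C, hC⟩ := asymptotic_rr k he hA
  set c := mixedDiff (chi k (fun _ : Fin e => A) (Coh.structureModule X)) / (e.factorial : ℚ)
  refine ⟨|c| + |C|, by positivity, fun n => ?_⟩
  have h1 : (1 : ℚ) ≤ (n : ℚ) + 1 := by simp
  have hb := (abs_le.1 (hC n)).2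
  have h2 : c * (n : ℚ) ^ e ≤ |c| * ((n : ℚ) + 1) ^ d :=
    (mul_le_mul_of_nonneg_right (le_abs_self c) (by positivity)).trans
      (mul_le_mul_of_nonneg_left ((pow_le_pow_left₀ (Nat.cast_nonneg n) (by simp) e).trans
        (pow_le_pow_right₀ h1 hed)) (abs_nonneg c))
  have h3 : C * ((n : ℚ) + 1) ^ (e - 1) ≤ |C| * ((n : ℚ) + 1) ^ d :=
    (mul_le_mul_of_nonneg_right (le_abs_self C) (by positivity)).trans
      (mul_le_mul_of_nonneg_left (pow_le_pow_right₀ h1 (by omega)) (abs_nonneg C))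
  linarith

/-- `h⁰(F ⊗ L^m) = O(m^d)`. -/
theorem exists_h0_bound {d : ℕ} (hd : topologicalKrullDim X ≤ (d : WithBot ℕ∞)) [Nonempty X] {A : X.Modules}
    (hA : CohB1.IsAmple A) {L : X.Modules} (hL : PicF.IsInvertible L) {F : X.Modules} (hF : Coh.IsCoh F) :
    ∃ C : ℚ, ∀ m : ℕ, (Module.finrank k (Coh.HH X (CohB1.tensorMod F (CohB1.tensorPow L m)) 0) : ℚ) ≤
      C * ((m : ℚ) + 1) ^ d := by
  haveI : IsNoetherian X := CohFound.isNoetherian_of_isProper (X ↘ (Spec (CommRingCat.of k)))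
  refine CohFound.holds_of_extensions
    (fun F => ∃ C : ℚ, ∀ m : ℕ, (Module.finrank k (Coh.HH X (CohB1.tensorMod F (CohB1.tensorPow L m)) 0) : ℚ) ≤
      C * ((m : ℚ) + 1) ^ d) (fun M N ⟨e⟩ ⟨C, hC⟩ => ⟨C, fun m => ?_⟩)
    (fun S hS a b c ⟨C₁, h₁⟩ ⟨C₃, h₃⟩ => ⟨C₁ + C₃, fun m => ?_⟩) (fun Z i hi hZ I ι hι hI => ?_) hF
  · rw [← (hequiv k (M2.tensorIso e (Iso.refl (CohB1.tensorPow L m))) 0).finrank_eq]
    exact hC m
  · have hT := M2.isInvertible_tensorPow hL m
    have hTc := isCoh_of_isInvertible hT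
    have h := finrank_h0_le_of_shortExact k (CurveCoh17.shortExact_tensorR hS (CohB1.tensorPow L m) (flat_stalk hT))
      (CurveCoh17.isCoh_tensor a hTc) (CurveCoh17.isCoh_tensor b hTc) (CurveCoh17.isCoh_tensor c hTc)
    have h' : (Module.finrank k (Coh.HH X (CohB1.tensorMod S.X₂ (CohB1.tensorPow L m)) 0) : ℚ) ≤
        (Module.finrank k (Coh.HH X (CohB1.tensorMod S.X₁ (CohB1.tensorPow L m)) 0) : ℚ) +
          (Module.finrank k (Coh.HH X (CohB1.tensorMod S.X₃ (CohB1.tensorPow L m)) 0) : ℚ) := by exact_mod_cast h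
    rw [add_mul]
    exact h'.trans (add_le_add (h₁ m) (h₃ m))
  -- ideals of integral closed subschemes
  haveI := hi
  haveI := hZ
  letI : Z.Over (Spec (CommRingCat.of k)) := ⟨i ≫ (X ↘ (Spec (CommRingCat.of k)))⟩
  haveI : IsProper (Z ↘ (Spec (CommRingCat.of k))) :=
    inferInstanceAs (IsProper (i ≫ (X ↘ (Spec (CommRingCat.of k)))))
  haveI : IsNoetherian Z := CohFound.isNoetherian_of_isProper (Z ↘ (Spec (CommRingCat.of k)))
  obtain ⟨D, hD, ⟨eD⟩⟩ := M2.exists_inverse hL
  obtain ⟨a, ha⟩ := RA.exists_globallyGenerated hA D (isCoh_of_isInvertible hD).1 (isCoh_of_isInvertible hD).2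
  let E := CohB1.tensorMod D (CohB1.tensorPow A a)
  have hE : PicF.IsInvertible E := M2.isInvertible_tensor hD (M2.isInvertible_tensorPow hA.1 a)
  obtain ⟨s, hs⟩ := RA.exists_gen_of_isGloballyGenerated hE (ha a le_rfl) (i (genericPoint Z))
  let A' := (Scheme.Modules.pullback i).obj (CohB1.tensorPow A a)
  let L' := (Scheme.Modules.pullback i).obj L
  let E' := (Scheme.Modules.pullback i).obj E
  have hL' : PicF.IsInvertible L' := Twist.isInvertible_pullback i hL
  have hE' : PicF.IsInvertible E' := Twist.isInvertible_pullback i hE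
  let s' : Coh.structureModule Z ⟶ E' := (PicLoc.pullbackStructureIso i).symm.hom ≫ (Scheme.Modules.pullback i).map s
  have hs' : genericPoint Z ∈ CohB1.genLocus E' s' := by
    rw [Amp.genLocus_pullback i hE s (PicLoc.pullbackStructureIso i).symm]
    exact hs
  let eEL : CohB1.tensorMod E' L' ≅ A' :=
    (M2.pullTensorIso i E L).symm ≪≫ (Scheme.Modules.pullback i).mapIso
      (M2.tensorIso (M2.tensorComm _ _) (Iso.refl L) ≪≫ M2.tensorAssoc _ _ _ ≪≫
        M2.tensorIso (Iso.refl _) (M2.tensorComm D L ≪≫ eD) ≪≫ M2.tensorRUnit _)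
  obtain ⟨C, hC0, hC⟩ := exists_h0_ample_bound k (X := Z) (d := d)
    (i.isEmbedding.isInducing.topologicalKrullDim_le.trans hd) (Amp.isAmple_pullback_of_isAffineHom i hA)
  refine ⟨C * ((a : ℚ) + 1) ^ d, fun m => ?_⟩
  have hLm := M2.isInvertible_tensorPow hL m
  let T := (Scheme.Modules.pullback i).obj (CohB1.tensorPow L m)
  have hT : PicF.IsInvertible T := Twist.isInvertible_pullback i hLm
  have hIT : Coh.IsQCoh (CohB1.tensorMod I T) := M2.isQCoh_tensor hI (isCoh_of_isInvertible hT).1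
  obtain ⟨ep⟩ := AmpleFin18.nonempty_HH_push (k := k) i rfl (CohB1.tensorMod I T) hIT 0
  have step1 : Module.finrank k (Coh.HH X (CohB1.tensorMod ((Coh.push i).obj I) (CohB1.tensorPow L m)) 0) =
      Module.finrank k (Coh.HH Z (CohB1.tensorMod I T) 0) :=
    (hequiv k (AmpleFin18.projIso i (CohB1.tensorPow L m) I hLm) 0).finrank_eq.trans ep.finrank_eq
  -- `I ⊗ T → T → (E ⊗ L)^m`
  haveI : Mono ι := hι
  have hm₁ : Mono ((M2.tensorR T).map ι) :=
    (CurveCoh17.shortExact_tensorR (S := ShortComplex.mk ι (cokernel.π ι) (cokernel.condition _))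
      { exact := ShortComplex.exact_cokernel ι } T (flat_stalk hT)).mono_f
  haveI := hm₁
  have h1 : Module.finrank k (Coh.HH Z (CohB1.tensorMod I T) 0) ≤
      Module.finrank k (Coh.HH Z (CohB1.tensorPow L' m) 0) := by
    rw [← (hequiv k (M2.tensorLUnit T ≪≫ M2.pullTensorPowIso i L m) 0).finrank_eq]
    exact finrank_h0_le_of_mono k ((M2.tensorR T).map ι)
      (CurveCoh17.isCoh_tensor (M1.isCoh_structureModule Z) (isCoh_of_isInvertible hT))
  have hEm : PicF.IsInvertible (CohB1.tensorPow E' m) := M2.isInvertible_tensorPow hE' m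
  obtain ⟨t, ht⟩ : ∃ t : Coh.structureModule Z ⟶ CohB1.tensorPow E' m,
      genericPoint Z ∈ CohB1.genLocus _ t := by
    rcases m with _ | m
    · exact ⟨𝟙 _, by rw [CurveAmple18.genLocus_eq_top_of_isIso]; trivial⟩
    · obtain ⟨t, ht⟩ := ((Amp.hasSec_of_iso (M2.tensorPowOne E').symm s').powPow hE' m).of_eq
        (show 1 * (m + 1) = m + 1 by omega)
      exact ⟨t, ht ▸ hs'⟩
  have ht0 : Amp.gval t ≠ 0 := fun h0 => by
    have hg := (Amp.mem_genLocus_iff hEm t).1 ht
    rw [h0, show Amp.gm (CohB1.tensorPow E' m) (genericPoint Z) (U := ⊤) trivial 0 = 0 from map_zero _] at hg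
    exact Amp.not_gen_zero hEm _ hg
  haveI : Mono t := by
    rw [← Amp.secHom_gval t]
    exact (M1.mono_iff_stalk _).2 (CurveCoh17.injective_stalk_secHom
      ((M2.isInvertible_iff_isFinLocFreeOfRank_one _).1 hEm) ht0)
  let U := CohB1.tensorPow L' m
  have hU : PicF.IsInvertible U := M2.isInvertible_tensorPow hL' m
  have hm₂ : Mono ((M2.tensorR U).map t) :=
    (CurveCoh17.shortExact_tensorR (S := ShortComplex.mk t (cokernel.π t) (cokernel.condition _))
      { exact := ShortComplex.exact_cokernel t } U (flat_stalk hU)).mono_f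
  haveI := hm₂
  have h2 : Module.finrank k (Coh.HH Z U 0) ≤
      Module.finrank k (Coh.HH Z (CohB1.tensorPow ((Scheme.Modules.pullback i).obj A) (a * m)) 0) := by
    rw [← (hequiv k (M2.tensorLUnit U) 0).finrank_eq,
      ← (hequiv k ((M2.tensorPowMul E' L' m).symm ≪≫ M2.tensorPowIso eEL m ≪≫
        M2.tensorPowIso (M2.pullTensorPowIso i A a) m ≪≫ M2.tensorPowPow _ a m) 0).finrank_eq]
    exact finrank_h0_le_of_mono k ((M2.tensorR U).map t)
      (CurveCoh17.isCoh_tensor (isCoh_of_isInvertible hEm) (isCoh_of_isInvertible hU))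
  rw [step1]
  refine le_trans (Nat.cast_le.2 (h1.trans h2)) ((hC (a * m)).trans ?_)
  rw [mul_assoc, ← mul_pow]
  refine mul_le_mul_of_nonneg_left (pow_le_pow_left₀ (by positivity) ?_ d) hC0
  push_cast
  nlinarith [(Nat.cast_nonneg a : (0 : ℚ) ≤ a), (Nat.cast_nonneg m : (0 : ℚ) ≤ m)]

end Groth.Agent.NumPoly18
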