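import Groth.Agent.Lib.NumPoly18.LinPencil
import Groth.Agent.Lib.Twist.Tensor

/-!
# Negative twists of a module without closed associated points
-/

set_option autoImplicit false
set_option linter.style.haveILetI false
set_option maxHeartbeats 1600000
set_option backward.isDefEq.respectTransparency false

universe u

open CategoryTheory CategoryTheory.Limits AlgebraicGeometry TopologicalSpace Opposite

namespace Groth.Agent.NumPoly18

open Groth.Agent
open Groth.Agent.CurveCoh17 (hequiv)

variable {k : Type u} [Field k] {N : ℕ}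

noncomputable def twistUpIso (a : ℤ) :
    CohB1.tensorMod (_root_.Twist.twistProjSpace N k a) (_root_.Twist.twistProjSpace N k 1) ≅
      _root_.Twist.twistProjSpace N k (a + 1) :=
  (Twist.nonempty_tensor_iso (CohB1.polyGrading N k) a 1 (Twist.iSup_basicOpen_one N k)).some

/-- One more negative twist. -/
theorem h0_twist_step [IsAlgClosed k] {F : (CohB1.ProjSpace N k).Modules} (hF : Coh.IsCoh F)
    (hass : ∀ x : CohB1.ProjSpace N k, Curv2.IsAssPoint F x → ¬ IsClosed ({x} : Set (CohB1.ProjSpace N k)))
    (a : ℤ) :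
    Module.finrank k (Coh.HH (CohB1.ProjSpace N k) (CohB1.tensorMod F (_root_.Twist.twistProjSpace N k a)) 0) ≤
      Module.finrank k (Coh.HH (CohB1.ProjSpace N k) (CohB1.tensorMod F (_root_.Twist.twistProjSpace N k (a + 1))) 0) - 1 := by
  haveI : IsProper (CohB1.ProjSpace N k ↘ Spec (CommRingCat.of k)) := ProjSpace.isProper_toSpec N k
  haveI : IsNoetherian (CohB1.ProjSpace N k) :=
    CohFound.isNoetherian_of_isProper (CohB1.ProjSpace N k ↘ Spec (CommRingCat.of k))
  have hI := Twist.isInvertible_twistProjSpace N k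
  exact h0_twist_le (M2.tensorAssoc F _ _ ≪≫ M2.tensorIso (Iso.refl F) (twistUpIso a))
    (CurveCoh17.isCoh_tensor hF (Snapper.isCoh_of_isInvertible (hI a)))
    (CurveCoh17.isCoh_tensor hF (Snapper.isCoh_of_isInvertible (hI (a + 1))))
    (fun x hx => hass x (NegTwist18.isAssPoint_of_tensor (hI a) hx))

noncomputable def twistZeroTensorIso (F : (CohB1.ProjSpace N k).Modules) :
    CohB1.tensorMod F (_root_.Twist.twistProjSpace N k 0) ≅ F :=
  M2.tensorIso (Iso.refl F) (Twist.nonempty_twist_zero_iso (CohB1.polyGrading N k)).some ≪≫ M2.tensorRUnit F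

theorem finrank_twist_zero (F : (CohB1.ProjSpace N k).Modules) :
    Module.finrank k (Coh.HH (CohB1.ProjSpace N k) (CohB1.tensorMod F (_root_.Twist.twistProjSpace N k 0)) 0) =
      Module.finrank k (Coh.HH (CohB1.ProjSpace N k) F 0) :=
  (hequiv k (twistZeroTensorIso F) 0).finrank_eq

theorem h0_twist_neg_le [IsAlgClosed k] {F : (CohB1.ProjSpace N k).Modules} (hF : Coh.IsCoh F)
    (hass : ∀ x : CohB1.ProjSpace N k, Curv2.IsAssPoint F x → ¬ IsClosed ({x} : Set (CohB1.ProjSpace N k)))
    (j : ℕ) :
    Module.finrank k (Coh.HH (CohB1.ProjSpace N k) (CohB1.tensorMod F (_root_.Twist.twistProjSpace N k (-(j : ℤ)))) 0) ≤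
      Module.finrank k (Coh.HH (CohB1.ProjSpace N k) F 0) - j := by
  induction j with
  | zero => simpa using (finrank_twist_zero F).le
  | succ j ih =>
    have h := h0_twist_step hF hass (-((j + 1 : ℕ) : ℤ))
    rw [show -((j + 1 : ℕ) : ℤ) + 1 = -(j : ℤ) by push_cast; ring] at h
    omega

end Groth.Agent.NumPoly18
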