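import Groth.Prelude.Def_NumR
import Groth.Agent.Lib.AlgEquiv22.Ample
import Groth.Agent.Lib.TensorMod.Dual

/-!
# The real Néron–Severi space

Classes of tensor products, rational classes are dense, and the ample cone is open.
-/

set_option autoImplicit false
set_option linter.style.haveILetI false
set_option maxHeartbeats 800000
set_option backward.isDefEq.respectTransparency false

universe u

open CategoryTheory AlgebraicGeometry

namespace Groth.Agent.N1R

open Groth.Agent NumR

variable {k : Type u} [Field k] {X : Scheme.{u}} [X.Over (Spec (CommRingCat.of k))] [PicGrp.Law X]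

theorem clR_congr {L M : X.Modules} (hL : PicF.IsInvertible L) (hM : PicF.IsInvertible M) (e : L ≅ M) :
    clR k X L hL = clR k X M hM := by
  rw [clR, clR, cl, cl, (PicGrp.cls_eq_cls_iff hL hM).2 ⟨e⟩]

theorem clR_tensor {L M : X.Modules} (hL : PicF.IsInvertible L) (hM : PicF.IsInvertible M) :
    clR k X (CohB1.tensorMod L M) (M2.isInvertible_tensor hL hM) = clR k X L hL + clR k X M hM := by
  have h : PicGrp.cls (CohB1.tensorMod L M) (M2.isInvertible_tensor hL hM) = PicGrp.cls L hL * PicGrp.cls M hM :=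
    Subtype.ext (by rw [PicGrp.cls_val, PicGrp.cls_mul_cls_val])
  rw [clR, clR, clR, cl, cl, cl, h, ofMul_mul, map_add, map_add]

theorem clR_unit : clR k X (Coh.structureModule X) (PicLoc.isInvertible_structureModule X) = 0 := by
  rw [clR, cl, PicGrp.cls_structureModule_eq_one, ofMul_one, map_zero, map_zero]

theorem clR_inverse {L M : X.Modules} (hL : PicF.IsInvertible L) (hM : PicF.IsInvertible M)
    (e : CohB1.tensorMod L M ≅ Coh.structureModule X) : clR k X M hM = - clR k X L hL :=
  eq_neg_of_add_eq_zero_right (by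
    rw [← clR_tensor hL hM, clR_congr _ (PicLoc.isInvertible_structureModule X) e, clR_unit])

theorem clR_pow {L : X.Modules} (hL : PicF.IsInvertible L) : ∀ n : ℕ,
    clR k X (CohB1.tensorPow L n) (M2.isInvertible_tensorPow hL n) = (n : ℝ) • clR k X L hL
  | 0 => by rw [Nat.cast_zero, zero_smul]; exact clR_unit
  | n + 1 => by
    rw [show clR k X (CohB1.tensorPow L (n + 1)) (M2.isInvertible_tensorPow hL (n + 1)) =
      clR k X (CohB1.tensorMod (CohB1.tensorPow L n) L) (M2.isInvertible_tensor (M2.isInvertible_tensorPow hL n) hL)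
        from rfl, clR_tensor (M2.isInvertible_tensorPow hL n) hL, clR_pow hL n, Nat.cast_succ, add_smul, one_smul]

theorem exists_zsmul {L : X.Modules} (hL : PicF.IsInvertible L) (a : ℤ) :
    ∃ (M : X.Modules) (hM : PicF.IsInvertible M), clR k X M hM = (a : ℝ) • clR k X L hL := by
  obtain ⟨n, rfl | rfl⟩ := Int.eq_nat_or_neg a
  · exact ⟨_, M2.isInvertible_tensorPow hL n, by rw [clR_pow hL n, Int.cast_natCast]⟩
  · obtain ⟨L', hL', ⟨e⟩⟩ := M2.exists_inverse hL
    exact ⟨_, M2.isInvertible_tensorPow hL' n, by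
      rw [clR_pow hL' n, clR_inverse hL hL' e, Int.cast_neg, Int.cast_natCast, neg_smul, smul_neg]⟩

theorem exists_sum_zsmul {m : ℕ} (e : Fin m → X.Modules) (he : ∀ j, PicF.IsInvertible (e j)) (a : Fin m → ℤ) :
    ∃ (M : X.Modules) (hM : PicF.IsInvertible M),
      clR k X M hM = ∑ j, (a j : ℝ) • clR k X (e j) (he j) := by
  induction m with
  | zero => exact ⟨_, PicLoc.isInvertible_structureModule X, by simp [clR_unit]⟩
  | succ m ih =>
    obtain ⟨M, hM, hMe⟩ := ih (fun j => e j.castSucc) (fun j => he _) (fun j => a j.castSucc)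
    obtain ⟨U, hU, hUe⟩ := exists_zsmul (k := k) (he (Fin.last m)) (a (Fin.last m))
    exact ⟨_, M2.isInvertible_tensor hM hU, by rw [clR_tensor hM hU, hMe, hUe, Fin.sum_univ_castSucc]⟩

/-- Induction on real classes. -/
theorem ind_clR {P : N1R k X → Prop} (h0 : P 0) (hadd : ∀ x y, P x → P y → P (x + y))
    (hsmul : ∀ (c : ℝ) (L : X.Modules) (hL : PicF.IsInvertible L), P (c • clR k X L hL)) (x : N1R k X) : P x := by
  have hx : x ∈ Submodule.span ℝ {x : N1R k X | ∃ (L : X.Modules) (hL : PicF.IsInvertible L), x = clR k X L hL} :=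
    span_clR (k := k) (X := X) ▸ Submodule.mem_top
  suffices ∀ c : ℝ, P (c • x) by simpa using this 1
  induction hx using Submodule.span_induction with
  | mem z hz => obtain ⟨L, hL, rfl⟩ := hz; exact fun c => hsmul c L hL
  | zero => exact fun c => by simpa using h0
  | add a b _ _ ha hb => exact fun c => by rw [smul_add]; exact hadd _ _ (ha c) (hb c)
  | smul r a _ ha => exact fun c => by rw [smul_smul]; exact ha _

/-- Linear maps are determined on the classes of modules. -/
theorem lin_ext {N : Type*} [AddCommGroup N] [Module ℝ N] {f g : N1R k X →ₗ[ℝ] N}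
    (h : ∀ (L : X.Modules) (hL : PicF.IsInvertible L), f (clR k X L hL) = g (clR k X L hL)) : f = g :=
  LinearMap.ext_on span_clR (by rintro _ ⟨L, hL, rfl⟩; exact h L hL)

/-- A finite family of classes of modules spanning the space. -/
theorem exists_gen [Module.Finite ℝ (N1R k X)] :
    ∃ (m : ℕ) (e : Fin m → X.Modules) (he : ∀ j, PicF.IsInvertible (e j)),
      Function.Surjective (Fintype.linearCombination ℝ fun j => clR k X (e j) (he j)) := by
  classical
  obtain ⟨T, hTS, hT⟩ := (Submodule.fg_span_iff_fg_span_finset_subset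
    {x : N1R k X | ∃ (L : X.Modules) (hL : PicF.IsInvertible L), x = clR k X L hL}).1
    (by rw [span_clR]; exact Module.Finite.fg_top)
  have h : ∀ t : T, ∃ (L : X.Modules) (hL : PicF.IsInvertible L), (t : N1R k X) = clR k X L hL := fun t =>
    hTS t.2
  choose L hL hLe using h
  let σ := T.equivFin
  refine ⟨T.card, fun j => L (σ.symm j), fun j => hL _, ?_⟩
  rw [← LinearMap.range_eq_top, Fintype.range_linearCombination, eq_top_iff, ← span_clR, hT]
  refine Submodule.span_mono fun t ht => ⟨σ ⟨t, ht⟩, ?_⟩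
  simp only [Equiv.symm_apply_apply]
  exact (hLe ⟨t, ht⟩).symm

variable (k X) in
/-- The rational classes. -/
def ratClasses : Set (N1R k X) :=
  {x | ∃ (n : ℕ) (L : X.Modules) (hL : PicF.IsInvertible L), 0 < n ∧ x = ((n : ℝ)⁻¹) • clR k X L hL}

/-- Rational classes are dense. -/
theorem dense_ratClasses [Module.Finite ℝ (N1R k X)] : Dense (ratClasses k X) := by
  obtain ⟨m, e, he, hsurj⟩ := exists_gen (k := k) (X := X)
  have hc : Continuous (Fintype.linearCombination ℝ fun j => clR k X (e j) (he j)) :=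
    IsModuleTopology.continuous_of_linearMap _
  refine Dense.mono ?_ (hsurj.denseRange.comp (DenseRange.piMap fun _ : Fin m => Rat.denseRange_cast (𝕜 := ℝ)) hc)
  rintro _ ⟨q, rfl⟩
  let n := ∏ j, (q j).den
  have hn : 0 < n := Finset.prod_pos fun j _ => (q j).den_pos
  have h : ∀ j, ∃ a : ℤ, (q j : ℝ) * n = a := fun j => by
    obtain ⟨c, hc⟩ := Finset.dvd_prod_of_mem (fun j => (q j).den) (Finset.mem_univ j)
    refine ⟨(q j).num * c, ?_⟩
    have h1 : ((q j) : ℚ) * (q j).den = (q j).num := Rat.mul_den_eq_num _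
    have h2 : ((q j : ℚ) : ℝ) * ((q j).den : ℝ) = ((q j).num : ℝ) := by exact_mod_cast congrArg (Rat.cast : ℚ → ℝ) h1
    rw [show (n : ℝ) = ((q j).den : ℝ) * (c : ℝ) from by exact_mod_cast congrArg (Nat.cast : ℕ → ℝ) hc, ← mul_assoc, h2]
    push_cast
    rfl
  choose a ha using h
  obtain ⟨M, hM, hMe⟩ := exists_sum_zsmul (k := k) e he a
  refine ⟨n, M, hM, hn, ?_⟩
  simp only [Function.comp_apply, Fintype.linearCombination_apply, Pi.map_apply, hMe, Finset.smul_sum, smul_smul, ← ha]
  refine Finset.sum_congr rfl fun j _ => ?_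
  congr 1
  field_simp

theorem clR_mem_ampleCone {A : X.Modules} (hA : CohB1.IsAmple A) : clR k X A hA.1 ∈ ampleCone k X :=
  ConvexCone.subset_hull ⟨A, hA.1, hA, rfl⟩

theorem ampleCone_induction {P : N1R k X → Prop}
    (hgen : ∀ (A : X.Modules) (hA : CohB1.IsAmple A) (t : ℝ), 0 < t → P (t • clR k X A hA.1))
    (hadd : ∀ x y, x ∈ ampleCone k X → y ∈ ampleCone k X → P x → P y → P (x + y)) {x : N1R k X}
    (hx : x ∈ ampleCone k X) : P x := by
  let C : ConvexCone ℝ (N1R k X) :=
    { carrier := {x | x ∈ ampleCone k X ∧ ∀ t : ℝ, 0 < t → P (t • x)}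
      smul_mem' := fun c hc x hx => ⟨(ampleCone k X).smul_mem hc hx.1, fun t ht => by
        rw [smul_smul]; exact hx.2 _ (mul_pos ht hc)⟩
      add_mem' := fun x hx y hy => ⟨(ampleCone k X).add_mem hx.1 hy.1, fun t ht => by
        rw [smul_add]
        exact hadd _ _ ((ampleCone k X).smul_mem ht hx.1) ((ampleCone k X).smul_mem ht hy.1) (hx.2 t ht) (hy.2 t ht)⟩ }
  have h : ampleCone k X ≤ C := ConvexCone.hull_min (by
    rintro _ ⟨L, hL, hA, rfl⟩
    exact ⟨clR_mem_ampleCone hA, fun t ht => hgen L hA t ht⟩)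
  simpa using (h hx).2 1 one_pos

/-- An element of the ample cone is a positive multiple of an ample class plus an element of the cone or zero. -/
theorem exists_split {x : N1R k X} (hx : x ∈ ampleCone k X) :
    ∃ (A : X.Modules) (hA : CohB1.IsAmple A) (t : ℝ), 0 < t ∧
      (x - t • clR k X A hA.1 = 0 ∨ x - t • clR k X A hA.1 ∈ ampleCone k X) := by
  refine ampleCone_induction (P := fun x => ∃ (A : X.Modules) (hA : CohB1.IsAmple A) (t : ℝ), 0 < t ∧
      (x - t • clR k X A hA.1 = 0 ∨ x - t • clR k X A hA.1 ∈ ampleCone k X))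
    (fun A hA t ht => ⟨A, hA, t, ht, Or.inl (sub_self _)⟩) ?_ hx
  rintro a b - hb ⟨A, hA, t, ht, h⟩ -
  refine ⟨A, hA, t, ht, Or.inr ?_⟩
  rw [add_sub_right_comm]
  rcases h with h | h
  · rw [h, zero_add]; exact hb
  · exact (ampleCone k X).add_mem h hb

/-- The ample cone is open. -/
theorem isOpen_ampleCone [Module.Finite ℝ (N1R k X)] : IsOpen (ampleCone k X : Set (N1R k X)) := by
  obtain ⟨m, e, he, hsurj⟩ := exists_gen (k := k) (X := X)
  set φ := Fintype.linearCombination ℝ fun j => clR k X (e j) (he j) with hφ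
  rw [isOpen_iff_mem_nhds]
  intro x hx
  obtain ⟨A, hA, t, ht, hrest⟩ := exists_split hx
  choose e' he' hee using fun j => M2.exists_inverse (he j)
  choose n₁ hn₁ h₁ using fun j => AlgEquiv22.exists_isAmple_tensorPow_tensor hA (he j)
  choose n₂ hn₂ h₂ using fun j => AlgEquiv22.exists_isAmple_tensorPow_tensor hA (he' j)
  -- a small neighbourhood of zero in the coordinates
  let U : Set (Fin m → ℝ) := {δ | (∑ j, ((n₁ j : ℝ) + n₂ j) * |δ j|) < t}
  have hUo : IsOpen U := isOpen_lt (by fun_prop) continuous_const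
  have hmap : IsOpenMap fun δ => x + φ δ :=
    (Homeomorph.addLeft x).isOpenMap.comp (IsModuleTopology.isOpenQuotientMap_of_surjective hsurj).isOpenMap
  refine Filter.mem_of_superset ((hmap U hUo).mem_nhds ⟨0, by simpa [U] using ht, by simp⟩) ?_
  rintro _ ⟨δ, hδ, rfl⟩
  have key : ∀ j, δ j • clR k X (e j) (he j) +
      (((n₁ j : ℝ) + n₂ j) * |δ j|) • clR k X A hA.1 = 0 ∨ δ j • clR k X (e j) (he j) +
      (((n₁ j : ℝ) + n₂ j) * |δ j|) • clR k X A hA.1 ∈ ampleCone k X := by
    intro j
    rcases lt_trichotomy (δ j) 0 with h | h | h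
    · refine Or.inr ?_
      have h' := (ampleCone k X).add_mem ((ampleCone k X).smul_mem (neg_pos.2 h) (clR_mem_ampleCone (k := k) (h₂ j)))
        ((ampleCone k X).smul_mem (show (0 : ℝ) < (n₁ j : ℝ) * (- δ j) from
          mul_pos (Nat.cast_pos.2 (hn₁ j)) (neg_pos.2 h)) (clR_mem_ampleCone (k := k) hA))
      convert h' using 1
      rw [clR_tensor (M2.isInvertible_tensorPow hA.1 _) (he' j), clR_pow hA.1, clR_inverse (he j) (he' j) (hee j).some,
        abs_of_neg h]
      simp only [smul_add, smul_smul, neg_smul, smul_neg, neg_neg]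
      module
    · left; simp [h]
    · refine Or.inr ?_
      have h' := (ampleCone k X).add_mem ((ampleCone k X).smul_mem h (clR_mem_ampleCone (k := k) (h₁ j)))
        ((ampleCone k X).smul_mem (show (0 : ℝ) < (n₂ j : ℝ) * δ j from
          mul_pos (Nat.cast_pos.2 (hn₂ j)) h) (clR_mem_ampleCone (k := k) hA))
      convert h' using 1
      rw [clR_tensor (M2.isInvertible_tensorPow hA.1 _) (he j), clR_pow hA.1, abs_of_pos h]
      module
  have hsum : ∀ S : Finset (Fin m), ∑ j ∈ S, (δ j • clR k X (e j) (he j) +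
      (((n₁ j : ℝ) + n₂ j) * |δ j|) • clR k X A hA.1) = 0 ∨ ∑ j ∈ S, (δ j • clR k X (e j) (he j) +
      (((n₁ j : ℝ) + n₂ j) * |δ j|) • clR k X A hA.1) ∈ ampleCone k X := by
    intro S
    induction S using Finset.induction_on with
    | empty => left; simp
    | insert a S ha ih =>
      rw [Finset.sum_insert ha]
      rcases key a with h | h
      · rw [h, zero_add]; exact ih
      · rcases ih with h' | h'
        · rw [h', add_zero]; exact Or.inr h
        · exact Or.inr ((ampleCone k X).add_mem h h')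
  have hpos := (ampleCone k X).smul_mem (sub_pos.2 hδ) (clR_mem_ampleCone (k := k) hA)
  have e1 : x + φ δ = (x - t • clR k X A hA.1) + (∑ j, (δ j • clR k X (e j) (he j) +
      (((n₁ j : ℝ) + n₂ j) * |δ j|) • clR k X A hA.1) +
      (t - ∑ j, ((n₁ j : ℝ) + n₂ j) * |δ j|) • clR k X A hA.1) := by
    rw [Finset.sum_add_distrib, ← Finset.sum_smul, hφ, Fintype.linearCombination_apply]
    module
  show x + φ δ ∈ ampleCone k X
  rw [e1]
  have h2 : ∑ j, (δ j • clR k X (e j) (he j) + (((n₁ j : ℝ) + n₂ j) * |δ j|) • clR k X A hA.1) +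
      (t - ∑ j, ((n₁ j : ℝ) + n₂ j) * |δ j|) • clR k X A hA.1 ∈ ampleCone k X := by
    rcases hsum Finset.univ with h | h
    · rw [h, zero_add]; exact hpos
    · exact (ampleCone k X).add_mem h hpos
  rcases hrest with h | h
  · rw [h, zero_add]; exact h2
  · exact (ampleCone k X).add_mem h h2

end Groth.Agent.N1R
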