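import Groth.Agent.Lib.NumPoly18.BigNef

/-!
# Numerical dimension bounds the growth of sections
-/

set_option autoImplicit false
set_option linter.style.haveILetI false
set_option maxHeartbeats 1600000
set_option backward.isDefEq.respectTransparency false

universe u

open CategoryTheory CategoryTheory.Limits AlgebraicGeometry TopologicalSpace Opposite

namespace Groth.Agent.NumPoly18

open Groth.Agent Groth.Agent.Snapper
open Groth.Agent.CurveCoh17 (hequiv)

variable {X : Scheme.{u}} {k : Type u} [Field k] [X.Over (Spec (CommRingCat.of k))]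

variable (k) in
/-- `c₁(L)^(p+1)` vanishes on the subvarieties of dimension `p + 1`. -/
def NTriv (p : ℕ) (L : X.Modules) : Prop :=
  ∀ (V : Scheme.{u}) (i : V ⟶ X) [IsClosedImmersion i], IsIntegral V →
    topologicalKrullDim V = ((p + 1 : ℕ) : WithBot ℕ∞) →
    md k (fun _ : Fin (p + 1) => L) ((Scheme.Modules.pushforward i).obj (Coh.structureModule V)) = 0

variable [IsProper (X ↘ Spec (CommRingCat.of k))]

theorem NTriv.pullback {Y : Scheme.{u}} [Y.Over (Spec (CommRingCat.of k))] (j : Y ⟶ X) [IsClosedImmersion j]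
    (hj : j ≫ (X ↘ Spec (CommRingCat.of k)) = Y ↘ Spec (CommRingCat.of k)) {p : ℕ} {L : X.Modules}
    (hL : PicF.IsInvertible L) (h : NTriv k p L) : NTriv k p ((Scheme.Modules.pullback j).obj L) := by
  intro V i _ hV hd
  haveI : IsNoetherian X := CohFound.isNoetherian_of_isProper (X ↘ (Spec (CommRingCat.of k)))
  haveI : IsLocallyNoetherian Y := LocallyOfFiniteType.isLocallyNoetherian j
  haveI : IsLocallyNoetherian V := LocallyOfFiniteType.isLocallyNoetherian i
  rw [← md_push j hj (L := fun _ : Fin (p + 1) => L) (fun _ => hL)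
    (CohFound.isCoh_push_closedImm i (M1.isCoh_structureModule V)).1]
  exact (md_iso _ ((Scheme.Modules.pushforwardComp i j).app (Coh.structureModule V))).trans (h V (i ≫ j) hV hd)

/-- A numerically trivial power kills all higher self intersections of a nef module. -/
theorem md_eq_zero_of_nTriv : ∀ (r : ℕ) (X : Scheme.{u}) [X.Over (Spec (CommRingCat.of k))]
    [IsProper (X ↘ Spec (CommRingCat.of k))] (p : ℕ) (A L : X.Modules), CohB1.IsAmple A → PicF.IsInvertible L →
    Nef k L → NTriv k p L → p + 1 ≤ r → ∀ F : X.Modules, Coh.IsCoh F →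
    topologicalKrullDim (CohB1.support F) ≤ (r : WithBot ℕ∞) → md k (fun _ : Fin r => L) F = 0 := by
  intro r
  induction r with
  | zero => intro X _ _ p A L _ _ _ _ hp; omega
  | succ r IH =>
    intro X _ _ p A L hA hL hn hNT hp F hF hFd
    haveI : IsNoetherian X := CohFound.isNoetherian_of_isProper (X ↘ (Spec (CommRingCat.of k)))
    refine md_rel_of_integral k (fun a _ => a = 0) rfl (fun _ _ _ _ a b => by rw [a, b, add_zero])
      (fun _ _ _ _ a => by rw [a, mul_zero]) (L := fun _ : Fin (r + 1) => L) (L' := fun _ : Fin (r + 1) => L)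
      (fun _ => hL) (fun _ => hL) (fun ξ hξ => ?_) hF hFd
    let ι := (ptIdeal ξ).subschemeι
    letI : (ptIdeal ξ).subscheme.Over (Spec (CommRingCat.of k)) := ⟨ι ≫ (X ↘ (Spec (CommRingCat.of k)))⟩
    haveI : IsProper ((ptIdeal ξ).subscheme ↘ (Spec (CommRingCat.of k))) :=
      inferInstanceAs (IsProper (ι ≫ (X ↘ (Spec (CommRingCat.of k)))))
    haveI := (isIntegral_pt ξ).1
    haveI : IsNoetherian (ptIdeal ξ).subscheme :=
      CohFound.isNoetherian_of_isProper ((ptIdeal ξ).subscheme ↘ (Spec (CommRingCat.of k)))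
    have hY : topologicalKrullDim (ptIdeal ξ).subscheme = ((r + 1 : ℕ) : WithBot ℕ∞) :=
      (AmpleFin18.dim_subscheme _ (Scheme.IdealSheafData.coe_support_vanishingIdeal _)).trans hξ
    rcases hp.lt_or_eq with hlt | heq
    swap
    · obtain rfl : r = p := by omega
      exact hNT _ ι inferInstance hY
    show md k _ ((Scheme.Modules.pushforward ι).obj (Coh.structureModule (ptIdeal ξ).subscheme)) = 0
    rw [md_push ι rfl (fun _ => hL) (M1.isQCoh_structureModule _)]
    let B := (Scheme.Modules.pullback ι).obj A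
    let M := (Scheme.Modules.pullback ι).obj L
    have hB : CohB1.IsAmple B := Amp.isAmple_pullback_of_isAffineHom ι hA
    have hM : PicF.IsInvertible M := Twist.isInvertible_pullback ι hL
    have hMn : Nef k M := hn.pullback ι rfl hL
    have hO := M1.isCoh_structureModule (ptIdeal ξ).subscheme
    have hdO := dim_support_le hY.le (Coh.structureModule (ptIdeal ξ).subscheme)
    show md k (fun _ : Fin (r + 1) => M) (Coh.structureModule _) = 0
    obtain ⟨M', hM', ⟨e⟩⟩ := M2.exists_inverse hM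
    obtain ⟨a, ha⟩ := eventually_hasMonoSec k hB hM'
    have hBa := M2.isInvertible_tensorPow hB.1 a
    have hG := M2.isInvertible_tensor hM' hBa
    obtain ⟨N, Q, hN, hQ, hQd, hcut⟩ := exists_cut (k := k) hY.le hB
    have h0 : md k (Fin.cons B (fun _ : Fin r => M) : Fin (r + 1) → _) (Coh.structureModule _) = 0 := by
      have h1 := IH _ p B M hB hM hMn (hNT.pullback ι rfl hL) (by omega) Q hQ hQd
      rw [← hcut _ fun _ => hM] at h1
      exact (mul_eq_zero.1 h1).resolve_left (Nat.cast_ne_zero.2 hN.ne')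
    have eG : CohB1.tensorMod M (CohB1.tensorMod M' (CohB1.tensorPow B a)) ≅ CohB1.tensorPow B a :=
      (M2.tensorAssoc _ _ _).symm ≪≫ M2.tensorIso e (Iso.refl _) ≪≫ M2.tensorLUnit _
    have h2 := md_cons_tensor (k := k) hM hG (M := fun _ : Fin r => M) (fun _ => hM) hO hdO
    rw [md_congr (L := (Fin.cons (CohB1.tensorMod M (CohB1.tensorMod M' (CohB1.tensorPow B a))) (fun _ => M) :
        Fin (r + 1) → _)) (L' := (Fin.cons (CohB1.tensorPow B a) (fun _ => M) : Fin (r + 1) → _))
      (Fin.cases ⟨by simpa using eG⟩ fun j => ⟨Iso.refl _⟩), md_cons_pow hB.1 (fun _ => hM) hO hdO, h0,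
      mul_zero] at h2
    have h3 := md_cons_nonneg_of_hasMonoSec (k := k) hB hG (ha a le_rfl) hY.le (M := fun _ : Fin r => M)
      (fun _ => hM) fun _ => hMn
    have h4 := md_nonneg_of_nef (k := k) hB (M := fun _ : Fin (r + 1) => M) (fun _ => hM) (fun _ => hMn) hO hdO
    rw [const_eq_cons M (r := r)] at h4 ⊢
    linarith

variable (k) in
/-- The statement of the growth bound. -/
def BoundAt (p : ℕ) (F L : X.Modules) : Prop :=
  ∃ C : ℚ, ∀ t : ℕ, (Module.finrank k (Coh.HH X (CohB1.tensorMod F (CohB1.tensorPow L t)) 0) : ℚ) ≤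
    C * ((t : ℚ) + 1) ^ p

theorem boundAt_of_isZero {p : ℕ} {F L : X.Modules} (hF : IsZero F) : BoundAt k p F L := by
  refine ⟨0, fun t => ?_⟩
  have hz : IsZero (CohB1.tensorMod F (CohB1.tensorPow L t)) := (M2.tensorR (CohB1.tensorPow L t)).map_isZero hF
  haveI : Subsingleton (Coh.HH X (CohB1.tensorMod F (CohB1.tensorPow L t)) 0) :=
    ⟨fun x y => by
      rw [← CurveCoh17.hmap_id k _ 0 x, ← CurveCoh17.hmap_id k _ 0 y, hz.eq_of_src (𝟙 _) 0, CurveCoh17.hmap_zero,
        CurveCoh17.hmap_zero]⟩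
  simp [Module.finrank_zero_of_subsingleton]

/-- `h⁰(F ⊗ L^t) = O(t^p)` for a nef `L` with `c₁(L)^(p+1)` numerically trivial. -/
theorem boundAt_of_nTriv (p : ℕ) : ∀ (d : ℕ) (X : Scheme.{u}) [X.Over (Spec (CommRingCat.of k))]
    [IsProper (X ↘ Spec (CommRingCat.of k))] (A L : X.Modules), CohB1.IsAmple A → PicF.IsInvertible L →
    Nef k L → NTriv k p L → topologicalKrullDim X ≤ (d : WithBot ℕ∞) →
    ∀ F : X.Modules, Coh.IsCoh F → BoundAt k p F L := by
  intro d
  induction d using Nat.strong_induction_on with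
  | _ d IH =>
  intro X _ _ A L hA hL hn hNT hd F hF
  haveI : IsNoetherian X := CohFound.isNoetherian_of_isProper (X ↘ (Spec (CommRingCat.of k)))
  by_cases hne : Nonempty X
  swap
  · exact boundAt_of_isZero (isZero_of_support_empty (Set.eq_empty_of_forall_notMem fun x _ => hne ⟨x⟩))
  by_cases hdp : d ≤ p
  · exact exists_h0_bound k (hd.trans (Nat.cast_le.2 hdp)) hA hL hF
  obtain ⟨d', rfl⟩ : ∃ d', d = d' + 1 := ⟨d - 1, by omega⟩
  refine CohFound.holds_of_extensions (fun F => BoundAt k p F L) (fun M N ⟨e⟩ ⟨C, hC⟩ => ⟨C, fun m => ?_⟩)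
    (fun S hS a b c ⟨C₁, h₁⟩ ⟨C₃, h₃⟩ => ⟨C₁ + C₃, fun m => ?_⟩) (fun Z i hi hZ I ι hι hI => ?_) hF
  · rw [← (hequiv k (M2.tensorIso e (Iso.refl (CohB1.tensorPow L m))) 0).finrank_eq]
    exact hC m
  · have hT := M2.isInvertible_tensorPow hL m
    have hTc := isCoh_of_isInvertible hT
    have h := finrank_h0_le_of_shortExact k (CurveCoh17.shortExact_tensorR hS (CohB1.tensorPow L m) (flat_stalk hT))
      (CurveCoh17.isCoh_tensor a hTc) (CurveCoh17.isCoh_tensor b hTc) (CurveCoh17.isCoh_tensor c hTc)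
    rw [add_mul]
    exact le_trans (le_of_le_of_eq (Nat.cast_le.2 h) (Nat.cast_add _ _)) (add_le_add (h₁ m) (h₃ m))
  -- ideals of integral closed subschemes
  haveI := hi
  haveI := hZ
  letI : Z.Over (Spec (CommRingCat.of k)) := ⟨i ≫ (X ↘ (Spec (CommRingCat.of k)))⟩
  haveI : IsProper (Z ↘ (Spec (CommRingCat.of k))) :=
    inferInstanceAs (IsProper (i ≫ (X ↘ (Spec (CommRingCat.of k)))))
  haveI : IsNoetherian Z := CohFound.isNoetherian_of_isProper (Z ↘ (Spec (CommRingCat.of k)))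
  let A' := (Scheme.Modules.pullback i).obj A
  let L' := (Scheme.Modules.pullback i).obj L
  have hA' : CohB1.IsAmple A' := Amp.isAmple_pullback_of_isAffineHom i hA
  have hL' : PicF.IsInvertible L' := Twist.isInvertible_pullback i hL
  have hn' : Nef k L' := hn.pullback i rfl hL
  have hNT' : NTriv k p L' := hNT.pullback i rfl hL
  have hZd : topologicalKrullDim Z ≤ ((d' + 1 : ℕ) : WithBot ℕ∞) := i.isEmbedding.isInducing.topologicalKrullDim_le.trans hd
  suffices hb : BoundAt k p (Coh.structureModule Z) L' by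
    obtain ⟨C, hC⟩ := hb
    refine ⟨C, fun m => le_trans (Nat.cast_le.2 ?_) (hC m)⟩
    have hLm := M2.isInvertible_tensorPow hL m
    let T := (Scheme.Modules.pullback i).obj (CohB1.tensorPow L m)
    have hT : PicF.IsInvertible T := Twist.isInvertible_pullback i hLm
    obtain ⟨ep⟩ := AmpleFin18.nonempty_HH_push (k := k) i rfl (CohB1.tensorMod I T)
      (M2.isQCoh_tensor hI (isCoh_of_isInvertible hT).1) 0
    show Module.finrank k (Coh.HH X (CohB1.tensorMod ((Coh.push i).obj I) (CohB1.tensorPow L m)) 0) ≤ _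
    rw [(hequiv k (AmpleFin18.projIso i (CohB1.tensorPow L m) I hLm) 0).finrank_eq.trans ep.finrank_eq,
      ← (hequiv k (M2.tensorIso (Iso.refl (Coh.structureModule Z)) (M2.pullTensorPowIso i L m)) 0).finrank_eq]
    haveI : Mono ι := hι
    haveI : Mono ((M2.tensorR T).map ι) := (CurveCoh17.shortExact_tensorR (S := ShortComplex.mk ι (cokernel.π ι) (cokernel.condition _))
      { exact := ShortComplex.exact_cokernel ι } T (flat_stalk hT)).mono_f
    exact finrank_h0_le_of_mono k ((M2.tensorR T).map ι)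
      (CurveCoh17.isCoh_tensor (M1.isCoh_structureModule Z) (isCoh_of_isInvertible hT))
  haveI : Nonempty (IrreducibleCloseds Z) :=
    ⟨⟨closure {genericPoint Z}, isIrreducible_singleton.closure, isClosed_closure⟩⟩
  obtain ⟨e, he⟩ : ∃ e : ℕ, topologicalKrullDim Z = (e : WithBot ℕ∞) := by
    obtain ⟨e, he⟩ := AmpleFin18.mem_natCast_or_top (topologicalKrullDim Z) (d' + 1) Order.krullDim_nonneg hZd
    exact ⟨e, he⟩
  have hed : e ≤ d' + 1 := by exact_mod_cast he ▸ hZd
  rcases hed.lt_or_eq with hlt | rfl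
  · exact IH e hlt Z A' L' hA' hL' hn' hNT' he.le _ (M1.isCoh_structureModule Z)
  obtain ⟨q₀, hq₀⟩ := eventually_hasMonoSec k hA' (PicLoc.isInvertible_structureModule Z)
  let B := CohB1.tensorPow A' (q₀ + 1)
  have hB : PicF.IsInvertible B := M2.isInvertible_tensorPow hA'.1 _
  have hBamp : CohB1.IsAmple B := (Amp.isAmple_tensorPow_iff hA'.1 q₀.succ_pos).2 hA'
  obtain ⟨s, hs⟩ := (hq₀ (q₀ + 1) (Nat.le_succ _)).of_iso (M2.tensorLUnit _)
  haveI := hs
  let Q := cokernel s
  have hQ : Coh.IsCoh Q := M1.isCoh_cokernel (M1.isCoh_structureModule Z).1 (isCoh_of_isInvertible hB) s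
  have hη : genericPoint Z ∉ CohB1.support Q := (M1.notMem_support_iff _ _).2
    (CurveCoh17.eq_zero_stalk_cokernel _ _ (CurveCoh17.surjective_stalkLin_genericPoint
      (CurveCoh17.nonempty_stalk_equiv_structureModule _)
      (CurveCoh17.nonempty_stalk_equiv ((M2.isInvertible_iff_isFinLocFreeOfRank_one _).1 hB) _) _
      ((M1.mono_iff_stalk s).1 hs _)))
  obtain ⟨B', hB', ⟨eB⟩⟩ := M2.exists_inverse hB
  let Q' := CohB1.tensorMod Q B'
  have hQ' : Coh.IsCoh Q' := CurveCoh17.isCoh_tensor hQ (isCoh_of_isInvertible hB')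
  have hQd : topologicalKrullDim (CohB1.support Q') ≤ (d' : WithBot ℕ∞) :=
    dim_le_of_notMem (M1.isClosed_support hQ'.2) ((genericPoint_closure Z).symm ▸ Set.subset_univ _)
      (fun h => hη (support_tensor_subset _ _ h))
      ((Topology.IsInducing.subtypeVal.topologicalKrullDim_le).trans he.le)
  obtain ⟨C, hC⟩ : BoundAt k p Q' L' := by
    let J := M1.annSheaf hQ'.1 hQ'.2
    let j := J.subschemeι
    have := M1.isIso_unit_of_ker_smul j Q' hQ'.1 fun U a ha s => by
      rw [Scheme.IdealSheafData.ker_subschemeι, M1.annSheaf_ideal] at ha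
      exact Module.mem_annihilator.1 ha s
    have hr : (J.support : Set Z) = CohB1.support Q' := M1.support_annSheaf hQ'.1 hQ'.2
    letI : J.subscheme.Over (Spec (CommRingCat.of k)) := ⟨j ≫ (Z ↘ (Spec (CommRingCat.of k)))⟩
    haveI : IsProper (J.subscheme ↘ (Spec (CommRingCat.of k))) :=
      inferInstanceAs (IsProper (j ≫ (Z ↘ (Spec (CommRingCat.of k)))))
    have hQ₀ := M1.isCoh_pullback j hQ'
    obtain ⟨C, hC⟩ := IH d' (Nat.lt_succ_self d') J.subscheme _ _ (Amp.isAmple_pullback_of_isAffineHom j hA')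
      (Twist.isInvertible_pullback j hL') (hn'.pullback j rfl hL') (hNT'.pullback j rfl hL')
      ((AmpleFin18.dim_subscheme J hr).trans_le hQd) _ hQ₀
    refine ⟨C, fun t => le_of_eq_of_le ?_ (hC t)⟩
    have hLt := M2.isInvertible_tensorPow hL' t
    obtain ⟨ep⟩ := AmpleFin18.nonempty_HH_push (k := k) j rfl
      (CohB1.tensorMod ((Scheme.Modules.pullback j).obj Q') ((Scheme.Modules.pullback j).obj (CohB1.tensorPow L' t)))
      (M2.isQCoh_tensor hQ₀.1 (isCoh_of_isInvertible (Twist.isInvertible_pullback j hLt)).1) 0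
    let eu : Q' ≅ (Scheme.Modules.pushforward j).obj ((Scheme.Modules.pullback j).obj Q') :=
      asIso ((Scheme.Modules.pullbackPushforwardAdjunction j).unit.app Q')
    rw [← (hequiv k (M2.tensorIso (Iso.refl _) (M2.pullTensorPowIso j L' t)) 0).finrank_eq,
      ← ep.finrank_eq, ← (hequiv k (AmpleFin18.projIso j (CohB1.tensorPow L' t) _ hLt) 0).finrank_eq,
      (hequiv k (M2.tensorIso eu (Iso.refl (CohB1.tensorPow L' t))) 0).finrank_eq]
  refine ⟨C, fun t => le_trans (Nat.cast_le.2 ?_) (hC t)⟩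
  let T := CohB1.tensorPow L' t
  have hT : PicF.IsInvertible T := M2.isInvertible_tensorPow hL' t
  let W := CohB1.tensorMod B' T
  have hW : PicF.IsInvertible W := M2.isInvertible_tensor hB' hT
  have hW0 : Module.finrank k (Coh.HH Z W 0) = 0 := by
    by_contra h
    obtain ⟨φ, hφ⟩ := exists_mono_of_hasMonoSec (B := B) (C := T)
      (hasMonoSec_of_nontrivial k hW (Module.nontrivial_of_finrank_pos (Nat.pos_of_ne_zero h))) hB
      (M2.tensorComm _ _ ≪≫ (M2.tensorAssoc _ _ _).symm ≪≫ M2.tensorIso eB (Iso.refl _) ≪≫ M2.tensorLUnit _)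
    haveI := hφ
    exact (md_pos_of_mono he hBamp hL' hn' φ).ne' (md_eq_zero_of_nTriv (d' + 1) Z p A' L' hA' hL' hn' hNT'
      (by omega) _ (M1.isCoh_structureModule Z) (dim_support_le he.le _))
  have hS : (ShortComplex.mk s (cokernel.π s) (cokernel.condition _)).ShortExact :=
    { exact := ShortComplex.exact_cokernel s }
  have hWc := isCoh_of_isInvertible hW
  have h := finrank_h0_le_of_shortExact k (CurveCoh17.shortExact_tensorR hS W (flat_stalk hW))
    (CurveCoh17.isCoh_tensor (M1.isCoh_structureModule Z) hWc) (CurveCoh17.isCoh_tensor (isCoh_of_isInvertible hB) hWc)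
    (CurveCoh17.isCoh_tensor hQ hWc)
  rw [(hequiv k (M2.tensorLUnit T) 0).finrank_eq,
    ← (hequiv k ((M2.tensorAssoc B B' T).symm ≪≫ M2.tensorIso eB (Iso.refl T) ≪≫ M2.tensorLUnit T) 0).finrank_eq,
    (hequiv k (M2.tensorAssoc Q B' T) 0).finrank_eq]
  refine h.trans (le_of_eq ?_)
  show Module.finrank k (Coh.HH Z (CohB1.tensorMod (Coh.structureModule Z) W) 0) + _ = _
  rw [(hequiv k (M2.tensorLUnit W) 0).finrank_eq, hW0, zero_add]
  rfl

/-- No growth of order `p + 1`. -/
theorem not_growth_of_nTriv {p d : ℕ} (hd : topologicalKrullDim X ≤ (d : WithBot ℕ∞)) {A L : X.Modules}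
    (hA : CohB1.IsAmple A) (hL : PicF.IsInvertible L) (hn : Nef k L) (hNT : NTriv k p L) :
    ¬ ∃ ν a : ℕ, 0 < ν ∧ 0 < a ∧ ∀ μ : ℕ, 1 ≤ μ →
      μ ^ (p + 1) ≤ a * Module.finrank k (Coh.HH X (CohB1.tensorPow L (ν * μ)) 0) := by
  rintro ⟨ν, a, hν, ha, h⟩
  haveI : IsNoetherian X := CohFound.isNoetherian_of_isProper (X ↘ (Spec (CommRingCat.of k)))
  obtain ⟨C, hC⟩ := boundAt_of_nTriv p d X A L hA hL hn hNT hd _ (M1.isCoh_structureModule X)
  obtain ⟨μ, hμ⟩ := exists_nat_gt ((a : ℚ) * C * ((ν : ℚ) + 1) ^ p + 1)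
  have hC0 : 0 ≤ C := by simpa using le_trans (Nat.cast_nonneg _) (hC 0)
  have hμ1 : (1 : ℚ) ≤ (μ : ℚ) := le_trans (le_add_of_nonneg_left (by positivity)) hμ.le
  have h1 : ((μ : ℚ)) ^ (p + 1) ≤ (a : ℚ) * (C * ((((ν * μ : ℕ) : ℚ)) + 1) ^ p) := by
    refine le_trans ?_ (mul_le_mul_of_nonneg_left (hC (ν * μ)) (Nat.cast_nonneg a))
    rw [(hequiv k (M2.tensorLUnit (CohB1.tensorPow L (ν * μ))) 0).finrank_eq]
    exact_mod_cast h μ (by exact_mod_cast hμ1)
  have h2 : ((((ν * μ : ℕ) : ℚ)) + 1) ^ p ≤ ((ν : ℚ) + 1) ^ p * (μ : ℚ) ^ p := by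
    rw [← mul_pow]
    refine pow_le_pow_left₀ (by positivity) ?_ p
    push_cast
    linarith
  have h3 : ((μ : ℚ)) ^ (p + 1) ≤ ((a : ℚ) * C * ((ν : ℚ) + 1) ^ p) * (μ : ℚ) ^ p :=
    h1.trans (le_of_le_of_eq (mul_le_mul_of_nonneg_left (mul_le_mul_of_nonneg_left h2 hC0) (Nat.cast_nonneg a)) (by ring))
  rw [pow_succ'] at h3
  have := le_of_mul_le_mul_right h3 (by positivity)
  linarith

end Groth.Agent.NumPoly18
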