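import Groth.Agent.Lib.NumPoly18.SurfForm
import Groth.Agent.Lib.NumPoly18.SurfProj

/-!
# The Euler characteristic of numerically trivial modules on surfaces
-/

set_option autoImplicit false
set_option linter.style.haveILetI false
set_option maxHeartbeats 800000
set_option backward.isDefEq.respectTransparency false

universe u

open CategoryTheory CategoryTheory.Limits AlgebraicGeometry TopologicalSpace Opposite

namespace Groth.Agent.NumPoly18

open Groth.Agent Groth.Agent.Snapper

variable {X : Scheme.{u}} {k : Type u} [Field k] [X.Over (Spec (CommRingCat.of k))]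
  [IsProper (X ↘ Spec (CommRingCat.of k))]

omit [IsProper (X ↘ Spec (CommRingCat.of k))] in
/-- Riemann–Roch in additive form. -/
theorem euler_tensor_eq (A B : X.Modules) :
    (Curv2.euler k X (CohB1.tensorMod A B) : ℚ) =
      (Curv2.euler k X A : ℚ) + (Curv2.euler k X B : ℚ) - (Curv2.euler k X (Coh.structureModule X) : ℚ) +
        dot k A B := by
  have h := cdeg_eq (k := k) B (CohB1.tensorMod (Coh.structureModule X) A)
  have h' := cdeg_eq (k := k) B (Coh.structureModule X)
  rw [CurveCoh17.euler_iso (M2.tensorIso (M2.tensorLUnit A) (Iso.refl B)),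
    CurveCoh17.euler_iso (M2.tensorLUnit A)] at h
  rw [CurveCoh17.euler_iso (M2.tensorLUnit B)] at h'
  rw [dot, md_cons, ← cdeg, ← cdeg, h, h']
  ring

/-- A numerically trivial module has the Euler characteristic of the structure sheaf, one inequality. -/
theorem euler_le_of_numTriv [IsIntegral X] (hd : topologicalKrullDim X = ((2 : ℕ) : WithBot ℕ∞)) {H N : X.Modules}
    (hH : CohB1.IsAmple H) (hN : PicF.IsInvertible N)
    (h0 : ∀ M, PicF.IsInvertible M → dot k N M = 0) :
    Curv2.euler k X N ≤ Curv2.euler k X (Coh.structureModule X) := by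
  classical
  haveI : IsNoetherian X := CohFound.isNoetherian_of_isProper (X ↘ (Spec (CommRingCat.of k)))
  by_contra hlt
  push Not at hlt
  let c : ℚ := (Curv2.euler k X (Coh.structureModule X) : ℚ)
  have ha : (1 : ℚ) ≤ (Curv2.euler k X N : ℚ) - c := by
    have : (Curv2.euler k X (Coh.structureModule X) : ℚ) + 1 ≤ (Curv2.euler k X N : ℚ) := by exact_mod_cast hlt
    simp only [c]; linarith
  let b : ℚ := (Curv2.euler k X H : ℚ) - c
  let q : ℚ := dot k H H
  have hq : 0 < q := dot_self_pos hd hH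
  have hNp : ∀ n, PicF.IsInvertible (CohB1.tensorPow N n) := fun n => M2.isInvertible_tensorPow hN n
  have hHp : ∀ n, PicF.IsInvertible (CohB1.tensorPow H n) := fun n => M2.isInvertible_tensorPow hH.1 n
  have hpow : ∀ n : ℕ, (Curv2.euler k X (CohB1.tensorPow N n) : ℚ) = c + n * ((Curv2.euler k X N : ℚ) - c) := by
    intro n
    induction n with
    | zero =>
      rw [show CohB1.tensorPow N 0 = Coh.structureModule X from rfl]
      simp [c]
    | succ n ih =>
      rw [CurveCoh17.euler_iso (M2.tensorPowAdd N n 1 ≪≫ M2.tensorIso (Iso.refl _) (M2.tensorPowOne N)),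
        euler_tensor_eq, ih, dot_pow hd.le hN hN, h0 N hN]
      push_cast; ring
  have hHpow : ∀ n : ℕ, (Curv2.euler k X (CohB1.tensorPow H n) : ℚ) =
      c + n * b + (n : ℚ) * ((n : ℚ) - 1) / 2 * q := by
    intro n
    induction n with
    | zero =>
      rw [show CohB1.tensorPow H 0 = Coh.structureModule X from rfl]
      simp [c]
    | succ n ih =>
      rw [CurveCoh17.euler_iso (M2.tensorPowAdd H n 1 ≪≫ M2.tensorIso (Iso.refl _) (M2.tensorPowOne H)),
        euler_tensor_eq, ih, dot_pow hd.le hH.1 hH.1]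
      simp only [b, q]
      push_cast; ring
  obtain ⟨H', hH', ⟨e⟩⟩ := M2.exists_inverse hH.1
  let K : ℚ := (Module.finrank k (Coh.HH X H' 2) : ℚ)
  obtain ⟨n, hn⟩ := exists_nat_gt ((2 * b - q) ^ 2 / (8 * q) + |K| + |c|)
  have hn0 : 0 < n := by
    by_contra hz
    have : n = 0 := by omega
    subst this
    have : (0 : ℚ) ≤ (2 * b - q) ^ 2 / (8 * q) := by positivity
    linarith [abs_nonneg K, abs_nonneg c, show ((0 : ℕ) : ℚ) = 0 from Nat.cast_zero]
  let T : ℕ → X.Modules := fun j => CohB1.tensorMod (CohB1.tensorPow N n) (CohB1.tensorPow H j)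
  have hT : ∀ j, PicF.IsInvertible (T j) := fun j => M2.isInvertible_tensor (hNp n) (hHp j)
  obtain ⟨n₀, hn₀⟩ := eventually_hasMonoSec k hH (hNp n)
  have hex : ∃ j, HasMonoSec (T j) := ⟨n₀, hn₀ n₀ le_rfl⟩
  have h00 : ¬ HasMonoSec (T 0) := by
    intro hs
    have hs' : HasMonoSec (CohB1.tensorPow N n) := hs.of_iso (M2.tensorRUnit _)
    have hne : IsEmpty (CohB1.tensorPow N n ≅ Coh.structureModule X) := ⟨fun i => by
      have h := hpow n
      rw [CurveCoh17.euler_iso i] at h
      have : (0 : ℚ) < n * ((Curv2.euler k X N : ℚ) - c) := mul_pos (Nat.cast_pos.2 hn0) (by linarith)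
      simp only [c] at h this
      linarith⟩
    have h := dot_pos_of_hasMonoSec (k := k) hd hH (hNp n) hs' hne
    rw [dot_pow hd.le hN hH.1, h0 H hH.1, mul_zero] at h
    exact lt_irrefl _ h
  obtain ⟨i, hi⟩ : ∃ i, Nat.find hex = i + 1 := ⟨Nat.find hex - 1, by
    have : Nat.find hex ≠ 0 := fun h => h00 (h ▸ Nat.find_spec hex)
    omega⟩
  have hs : HasMonoSec (T (i + 1)) := hi ▸ Nat.find_spec hex
  have hns : ¬ HasMonoSec (T i) := Nat.find_min hex (by omega)
  obtain ⟨ψ, hψ⟩ := exists_mono_of_hasMonoSec hs hH' (C := T i)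
    (M2.tensorAssoc _ _ _ ≪≫ M2.tensorIso (Iso.refl _)
      (M2.tensorIso (M2.tensorPowAdd H i 1 ≪≫ M2.tensorIso (Iso.refl _) (M2.tensorPowOne H)) (Iso.refl H') ≪≫
        M2.tensorAssoc _ _ _ ≪≫ M2.tensorIso (Iso.refl _) e ≪≫ M2.tensorRUnit _))
  haveI := hψ
  have h2 : (Module.finrank k (Coh.HH X (T i) 2) : ℚ) ≤ K :=
    Nat.cast_le.2 (h2_le_of_mono (k := k) hd.le hH' (hT i) ψ)
  have h1 : Module.finrank k (Coh.HH X (T i) 0) = 0 := by
    by_contra hne
    exact hns (hasMonoSec_of_nontrivial k (hT i)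
      (Module.nontrivial_of_finrank_pos (R := k) (Nat.pos_of_ne_zero hne)))
  have h3 := (Int.cast_le (R := ℚ)).2 (euler_le_h0_add_h2 (k := k) hd.le (isCoh_of_isInvertible (hT i)))
  push_cast at h3
  rw [h1, euler_tensor_eq, hpow, hHpow, dot_pow hd.le hN (hHp i), h0 _ (hHp i)] at h3
  have h4 : - ((2 * b - q) ^ 2 / (8 * q)) ≤ (i : ℚ) * b + (i : ℚ) * ((i : ℚ) - 1) / 2 * q := by
    rw [neg_le_iff_add_nonneg', ← mul_nonneg_iff_of_pos_left (show (0 : ℚ) < 8 * q by positivity),
      mul_add, mul_div_cancel₀ _ (show (8 * q : ℚ) ≠ 0 by positivity)]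
    nlinarith [sq_nonneg (2 * (i : ℚ) * q + 2 * b - q)]
  have h5 : (n : ℚ) ≤ n * ((Curv2.euler k X N : ℚ) - c) := by nlinarith [(Nat.cast_nonneg n : (0 : ℚ) ≤ n)]
  simp only [c] at h5 hn h3
  push_cast at h3
  linarith [le_abs_self K, neg_abs_le (Curv2.euler k X (Coh.structureModule X) : ℚ)]

/-- A numerically trivial module has the Euler characteristic of the structure sheaf. -/
theorem euler_eq_of_numTriv [IsIntegral X] (hd : topologicalKrullDim X = ((2 : ℕ) : WithBot ℕ∞)) {H N : X.Modules}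
    (hH : CohB1.IsAmple H) (hN : PicF.IsInvertible N)
    (h0 : ∀ M, PicF.IsInvertible M → dot k N M = 0) :
    Curv2.euler k X N = Curv2.euler k X (Coh.structureModule X) := by
  refine le_antisymm (euler_le_of_numTriv hd hH hN h0) ?_
  obtain ⟨N', hN', ⟨e⟩⟩ := M2.exists_inverse hN
  have h1 := euler_le_of_numTriv (k := k) hd hH hN' fun M hM => by
    rw [dot_inverse hd.le hN hN' e hM, h0 M hM, neg_zero]
  have h2 := euler_tensor_eq (k := k) N N'
  rw [CurveCoh17.euler_iso e, h0 N' hN', add_zero] at h2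
  have h3 : (Curv2.euler k X N' : ℚ) ≤ Curv2.euler k X (Coh.structureModule X) := by exact_mod_cast h1
  have : (Curv2.euler k X (Coh.structureModule X) : ℚ) ≤ Curv2.euler k X N := by linarith
  exact_mod_cast this

end Groth.Agent.NumPoly18
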