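import Groth.Agent.Lib.NumPoly18.SurfCones

/-!
# Configurations of curves on a smooth projective surface
-/

set_option autoImplicit false
set_option linter.style.haveILetI false
set_option maxHeartbeats 800000
set_option backward.isDefEq.respectTransparency false

universe u

open CategoryTheory CategoryTheory.Limits AlgebraicGeometry TopologicalSpace Opposite

namespace Groth.Agent.SurfR

open Groth.Agent Groth.Agent.NumPoly18 Groth.Agent.Snapper

variable {k : Type u} [Field k] {X : Scheme.{u}} [X.Over (Spec (CommRingCat.of k))]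
  [IsProper (X ↘ Spec (CommRingCat.of k))] [IsIntegral X]
  (hd : topologicalKrullDim X = ((2 : ℕ) : WithBot ℕ∞))
include hd

/-- A nonempty effective divisor has positive degree. -/
theorem cdeg_quot_pos {H : X.Modules} (hH : CohB1.IsAmple H) {I : X.IdealSheafData}
    (hI : BlowUp.IsEffCartierIdeal I) (hne : ((I.support : Set X)).Nonempty) : 0 < cdeg k H (ClSub.quotMod I) := by
  haveI : IsNoetherian X := CohFound.isNoetherian_of_isProper (X ↘ (Spec (CommRingCat.of k)))
  have hQ : Coh.IsCoh (ClSub.quotMod I) := CurveCoh17.isCoh_quotMod _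
  have hinv : PicF.IsInvertible (ClSub.idealMod I) := M2.isInvertible_idealMod I hI
  haveI : Mono (ClSub.idealModι I) := (M2.shortExact_idealMod I).mono_f
  obtain ⟨hC, hCd⟩ := dim_support_coker_of_mono (k := k) (d := 1) hd.le hinv
    (PicLoc.isInvertible_structureModule X) (ClSub.idealModι I)
  have hS := M2.shortExact_idealMod I
  haveI : Epi (ClSub.toSubscheme I) := hS.epi_g
  have e3 : cokernel (ClSub.idealModι I) ≅ ClSub.quotMod I :=
    IsColimit.coconePointUniqueUpToIso (cokernelIsCokernel _) hS.gIsCokernel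
  refine cdeg_pos_of_dim_one hH hQ (le_antisymm
    ((dim_le_of_subset (CohFound.support_subset_of_mono e3.inv) hCd).trans (by simp)) ?_)
  rw [support_quotMod]
  obtain ⟨x, hx⟩ := hne
  by_contra hlt
  push Not at hlt
  let f := X ↘ Spec (CommRingCat.of k)
  have hsd : ∀ y ∈ (I.support : Set X), VarDim.sdim f y = 0 := fun y hy => by
    have h1 : topologicalKrullDim (closure ({y} : Set X)) ≤ topologicalKrullDim (I.support : Set X) :=
      dim_le_of_subset (closure_minimal (Set.singleton_subset_iff.2 hy) I.support.isClosed') le_rfl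
    have h2 := h1.trans_lt hlt
    rw [VarDim.dim_closure_singleton f] at h2
    have : VarDim.sdim f y < 1 := by exact_mod_cast h2
    omega
  obtain ⟨U, hxU, g, hIU, hg0, hgm, hgen⟩ := SecDiv.exists_stalk_eqn hI hx
  have h1 := SecDiv.ringKrullDim_eq_one hg0 hgm (hgen fun y hy hyx => by
    by_contra hne'
    have := VarDim.sdim_lt_of_specializes f hyx hne'
    rw [hsd y hy, hsd x hx] at this
    exact lt_irrefl _ this)
  have h2 := ringKrullDim_stalk_of_sdim (k := k) hd x
  rw [h1, hsd x hx] at h2
  simp at h2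

omit hd in
/-- An effective divisor is nonnegative on the curves it does not contain. -/
theorem cdeg_pt_nonneg_of_divisor {I : X.IdealSheafData} (hI : BlowUp.IsEffCartierIdeal I) {M : X.Modules}
    (hM : PicF.IsInvertible M) (e : CohB1.tensorMod (ClSub.idealMod I) M ≅ Coh.structureModule X) {η : X}
    (hη : topologicalKrullDim (closure ({η} : Set X)) = 1) (hηI : η ∉ (I.support : Set X)) :
    0 ≤ cdeg k M (ptMod η) := by
  have hS := CurveCoh17.shortExact_tensorR (M2.shortExact_idealMod I) M (flat_stalk hM)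
  haveI := hS.mono_f
  haveI := hS.epi_g
  let f' := (M2.tensorR M).map (ClSub.idealModι I)
  let φ : Coh.structureModule X ⟶ M := e.inv ≫ f' ≫ (M2.tensorLUnit M).hom
  refine cdeg_pt_nonneg_of_section hM φ hη fun hm => hηI ?_
  rw [← support_quotMod]
  let eQ : cokernel φ ≅ (M2.tensorR M).obj (ClSub.quotMod I) :=
    cokernelEpiComp e.inv _ ≪≫ cokernelCompIsIso f' _ ≪≫
      IsColimit.coconePointUniqueUpToIso (cokernelIsCokernel f') hS.gIsCokernel
  exact support_tensor_subset (ClSub.quotMod I) M (CohFound.support_subset_of_mono eQ.hom hm)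

omit [IsProper (X ↘ Spec (CommRingCat.of k))] hd in
/-- Integral curves through their generic points. -/
theorem exists_conf {r : ℕ} (C : Fin r → X.IdealSheafData) (hC : Function.Injective C)
    (hCi : ∀ i, IsIntegral (C i).subscheme) (hCd : ∀ i, topologicalKrullDim ((C i).support : Set X) = 1) :
    ∃ ξ : Fin r → X, Function.Injective ξ ∧ ∀ i, C i = ptIdeal (ξ i) ∧
      topologicalKrullDim (closure ({ξ i} : Set X)) = 1 := by
  choose ξ h1 h2 using fun i => exists_eq_ptIdeal (C i) (hCi i) (hCd i)
  exact ⟨ξ, fun i j hij => hC (by rw [h1 i, h1 j, hij]), fun i => ⟨h1 i, h2 i⟩⟩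

variable [Smooth (X ↘ Spec (CommRingCat.of k))]

/-- The modules of a configuration of curves. -/
theorem exists_conf_modules {r : ℕ} (C : Fin r → X.IdealSheafData) (hC : Function.Injective C)
    (hCi : ∀ i, IsIntegral (C i).subscheme) (hCd : ∀ i, topologicalKrullDim ((C i).support : Set X) = 1) :
    ∃ M : Fin r → X.Modules, (∀ i, PicF.IsInvertible (M i)) ∧
      (∀ i, PicF.IsInvertible (ClSub.idealMod (C i))) ∧
      (∀ i, Nonempty (CohB1.tensorMod (ClSub.idealMod (C i)) (M i) ≅ Coh.structureModule X)) ∧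
      (∀ i Z, PicF.IsInvertible Z → dot k (M i) Z = cdeg k Z (ClSub.quotMod (C i))) ∧
      (∀ i Z, PicF.IsInvertible Z →
        (FGA.intNum k X 2 ![ClSub.idealMod (C i), Z] (Coh.structureModule X) : ℚ) = - dot k (M i) Z) ∧
      (∀ i j, (FGA.intNum k X 2 ![ClSub.idealMod (C i), ClSub.idealMod (C j)] (Coh.structureModule X) : ℚ) =
        dot k (M i) (M j)) ∧
      (∀ i j, i ≠ j → 0 ≤ dot k (M i) (M j)) ∧
      ∀ {H : X.Modules}, CohB1.IsAmple H → ∀ i, 0 < dot k (M i) H := by
  obtain ⟨ξ, hξ, hCξ⟩ := exists_conf C hC hCi hCd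
  have hE : ∀ i, BlowUp.IsEffCartierIdeal (C i) := fun i => by
    rw [(hCξ i).1]; exact isEffCartier_ptIdeal (k := k) hd (hCξ i).2
  have hI := fun i => M2.isInvertible_idealMod (C i) (hE i)
  choose M hM e using fun i => M2.exists_inverse (hI i)
  have hdot : ∀ i Z, PicF.IsInvertible Z → dot k (M i) Z = cdeg k Z (ClSub.quotMod (C i)) := fun i Z hZ =>
    dot_eq_cdeg_quot hd.le (hE i) (Iso.refl _) (hM i) (M2.tensorComm _ _ ≪≫ (e i).some) hZ
  have hsign : ∀ i Z, PicF.IsInvertible Z →
      (FGA.intNum k X 2 ![ClSub.idealMod (C i), Z] (Coh.structureModule X) : ℚ) = - dot k (M i) Z := fun i Z hZ => by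
    rw [intNum2 hd.le (hI i) hZ, dot_inverse hd.le (hI i) (hM i) (e i).some hZ, neg_neg]
  refine ⟨M, hM, hI, e, hdot, hsign, fun i j => ?_, fun i j hij => ?_, fun {H} hH i => ?_⟩
  · rw [hsign i _ (hI j), dot_comm (M i) (M j), dot_inverse hd.le (hI j) (hM j) (e j).some (hM i), dot_comm]
  · rw [dot_comm, hdot j _ (hM i), (hCξ j).1]
    refine cdeg_pt_nonneg_of_divisor (hE i) (hM i) (e i).some (hCξ j).2 fun hm => hij (hξ ?_)
    rw [(hCξ i).1, show ((ptIdeal (ξ i)).support : Set X) = closure {ξ i} from
      Scheme.IdealSheafData.coe_support_vanishingIdeal _] at hm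
    let f := X ↘ Spec (CommRingCat.of k)
    have hsp : ξ i ⤳ ξ j := specializes_iff_mem_closure.2 hm
    by_contra hne
    have := VarDim.sdim_lt_of_specializes f hsp hne
    rw [sdim_eq_one (k := k) (hCξ i).2, sdim_eq_one (k := k) (hCξ j).2] at this
    exact lt_irrefl _ this
  · haveI := hCi i
    rw [hdot i H hH.1]
    exact cdeg_pos_of_isAmple k (C i) (hCd i) hH

end Groth.Agent.SurfR

namespace Groth.Agent.SurfR.Conf

variable {R : Type*} [CommRing R] [LinearOrder R] [IsStrictOrderedRing R] {r : ℕ}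

/-- The value of a symmetric matrix on two vectors. -/
def pair (G : Fin r → Fin r → R) (a b : Fin r → R) : R := ∑ i, ∑ j, a i * b j * G i j

theorem pair_eq (G : Fin r → Fin r → R) (a b : Fin r → R) : pair G a b = ∑ j, b j * ∑ i, a i * G i j := by
  rw [pair, Finset.sum_comm]
  simp only [Finset.mul_sum]
  exact Finset.sum_congr rfl fun j _ => Finset.sum_congr rfl fun i _ => by ring

theorem pair_sub (G : Fin r → Fin r → R) (a b c : Fin r → R) :
    pair G (a - b) c = pair G a c - pair G b c := by
  simp only [pair, Pi.sub_apply, sub_mul, Finset.sum_sub_distrib]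

/-- Nonnegative vectors with disjoint supports pair nonnegatively. -/
theorem pair_nonneg {G : Fin r → Fin r → R} (hoff : ∀ i j, i ≠ j → 0 ≤ G i j) (a : Fin r → R) :
    0 ≤ pair G (fun i => max (a i) 0) (fun i => max (- a i) 0) :=
  Finset.sum_nonneg fun i _ => Finset.sum_nonneg fun j _ => by
    rcases eq_or_ne i j with rfl | h
    · rcases le_total (a i) 0 with h | h <;> simp [h]
    · exact mul_nonneg (mul_nonneg (le_max_right _ _) (le_max_right _ _)) (hoff i j h)

theorem eq_sub_parts (a : Fin r → R) : a = (fun i => max (a i) 0) - fun i => max (- a i) 0 :=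
  funext fun i => by rcases le_total (a i) 0 with h | h <;> simp [h]

/-- A vector killed by the form and by a positive functional vanishes. -/
theorem eq_zero_of_null {G : Fin r → Fin r → R} (hoff : ∀ i j, i ≠ j → 0 ≤ G i j) {h : Fin r → R}
    (hh : ∀ i, 0 < h i) (hneg : ∀ b : Fin r → R, (∀ i, 0 ≤ b i) → ∑ i, b i * h i ≠ 0 → pair G b b < 0)
    {a : Fin r → R} (ha : ∀ j, ∑ i, a i * G i j = 0) (hah : ∑ i, a i * h i = 0) : a = 0 := by
  classical
  set p : Fin r → R := fun i => max (a i) 0
  set q : Fin r → R := fun i => max (- a i) 0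
  have hpq : pair G q p = pair G p p := by
    have h0 : pair G a p = 0 := by
      rw [pair_eq]; exact Finset.sum_eq_zero fun j _ => by rw [ha j, mul_zero]
    rw [eq_sub_parts a, pair_sub] at h0
    exact (sub_eq_zero.1 h0).symm
  have hqp : 0 ≤ pair G q p := by
    have := pair_nonneg hoff (- a)
    simpa [p, q] using this
  have hp : ∀ i, p i = 0 := by
    by_contra hne
    push Not at hne
    obtain ⟨i, hi⟩ := hne
    have hpos : 0 < ∑ i, p i * h i :=
      Finset.sum_pos' (fun j _ => mul_nonneg (le_max_right _ _) (hh j).le)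
        ⟨i, Finset.mem_univ i, mul_pos (lt_of_le_of_ne (le_max_right _ _) (Ne.symm hi)) (hh i)⟩
    have := hneg p (fun j => le_max_right _ _) hpos.ne'
    linarith
  have hle : ∀ i, a i ≤ 0 := fun i => (le_max_left (a i) 0).trans (hp i).le
  funext i
  have := (Finset.sum_eq_zero_iff_of_nonpos fun j _ => mul_nonpos_of_nonpos_of_nonneg (hle j) (hh j).le).1 hah i
    (Finset.mem_univ i)
  exact (mul_eq_zero.1 this).resolve_right (hh i).ne'

/-- Zariski's lemma on negative definite forms. -/
theorem nonneg_of_pair_nonpos {G : Fin r → Fin r → R} (hoff : ∀ i j, i ≠ j → 0 ≤ G i j)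
    (hneg : ∀ b : Fin r → R, b ≠ 0 → pair G b b < 0) {s : Fin r → R} (hs : ∀ j, ∑ i, s i * G i j ≤ 0) :
    ∀ i, 0 ≤ s i := by
  classical
  set p : Fin r → R := fun i => max (s i) 0
  set q : Fin r → R := fun i => max (- s i) 0
  have h0 : pair G s q ≤ 0 := by
    rw [pair_eq]
    exact Finset.sum_nonpos fun j _ => mul_nonpos_of_nonneg_of_nonpos (le_max_right _ _) (hs j)
  rw [eq_sub_parts s, pair_sub] at h0
  have hpq : 0 ≤ pair G p q := pair_nonneg hoff s
  intro i
  by_contra hi
  push Not at hi
  have hq : q ≠ 0 := fun h => by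
    have := congrFun h i
    simp only [q, Pi.zero_apply] at this
    exact hi.not_ge (neg_nonpos.1 ((le_max_left _ _).trans this.le))
  have := hneg q hq
  linarith

end Groth.Agent.SurfR.Conf
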