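import Groth.Agent.Lib.NumPoly18.Big
import Groth.Agent.Lib.NumPoly18.Num
import Groth.Agent.Lib.NumPoly18.Surf
import Mathlib.Topology.Instances.ENNReal.Lemmas
import Mathlib.Order.Filter.ENNReal

/-!
# The growth of sections of powers
-/

set_option autoImplicit false
set_option linter.style.haveILetI false
set_option maxHeartbeats 800000
set_option backward.isDefEq.respectTransparency false

universe u

open CategoryTheory CategoryTheory.Limits AlgebraicGeometry TopologicalSpace Opposite Filter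
open scoped ENNReal

namespace Groth.Agent.NumPoly18

open Groth.Agent Groth.Agent.Snapper

variable {X : Scheme.{u}} (k : Type u) [Field k] [X.Over (Spec (CommRingCat.of k))]

/-- The sections of the `n`-th power, measured against `n ^ d`. -/
noncomputable def volSeq (L : X.Modules) (d n : ℕ) : ℝ≥0∞ :=
  (Module.finrank k (Coh.HH X (CohB1.tensorPow L n) 0) : ℝ≥0∞) / (n : ℝ≥0∞) ^ d

variable [IsIntegral X] [IsProper (X ↘ Spec (CommRingCat.of k))]

theorem volSeq_ge {L : X.Modules} {d n : ℕ} (hn : 1 ≤ n) {C : ℚ}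
    (h : C * (n : ℚ) ^ d ≤ (Module.finrank k (Coh.HH X (CohB1.tensorPow L n) 0) : ℚ)) :
    ENNReal.ofReal (C : ℝ) ≤ volSeq k L d n := by
  have hn0 : (0 : ℝ) < (n : ℝ) ^ d := pow_pos (Nat.cast_pos.2 hn) d
  rw [volSeq, ← ENNReal.ofReal_natCast (Module.finrank k _), ← ENNReal.ofReal_natCast n,
    ← ENNReal.ofReal_pow (Nat.cast_nonneg n), ← ENNReal.ofReal_div_of_pos hn0]
  refine ENNReal.ofReal_le_ofReal ((le_div_iff₀ hn0).2 ?_)
  exact_mod_cast h

/-- A positive upper limit makes every ample module inject into a power. -/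
theorem mono_of_limsup_pos {d : ℕ} (hd : topologicalKrullDim X = (d : WithBot ℕ∞)) {A : X.Modules}
    (hA : CohB1.IsAmple A) {L : X.Modules} (hL : PicF.IsInvertible L) (h : 0 < limsup (volSeq k L d) atTop) :
    ∃ (m : ℕ) (φ : A ⟶ CohB1.tensorPow L m), 0 < m ∧ Mono φ := by
  obtain ⟨q, hq0, hq, hqlt⟩ := ENNReal.lt_iff_exists_rat_btwn.1 h
  have hq' : (0 : ℝ) < (q : ℝ) := Real.toNNReal_pos.1 (ENNReal.coe_pos.1 hq)
  refine mono_of_growth_freq k hd hA hL (C := q) (by exact_mod_cast hq') fun N => ?_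
  obtain ⟨n, hn, hn'⟩ := Filter.frequently_atTop.1 (Filter.frequently_lt_of_lt_limsup (by isBoundedDefault) hqlt) (N + 1)
  refine ⟨n, by omega, ?_⟩
  have hn0 : (0 : ℝ) < (n : ℝ) ^ d := pow_pos (Nat.cast_pos.2 (by omega)) d
  rw [volSeq, ← ENNReal.ofReal_natCast (Module.finrank k _), ← ENNReal.ofReal_natCast n,
    ← ENNReal.ofReal_pow (Nat.cast_nonneg n), ← ENNReal.ofReal_div_of_pos hn0] at hn'
  have h' := (ENNReal.ofReal_lt_ofReal_iff_of_nonneg hq'.le).1 hn'
  rw [lt_div_iff₀ hn0] at h'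
  exact_mod_cast h'.le

/-- A module with an injection from an ample one has a positive lower limit. -/
theorem liminf_pos_of_mono {d : ℕ} (hd : topologicalKrullDim X = (d : WithBot ℕ∞)) {A : X.Modules}
    (hA : CohB1.IsAmple A) {L : X.Modules} (hL : PicF.IsInvertible L) {m : ℕ} (hm : 0 < m)
    (φ : A ⟶ CohB1.tensorPow L m) [Mono φ] : 0 < liminf (volSeq k L d) atTop := by
  obtain ⟨C, hC, n₁, hn₁⟩ := growth_of_mono k hd hA hL hm φ
  exact lt_of_lt_of_le (ENNReal.ofReal_pos.2 (show (0 : ℝ) < (C : ℝ) by exact_mod_cast hC))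
    (Filter.le_liminf_of_le (by isBoundedDefault) (eventually_atTop.2 ⟨n₁ + 1, fun n hn =>
      volSeq_ge k (by omega) (hn₁ n (by omega))⟩))

/-- The upper limit along multiples. -/
theorem limsup_volSeq_mul {d : ℕ} (hd : topologicalKrullDim X = (d : WithBot ℕ∞)) {A : X.Modules}
    (hA : CohB1.IsAmple A) {L : X.Modules} (hL : PicF.IsInvertible L) {a : ℕ} (ha : 0 < a) :
    limsup (fun m => volSeq k L d (a * m)) atTop = limsup (volSeq k L d) atTop := by
  haveI : IsNoetherian X := CohFound.isNoetherian_of_isProper (X ↘ (Spec (CommRingCat.of k)))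
  have hle : limsup (fun m => volSeq k L d (a * m)) atTop ≤ limsup (volSeq k L d) atTop := by
    rw [show (fun m => volSeq k L d (a * m)) = volSeq k L d ∘ (fun m => a * m) from rfl, Filter.limsup_comp]
    exact Filter.limsup_le_limsup_of_le (f := map (fun m => a * m) atTop)
      (tendsto_atTop_atTop.2 fun b => ⟨b, fun c hc => hc.trans (Nat.le_mul_of_pos_left c ha)⟩) (by isBoundedDefault)
      (by isBoundedDefault)
  rcases eq_or_lt_of_le (zero_le : 0 ≤ limsup (volSeq k L d) atTop) with h | h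
  · exact le_antisymm hle (h ▸ zero_le)
  obtain ⟨p, φ, hp, hφ⟩ := mono_of_limsup_pos k hd hA hL h
  haveI := hφ
  obtain ⟨C, hC, n₁, hn₁⟩ := growth_of_mono k hd hA hL hp φ
  have hsec : ∀ t, n₁ + 1 ≤ t → HasMonoSec (CohB1.tensorPow L t) := fun t ht => by
    refine hasMonoSec_of_nontrivial k (M2.isInvertible_tensorPow hL t) (Module.nontrivial_of_finrank_pos (R := k) ?_)
    have h0 : (0 : ℚ) < C * (t : ℚ) ^ d := mul_pos hC (pow_pos (Nat.cast_pos.2 (by omega)) d)
    exact_mod_cast h0.trans_le (hn₁ t (by omega))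
  have hmono : ∀ m t, n₁ + 1 ≤ t → Module.finrank k (Coh.HH X (CohB1.tensorPow L m) 0) ≤
      Module.finrank k (Coh.HH X (CohB1.tensorPow L (t + m)) 0) := fun m t ht => by
    obtain ⟨ψ, hψ⟩ := exists_mono_of_hasMonoSec (hsec t ht) (M2.isInvertible_tensorPow hL m)
      (M2.tensorPowAdd L t m).symm
    haveI := hψ
    exact finrank_h0_le_of_mono k ψ (isCoh_of_isInvertible (M2.isInvertible_tensorPow hL _))
  let T : ℕ := n₁ + 1 + a
  let τ : ℕ → ℕ := fun m => (m + T) / a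
  have hτ : ∀ m, m + n₁ + 1 ≤ a * τ m ∧ a * τ m ≤ m + T := fun m => by
    refine ⟨?_, Nat.mul_div_le _ _⟩
    have h1 := Nat.div_add_mod (m + T) a
    have h2 := Nat.mod_lt (m + T) ha
    simp only [τ]
    omega
  have hτlim : Tendsto τ atTop atTop := tendsto_atTop_atTop.2 fun b => ⟨a * b, fun m hm =>
    (Nat.le_div_iff_mul_le ha).2 (by rw [mul_comm]; omega)⟩
  refine le_antisymm hle ?_
  have key : ∀ j : ℕ, 0 < j → limsup (volSeq k L d) atTop ≤
      ((1 : ℝ≥0∞) + (j : ℝ≥0∞)⁻¹) ^ d * limsup (fun m => volSeq k L d (a * m)) atTop := by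
    intro j hj
    have hev : ∀ᶠ m in atTop, volSeq k L d m ≤ ((1 : ℝ≥0∞) + (j : ℝ≥0∞)⁻¹) ^ d * volSeq k L d (a * τ m) := by
      refine eventually_atTop.2 ⟨j * T + 1, fun m hm => ?_⟩
      obtain ⟨h1, h2⟩ := hτ m
      obtain ⟨t, ht⟩ : ∃ t, a * τ m = t + m := ⟨a * τ m - m, by omega⟩
      have hf := hmono m t (by omega)
      rw [← ht] at hf
      have hm0 : (m : ℝ≥0∞) ≠ 0 := Nat.cast_ne_zero.2 (by omega)
      have hs : ((a * τ m : ℕ) : ℝ≥0∞) ≤ ((1 : ℝ≥0∞) + (j : ℝ≥0∞)⁻¹) * m := by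
        refine (Nat.cast_le.2 h2).trans ?_
        rw [Nat.cast_add, add_mul, one_mul, mul_comm ((j : ℝ≥0∞)⁻¹), ← div_eq_mul_inv]
        refine add_le_add le_rfl ((ENNReal.le_div_iff_mul_le (Or.inl (Nat.cast_ne_zero.2 (by omega)))
          (Or.inl (ENNReal.natCast_ne_top j))).2 ?_)
        rw [← Nat.cast_mul]
        exact Nat.cast_le.2 (by rw [mul_comm]; omega)
      have hne : ((1 : ℝ≥0∞) + (j : ℝ≥0∞)⁻¹) ^ d ≠ ⊤ :=
        ENNReal.pow_ne_top (ENNReal.add_ne_top.2 ⟨ENNReal.one_ne_top, ENNReal.inv_ne_top.2 (Nat.cast_ne_zero.2 (by omega))⟩)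
      have hne0 : ((1 : ℝ≥0∞) + (j : ℝ≥0∞)⁻¹) ^ d ≠ 0 := pow_ne_zero _ (by simp)
      calc volSeq k L d m ≤ (Module.finrank k (Coh.HH X (CohB1.tensorPow L (a * τ m)) 0) : ℝ≥0∞) / (m : ℝ≥0∞) ^ d :=
            ENNReal.div_le_div_right (Nat.cast_le.2 hf) _
        _ = ((1 : ℝ≥0∞) + (j : ℝ≥0∞)⁻¹) ^ d * ((Module.finrank k (Coh.HH X (CohB1.tensorPow L (a * τ m)) 0) : ℝ≥0∞) /
              (((1 : ℝ≥0∞) + (j : ℝ≥0∞)⁻¹) * m) ^ d) := by
            rw [mul_pow, ← mul_div_assoc, ENNReal.mul_div_mul_left _ _ hne0 hne]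
        _ ≤ _ := mul_le_mul_right (ENNReal.div_le_div_left (pow_le_pow_left₀ zero_le hs d) _) _
    refine (Filter.limsup_le_limsup hev).trans ?_
    rw [ENNReal.limsup_const_mul_of_ne_top
      (ENNReal.pow_ne_top (ENNReal.add_ne_top.2 ⟨ENNReal.one_ne_top, ENNReal.inv_ne_top.2 (Nat.cast_ne_zero.2 (by omega))⟩))]
    refine mul_le_mul_right ?_ _
    rw [show (fun m => volSeq k L d (a * τ m)) = (fun m => volSeq k L d (a * m)) ∘ τ from rfl, Filter.limsup_comp]
    exact Filter.limsup_le_limsup_of_le hτlim (by isBoundedDefault) (by isBoundedDefault)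
  have ht : Tendsto (fun j : ℕ => ((1 : ℝ≥0∞) + (j : ℝ≥0∞)⁻¹) ^ d * limsup (fun m => volSeq k L d (a * m)) atTop)
      atTop (nhds (limsup (fun m => volSeq k L d (a * m)) atTop)) := by
    have h1 : Tendsto (fun j : ℕ => ((1 : ℝ≥0∞) + (j : ℝ≥0∞)⁻¹) ^ d) atTop (nhds 1) := by
      have := ((ENNReal.continuous_pow d).tendsto _).comp
        (tendsto_const_nhds (x := (1 : ℝ≥0∞)).add ENNReal.tendsto_inv_nat_nhds_zero)
      simpa [Function.comp_def] using this
    have := ENNReal.Tendsto.mul_const (b := limsup (fun m => volSeq k L d (a * m)) atTop) h1 (Or.inl one_ne_zero)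
    simpa using this
  exact ge_of_tendsto ht (eventually_atTop.2 ⟨1, fun j hj => key j hj⟩)

omit [IsIntegral X] [IsProper (X ↘ Spec (CommRingCat.of k))] in
theorem volSeq_mul_eq {L : X.Modules} {d a m : ℕ} (ha : 0 < a) :
    (Module.finrank k (Coh.HH X (CohB1.tensorPow L (a * m)) 0) : ℝ≥0∞) / (m : ℝ≥0∞) ^ d =
      (a : ℝ≥0∞) ^ d * volSeq k L d (a * m) := by
  rw [volSeq, Nat.cast_mul, mul_pow, ← mul_div_assoc,
    ENNReal.mul_div_mul_left _ _ (pow_ne_zero _ (Nat.cast_ne_zero.2 ha.ne'))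
      (ENNReal.pow_ne_top (ENNReal.natCast_ne_top a))]

omit [IsIntegral X] in
theorem numEq_tensor_pow {A N : X.Modules} (hA : PicF.IsInvertible A) (hN : PicF.IsInvertible N)
    (h : Pic13.IsNumEquivZero k X N) (t : ℕ) : NumEq k A (CohB1.tensorMod A (CohB1.tensorPow N t)) := by
  intro ξ hξ
  haveI : IsNoetherian X := CohFound.isNoetherian_of_isProper (X ↘ (Spec (CommRingCat.of k)))
  obtain ⟨hI, -⟩ := isIntegral_pt ξ
  have hY : topologicalKrullDim (ptIdeal ξ).subscheme = 1 :=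
    (AmpleFin18.dim_subscheme _ (Scheme.IdealSheafData.coe_support_vanishingIdeal _)).trans hξ
  have h0 : cdeg k N (ptMod ξ) = 0 := by
    have := curveDeg_eq_cdeg (k := k) (ptIdeal ξ).subschemeι hY.le hN
    rw [h _ (ptIdeal ξ).subschemeι hI hY] at this
    exact this.symm.trans Int.cast_zero
  have hd1 : topologicalKrullDim (CohB1.support (ptMod ξ)) ≤ ((0 + 1 : ℕ) : WithBot ℕ∞) :=
    Snapper.dim_le_of_subset (support_ptMod ξ) (by rw [hξ]; rfl)
  have hM : ∀ i : Fin 0, PicF.IsInvertible ((fun _ => A) i) := fun i => i.elim0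
  have e1 := md_cons_tensor (k := k) (r := 0) hA (M2.isInvertible_tensorPow hN t) hM (isCoh_ptMod ξ) hd1
  have e2 := md_cons_pow (k := k) (r := 0) hN hM (isCoh_ptMod ξ) hd1 t
  rw [cdeg, const_eq_cons, Subsingleton.elim (fun _ : Fin 0 => N) (fun _ : Fin 0 => A)] at h0
  rw [cdeg, cdeg, const_eq_cons, const_eq_cons,
    Subsingleton.elim (fun _ : Fin 0 => CohB1.tensorMod A (CohB1.tensorPow N t)) (fun _ : Fin 0 => A), e1, e2, h0,
    mul_zero, add_zero]

/-- Twisting by a numerically trivial module does not lower the upper limit. -/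
theorem limsup_volSeq_le_tensor {d : ℕ} (hd : topologicalKrullDim X = (d : WithBot ℕ∞)) {A : X.Modules}
    (hA : CohB1.IsAmple A) {L N : X.Modules} (hL : PicF.IsInvertible L) (hN : PicF.IsInvertible N)
    (hnum : Pic13.IsNumEquivZero k X N) :
    limsup (volSeq k L d) atTop ≤ limsup (volSeq k (CohB1.tensorMod L N) d) atTop := by
  haveI : IsNoetherian X := CohFound.isNoetherian_of_isProper (X ↘ (Spec (CommRingCat.of k)))
  rcases eq_or_lt_of_le (zero_le : 0 ≤ limsup (volSeq k L d) atTop) with h | h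
  · exact h ▸ zero_le
  obtain ⟨p, φ, hp, hφ⟩ := mono_of_limsup_pos k hd hA hL h
  haveI := hφ
  obtain ⟨A', hA', ⟨e⟩⟩ := M2.exists_inverse hA.1
  have hG := M2.isInvertible_tensor (M2.isInvertible_tensorPow hL p) hA'
  have hGs : HasMonoSec (CohB1.tensorMod (CohB1.tensorPow L p) A') := hasMonoSec_of_mono φ hA' e
  have hM := M2.isInvertible_tensor hL hN
  have key : ∀ i : ℕ, 0 < i → limsup (volSeq k L d) atTop ≤
      ((1 : ℝ≥0∞) + (i : ℝ≥0∞)⁻¹) ^ d * limsup (volSeq k (CohB1.tensorMod L N) d) atTop := by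
    intro i hi
    let q := p * i
    let j := p + q
    have hq : 0 < q := Nat.mul_pos hp hi
    have hB : CohB1.IsAmple (CohB1.tensorMod A (CohB1.tensorPow N j)) :=
      isAmple_of_numEq (k := k) hA.1 (M2.isInvertible_tensor hA.1 (M2.isInvertible_tensorPow hN j))
        (numEq_tensor_pow k hA.1 hN hnum j) hA
    obtain ⟨m₀, hm₀⟩ := eventually_hasMonoSec k hB (PicLoc.isInvertible_structureModule X)
    let iso₀ : CohB1.tensorMod (CohB1.tensorMod (CohB1.tensorMod (CohB1.tensorPow L p) A')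
        (CohB1.tensorMod A (CohB1.tensorPow N j))) (CohB1.tensorPow L q) ≅
        CohB1.tensorPow (CohB1.tensorMod L N) j :=
      M2.tensorIso (M2.tensorAssoc _ _ _ ≪≫ M2.tensorIso (Iso.refl _)
        ((M2.tensorAssoc _ _ _).symm ≪≫ M2.tensorIso (M2.tensorComm A' A ≪≫ e) (Iso.refl _) ≪≫ M2.tensorLUnit _))
        (Iso.refl _) ≪≫ M2.tensorAssoc _ _ _ ≪≫ M2.tensorIso (Iso.refl _) (M2.tensorComm _ _) ≪≫
        (M2.tensorAssoc _ _ _).symm ≪≫ M2.tensorIso (M2.tensorPowAdd L p q).symm (Iso.refl _) ≪≫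
        (M2.tensorPowMul L N j).symm
    have hle : ∀ m, m₀ ≤ m → Module.finrank k (Coh.HH X (CohB1.tensorPow L (q * m)) 0) ≤
        Module.finrank k (Coh.HH X (CohB1.tensorPow (CohB1.tensorMod L N) (j * m)) 0) := by
      intro m hm
      have hs := (((hm₀ m hm).of_iso (M2.tensorLUnit _))).tensor (hGs.pow hG m)
        (M2.isInvertible_tensorPow hB.1 m)
      obtain ⟨ψ, hψ⟩ := exists_mono_of_hasMonoSec hs (M2.isInvertible_tensorPow hL (q * m))
        (C := CohB1.tensorPow (CohB1.tensorMod L N) (j * m))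
        (M2.tensorIso (M2.tensorPowMul _ _ m).symm (M2.tensorPowPow L q m).symm ≪≫ (M2.tensorPowMul _ _ m).symm ≪≫
          M2.tensorPowIso iso₀ m ≪≫ M2.tensorPowPow _ j m)
      haveI := hψ
      exact finrank_h0_le_of_mono k ψ (isCoh_of_isInvertible (M2.isInvertible_tensorPow hM _))
    have hev : ∀ᶠ m in atTop, (q : ℝ≥0∞) ^ d * volSeq k L d (q * m) ≤
        (j : ℝ≥0∞) ^ d * volSeq k (CohB1.tensorMod L N) d (j * m) := by
      refine eventually_atTop.2 ⟨m₀, fun m hm => ?_⟩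
      rw [← volSeq_mul_eq k hq, ← volSeq_mul_eq k (show 0 < j by omega)]
      exact ENNReal.div_le_div_right (Nat.cast_le.2 (hle m hm)) _
    have hlim := Filter.limsup_le_limsup hev
    rw [ENNReal.limsup_const_mul_of_ne_top (ENNReal.pow_ne_top (ENNReal.natCast_ne_top q)),
      ENNReal.limsup_const_mul_of_ne_top (ENNReal.pow_ne_top (ENNReal.natCast_ne_top j)),
      limsup_volSeq_mul k hd hA hL hq, limsup_volSeq_mul k hd hA hM (show 0 < j by omega)] at hlim
    have hj : (j : ℝ≥0∞) = (q : ℝ≥0∞) * ((1 : ℝ≥0∞) + (i : ℝ≥0∞)⁻¹) := by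
      simp only [j, q, Nat.cast_add, Nat.cast_mul]
      rw [mul_add, mul_one, mul_assoc, ENNReal.mul_inv_cancel (Nat.cast_ne_zero.2 hi.ne') (ENNReal.natCast_ne_top i),
        mul_one, add_comm]
    rw [hj, mul_pow, mul_assoc] at hlim
    exact (ENNReal.mul_le_mul_iff_right (pow_ne_zero _ (Nat.cast_ne_zero.2 hq.ne'))
      (ENNReal.pow_ne_top (ENNReal.natCast_ne_top q))).1 hlim
  have ht : Tendsto (fun i : ℕ => ((1 : ℝ≥0∞) + (i : ℝ≥0∞)⁻¹) ^ d * limsup (volSeq k (CohB1.tensorMod L N) d) atTop)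
      atTop (nhds (limsup (volSeq k (CohB1.tensorMod L N) d) atTop)) := by
    have h1 : Tendsto (fun j : ℕ => ((1 : ℝ≥0∞) + (j : ℝ≥0∞)⁻¹) ^ d) atTop (nhds 1) := by
      have := ((ENNReal.continuous_pow d).tendsto _).comp
        (tendsto_const_nhds (x := (1 : ℝ≥0∞)).add ENNReal.tendsto_inv_nat_nhds_zero)
      simpa [Function.comp_def] using this
    have := ENNReal.Tendsto.mul_const (b := limsup (volSeq k (CohB1.tensorMod L N) d) atTop) h1 (Or.inl one_ne_zero)
    simpa using this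
  exact ge_of_tendsto ht (eventually_atTop.2 ⟨1, fun j hj => key j hj⟩)

end Groth.Agent.NumPoly18
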